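import Groth.Agent.RefX.Reflexive
import Groth.Agent.H23.TensorDesc
import Groth.Agent.AmpleX.Generated
import Groth.Agent.KFlatLib.Scheme.TensorAssoc
import Groth.Agent.QCoh.LocFree
import Groth.Agent.Lib.CurveBundle

/-!
The adjunction between tensoring with a vector bundle and tensoring with its dual.
-/

set_option linter.style.haveILetI false
set_option linter.unusedSectionVars false
set_option backward.isDefEq.respectTransparency false
set_option backward.isDefEq.respectTransparency.types false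
set_option synthInstance.maxHeartbeats 100000
set_option maxHeartbeats 1000000
set_option autoImplicit false

universe u

open CategoryTheory CategoryTheory.Limits AlgebraicGeometry TopologicalSpace Opposite MonoidalCategory
open scoped TensorProduct

namespace Groth.Agent.VBCurvesLib

open Groth.Agent

variable {X : Scheme.{u}} {E A B B' P : X.Modules}

/-- The comparison map from the tensor product of stalks to the stalk of the tensor product. -/
noncomputable def tensorStalkMap (M N : X.Modules) (x : X) :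
    (M.presheaf.stalk x ⊗[X.presheaf.stalk x] N.presheaf.stalk x) →ₗ[X.presheaf.stalk x]
      (CohB1.tensorMod M N).presheaf.stalk x :=
  ((KFlatLib.stalkP x).map (KFlatLib.unitShP (CohB1.toPMod M ⊗ CohB1.toPMod N))).hom ∘ₗ
    (KFlatLib.tensorStalkEquiv (CohB1.toPMod M) (CohB1.toPMod N)).toLinearMap

theorem tensorStalkMap_germ {M N : X.Modules} {U : X.Opens} {x : X} (hx : x ∈ U) (m : Γ(M, U))
    (n : Γ(N, U)) :
    tensorStalkMap M N x (M.presheaf.germ U x hx m ⊗ₜ N.presheaf.germ U x hx n) =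
      (CohB1.tensorMod M N).presheaf.germ U x hx (InvX.tmul m n) :=
  (congrArg ((KFlatLib.stalkP x).map (KFlatLib.unitShP (CohB1.toPMod M ⊗ CohB1.toPMod N))).hom
    (KFlatLib.ofTensor_germ U hx _ _)).trans (KFlatLib.stalkModMap_germ _ U hx _)

theorem tensorStalkMap_bijective (M N : X.Modules) (x : X) :
    Function.Bijective (tensorStalkMap M N x) := by
  haveI := KFlatLib.isIso_stalk_unitShP (x := x) (CohB1.toPMod M ⊗ CohB1.toPMod N)
  exact (ConcreteCategory.bijective_of_isIso
    ((KFlatLib.stalkP x).map (KFlatLib.unitShP (CohB1.toPMod M ⊗ CohB1.toPMod N)))).comp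
    (KFlatLib.tensorStalkEquiv (CohB1.toPMod M) (CohB1.toPMod N)).bijective

/-- Two germs are germs of sections on a common open. -/
theorem exists_germ_pair (M N : X.Modules) {x : X} (m : M.presheaf.stalk x) (n : N.presheaf.stalk x) :
    ∃ (W : X.Opens) (hW : x ∈ W) (a : Γ(M, W)) (b : Γ(N, W)),
      M.presheaf.germ W x hW a = m ∧ N.presheaf.germ W x hW b = n := by
  obtain ⟨U, hU, a, rfl⟩ := TopCat.Presheaf.exists_germ_eq M.presheaf m
  obtain ⟨V, hV, b, rfl⟩ := TopCat.Presheaf.exists_germ_eq N.presheaf n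
  exact ⟨U ⊓ V, ⟨hU, hV⟩, AModX.res M inf_le_left a, AModX.res N inf_le_right b,
    RefX.germ_res M inf_le_left _ a, RefX.germ_res N inf_le_right _ b⟩

/-- Maps are equal when their stalk maps are. -/
theorem hom_ext_stalk {M N : X.Modules} (f g : M ⟶ N)
    (h : ∀ x, RefHull.stalkMapₗ f x = RefHull.stalkMapₗ g x) : f = g := by
  refine Scheme.Modules.hom_ext _ _ fun U => ConcreteCategory.hom_ext _ _ fun m =>
    ZClosLib.section_ext N _ _ fun y hy => ?_
  rw [← RefHull.stalkMapₗ_germ f y hy m, ← RefHull.stalkMapₗ_germ g y hy m, h y]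

/-- Maps out of a tensor product are determined on pure tensors of sections. -/
theorem hom_ext_tmul {M N : X.Modules} {f g : CohB1.tensorMod M N ⟶ P}
    (h : ∀ (U : X.Opens) (m : Γ(M, U)) (n : Γ(N, U)), f.app U (InvX.tmul m n) = g.app U (InvX.tmul m n)) :
    f = g := by
  refine hom_ext_stalk f g fun x => ?_
  have e : (RefHull.stalkMapₗ f x).comp (tensorStalkMap M N x) =
      (RefHull.stalkMapₗ g x).comp (tensorStalkMap M N x) := by
    refine TensorProduct.ext' fun m n => ?_
    obtain ⟨W, hW, a, b, rfl, rfl⟩ := exists_germ_pair M N m n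
    rw [LinearMap.comp_apply, LinearMap.comp_apply, tensorStalkMap_germ, RefHull.stalkMapₗ_germ,
      RefHull.stalkMapₗ_germ, h]
  refine LinearMap.ext fun z => ?_
  obtain ⟨w, rfl⟩ := (tensorStalkMap_bijective M N x).2 z
  exact LinearMap.congr_fun e w

/-- The value of `f ▷ N` and `M ◁ g` on a pure tensor. -/
theorem app_map_tmul {M N N' : X.Modules} (g : N ⟶ N') (U : X.Opens) (m : Γ(M, U)) (n : Γ(N, U)) :
    ((DCoh.tensorBi.obj M).map g).app U (InvX.tmul m n) = InvX.tmul m (g.app U n) :=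
  (congrArg (fun φ => (PresheafOfModules.Hom.app φ (op U)).hom (KFlatLib.tm m n))
    (KFlatLib.unitShP_naturality (DCoh.toP.obj M ◁ DCoh.toP.map g))).symm.trans rfl

/-- The value of a descended map on a pure tensor. -/
theorem desc_app {M N : X.Modules} (β : H23.TensorDesc.Bilin M N P) (U : X.Opens) (m : Γ(M, U)) (n : Γ(N, U)) :
    (H23.TensorDesc.desc β).app U (InvX.tmul m n) = β.b U m n :=
  H23.TensorDesc.desc_tmul β U m n

theorem unitStalk_symm_germ {U : X.Opens} {x : X} (hx : x ∈ U) (r : Γ(X, U)) :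
    (RefX.unitStalk x).symm ((Coh.structureModule X).presheaf.germ U x hx
      (show Γ(Coh.structureModule X, U) from r)) = X.presheaf.germ U x hx r := by
  refine (LinearEquiv.symm_apply_eq _).2 (Eq.symm ?_)
  show X.presheaf.germ U x hx r • (Coh.structureModule X).presheaf.germ ⊤ x trivial _ = _
  rw [← RefX.germ_res (Coh.structureModule X) (le_top : U ≤ ⊤) hx, ← QCoh.germ_smul']
  congr 1
  show r * (X.presheaf.map (homOfLE le_top).op) 1 = r
  rw [map_one, mul_one]

/-- The coefficient functional of a section of the dual. -/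
noncomputable def coef {U : X.Opens} (t : Γ(RefHull.dual E, U)) (y : U) :
    E.presheaf.stalk y.1 →ₗ[X.presheaf.stalk y.1] X.presheaf.stalk y.1 :=
  (RefX.unitStalk y.1).symm.toLinearMap ∘ₗ t.1 y

/-- The rank one section `v ↦ t(v) n`. -/
noncomputable def rankOne {U : X.Opens} (t : Γ(RefHull.dual E, U)) (n : Γ(B, U)) :
    Γ(RefHull.homSh E B, U) :=
  ⟨fun y => (coef t y).smulRight (B.presheaf.germ U y.1 y.2 n), fun V i m x => by
    refine ⟨V, x.2, 𝟙 V, (show Γ(X, V) from RefX.app i.le t m) • AModX.res B i.le n, fun y => ?_⟩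
    rw [QCoh.germ_smul', RefX.germ_res]
    refine congrArg (fun c : X.presheaf.stalk y.1 => c • (_ : B.presheaf.stalk y.1)) ?_
    rw [← unitStalk_symm_germ y.2 (show Γ(X, V) from RefX.app i.le t m)]
    exact congrArg (RefX.unitStalk y.1).symm (RefX.germ_app i.le t m y.2).symm⟩

theorem rankOne_val {U : X.Opens} (t : Γ(RefHull.dual E, U)) (n : Γ(B, U)) (y : U) :
    (rankOne t n).1 y = (coef t y).smulRight (B.presheaf.germ U y.1 y.2 n) := rfl

variable (E B) in
/-- The bilinear pairing `(t, n) ↦ (v ↦ t(v) n)`. -/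
noncomputable def thetaBilin :
    H23.TensorDesc.Bilin (RefHull.dual E) B (RefHull.homSh E B) where
  b _ t n := rankOne t n
  add_left U t t' n := RefX.sect_ext fun y => LinearMap.ext fun v => by
    show (RefX.unitStalk y.1).symm (t.1 y v + t'.1 y v) • (B.presheaf.germ U y.1 y.2 n) = _
    rw [map_add, add_smul]
    rfl
  smul_left U r t n := RefX.sect_ext fun y => LinearMap.ext fun v => by
    show (RefX.unitStalk y.1).symm ((r • t).1 y v) • (B.presheaf.germ U y.1 y.2 n) = (r • rankOne t n).1 y v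
    rw [RefX.smul_val, RefX.smul_val, LinearMap.smul_apply, map_smul, smul_eq_mul, mul_smul]
    rfl
  add_right U t n n' := RefX.sect_ext fun y => LinearMap.ext fun v => by
    show coef t y v • B.presheaf.germ U y.1 y.2 (n + n') = _
    rw [map_add, smul_add]
    rfl
  smul_right U r t n := RefX.sect_ext fun y => LinearMap.ext fun v => by
    show coef t y v • B.presheaf.germ U y.1 y.2 (r • n) = (r • rankOne t n).1 y v
    rw [QCoh.germ_smul', RefX.smul_val, smul_comm]
    rfl
  res {U V} h t n := RefX.sect_ext fun y => LinearMap.ext fun v => by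
    show coef t ⟨y.1, h y.2⟩ v • B.presheaf.germ U y.1 _ n =
      coef (AModX.res (RefHull.dual E) h t) y v • B.presheaf.germ V y.1 y.2 (AModX.res B h n)
    rw [RefX.germ_res]
    rfl

variable (E B) in
/-- The canonical map `dual E ⊗ B ⟶ 𝓗om(E, B)`. -/
noncomputable def theta : CohB1.tensorMod (RefHull.dual E) B ⟶ RefHull.homSh E B :=
  H23.TensorDesc.desc (thetaBilin E B)

theorem theta_tmul {U : X.Opens} (t : Γ(RefHull.dual E, U)) (n : Γ(B, U)) :
    (theta E B).app U (InvX.tmul t n) = rankOne t n := desc_app _ _ _ _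

theorem isIso_theta [IsLocallyNoetherian X] (hE : FlatMod.IsFinLocFree E) : IsIso (theta E B) := by
  have hc : Coh.IsCoh E := CurveDeg.isCoh_of_isFinLocFree hE
  have hFP := QCoh.isCoh_iff_isFP.1 hc
  refine ZClosLib.isIso_of_stalkMap_bijective _ fun x => ?_
  haveI := QCoh.free_stalk_of_isFinLocFree hE x
  haveI := CurveBundle.finite_stalk_of_coh hc x
  let R := X.presheaf.stalk x
  let Φ : (RefHull.dual E).presheaf.stalk x ⊗[R] B.presheaf.stalk x →ₗ[R] RefHull.StalkHom E B x :=
    (RefHull.evalStalk E B x).comp ((RefHull.stalkMapₗ (theta E B) x).comp (tensorStalkMap _ _ x))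
  let Ψ : (RefHull.dual E).presheaf.stalk x ⊗[R] B.presheaf.stalk x →ₗ[R] RefHull.StalkHom E B x :=
    (dualTensorHom R (E.presheaf.stalk x) (B.presheaf.stalk x)).comp
      (TensorProduct.congr (RefX.dualStalk hFP x) (LinearEquiv.refl R _)).toLinearMap
  have e : Φ = Ψ := by
    refine TensorProduct.ext' fun f b => ?_
    obtain ⟨W, hW, t, n, rfl, rfl⟩ := exists_germ_pair _ _ f b
    refine LinearMap.ext fun v => ?_
    show RefHull.evalStalk E B x (RefHull.stalkMapₗ (theta E B) x (tensorStalkMap _ _ x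
      ((RefHull.dual E).presheaf.germ W x hW t ⊗ₜ B.presheaf.germ W x hW n))) v = _
    rw [tensorStalkMap_germ, RefHull.stalkMapₗ_germ, theta_tmul, RefHull.evalStalk_germ, rankOne_val]
    simp only [Ψ, LinearMap.comp_apply, LinearEquiv.coe_coe, TensorProduct.congr_tmul,
      LinearEquiv.refl_apply, dualTensorHom_apply, LinearMap.smulRight_apply]
    refine congrArg (fun c : X.presheaf.stalk x => c • (_ : B.presheaf.stalk x)) ?_
    show (RefX.unitStalk x).symm (t.1 ⟨x, hW⟩ v) =
      (RefX.unitStalk x).symm (RefHull.evalStalk E (Coh.structureModule X) x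
        ((RefHull.dual E).presheaf.germ W x hW t) v)
    rw [RefHull.evalStalk_germ]
  have hΨ : Function.Bijective Ψ :=
    (dualTensorHomEquiv R (E.presheaf.stalk x) (B.presheaf.stalk x)).bijective.comp
      (TensorProduct.congr (RefX.dualStalk hFP x) (LinearEquiv.refl R _)).bijective
  rw [← e] at hΨ
  have h1 : Function.Bijective ((RefHull.stalkMapₗ (theta E B) x).comp (tensorStalkMap _ _ x)) :=
    (Function.Bijective.of_comp_iff' (RefX.evalStalk_bijective hFP x) _).1 hΨ
  exact (Function.Bijective.of_comp_iff _ (tensorStalkMap_bijective _ _ x)).1 h1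

/-- The section of `𝓗om(E, B)` attached to a section of `A` by a map `E ⊗ A ⟶ B`. -/
noncomputable def currySect (ψ : CohB1.tensorMod E A ⟶ B) {U : X.Opens} (a : Γ(A, U)) :
    Γ(RefHull.homSh E B, U) :=
  ⟨fun y => (RefHull.stalkMapₗ ψ y.1).comp ((tensorStalkMap E A y.1).comp
      ((TensorProduct.mk _ _ _).flip (A.presheaf.germ U y.1 y.2 a))), fun V i m x => by
    refine ⟨V, x.2, 𝟙 V, ψ.app V (InvX.tmul m (AModX.res A i.le a)), fun y => ?_⟩
    show RefHull.stalkMapₗ ψ y.1 (tensorStalkMap E A y.1 (_ ⊗ₜ A.presheaf.germ U y.1 _ a)) = _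
    rw [← RefX.germ_res A i.le y.2 a, tensorStalkMap_germ, RefHull.stalkMapₗ_germ]⟩

/-- Currying. -/
noncomputable def curry (ψ : CohB1.tensorMod E A ⟶ B) : A ⟶ RefHull.homSh E B :=
  ⟨PresheafOfModules.homMk
    { app := fun U => AddCommGrpCat.ofHom
        { toFun := fun a => currySect ψ (U := U.unop) a
          map_zero' := RefX.sect_ext fun y => LinearMap.ext fun v => by
            show RefHull.stalkMapₗ ψ y.1 (tensorStalkMap E A y.1 (v ⊗ₜ A.presheaf.germ _ y.1 y.2 0)) = 0
            rw [map_zero, TensorProduct.tmul_zero, map_zero, map_zero]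
          map_add' := fun a a' => RefX.sect_ext fun y => LinearMap.ext fun v => by
            show RefHull.stalkMapₗ ψ y.1 (tensorStalkMap E A y.1 (v ⊗ₜ A.presheaf.germ _ y.1 y.2 (a + a'))) = _
            rw [map_add, TensorProduct.tmul_add, map_add, map_add]
            rfl }
      naturality := fun {U V} i => by
        ext a
        refine RefX.sect_ext fun y => LinearMap.ext fun v => ?_
        show RefHull.stalkMapₗ ψ y.1 (tensorStalkMap E A y.1 (v ⊗ₜ _)) =
          RefHull.stalkMapₗ ψ y.1 (tensorStalkMap E A y.1 (v ⊗ₜ _))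
        congr 3
        exact TopCat.Presheaf.germ_res_apply' A.presheaf i y.1 y.2 a }
    (fun U r a => RefX.sect_ext fun y => LinearMap.ext fun v => by
      show RefHull.stalkMapₗ ψ y.1 (tensorStalkMap E A y.1 (v ⊗ₜ A.presheaf.germ _ y.1 y.2 (r • a))) = _
      rw [Mero.germ_smul, TensorProduct.tmul_smul, map_smul, map_smul]
      rfl)⟩

/-- The bilinear evaluation of a map to `𝓗om(E, B)`. -/
noncomputable def uncurryBilin (h : A ⟶ RefHull.homSh E B) : H23.TensorDesc.Bilin E A B where
  b U m a := RefX.app le_rfl (h.app U a) m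
  add_left U m m' a := RefX.app_add _ _ _ _
  smul_left U r m a := RefX.app_smul _ _ _ _
  add_right U m a a' := ZClosLib.section_ext B _ _ fun y hy => by
    rw [RefX.germ_app, map_add, map_add, RefX.germ_app, RefX.germ_app]
    rfl
  smul_right U r m a := ZClosLib.section_ext B _ _ fun y hy => by
    rw [RefX.germ_app, QCoh.germ_smul', RefX.germ_app, show h.app U (r • a) = r • h.app U a from
      (h.val.app (op U)).hom.map_smul r a, RefX.smul_val]
    rfl
  res {U V} hVU m a := ZClosLib.section_ext B _ _ fun y hy => by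
    show B.presheaf.germ V y hy (AModX.res B hVU _) = _
    rw [RefX.germ_res, RefX.germ_app, RefX.germ_app]
    rw [show h.app V (A.presheaf.map (homOfLE hVU).op a) = AModX.res (RefHull.homSh E B) hVU (h.app U a) from
      PresheafOfModules.naturality_apply h.val (homOfLE hVU).op a, RefX.res_val]
    exact congrArg _ (RefX.germ_res E hVU hy m).symm

/-- Uncurrying. -/
noncomputable def uncurry (h : A ⟶ RefHull.homSh E B) : CohB1.tensorMod E A ⟶ B :=
  H23.TensorDesc.desc (uncurryBilin h)

variable (E A B) in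
/-- `Hom(E ⊗ A, B) ≃ Hom(A, 𝓗om(E, B))`. -/
noncomputable def curryEquiv : (CohB1.tensorMod E A ⟶ B) ≃ (A ⟶ RefHull.homSh E B) where
  toFun := curry
  invFun := uncurry
  left_inv ψ := hom_ext_tmul fun U m a => by
    rw [uncurry, desc_app]
    refine ZClosLib.section_ext B _ _ fun y hy => ?_
    show B.presheaf.germ U y hy (RefX.app le_rfl _ m) = _
    rw [RefX.germ_app]
    show RefHull.stalkMapₗ ψ y (tensorStalkMap E A y (_ ⊗ₜ _)) = _
    rw [tensorStalkMap_germ, RefHull.stalkMapₗ_germ]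
  right_inv h := by
    refine Scheme.Modules.hom_ext _ _ fun U => ConcreteCategory.hom_ext _ _ fun a =>
      RefX.sect_ext fun y => LinearMap.ext fun v => ?_
    show RefHull.stalkMapₗ (uncurry h) y.1 (tensorStalkMap E A y.1 (v ⊗ₜ A.presheaf.germ U y.1 y.2 a)) =
      (h.app U a).1 y v
    obtain ⟨W, hW, m, rfl⟩ := TopCat.Presheaf.exists_germ_eq E.presheaf v
    have hm := RefX.germ_res E (inf_le_left : W ⊓ U ≤ W) (⟨hW, y.2⟩ : y.1 ∈ W ⊓ U) m
    have ha := RefX.germ_res A (inf_le_right : W ⊓ U ≤ U) (⟨hW, y.2⟩ : y.1 ∈ W ⊓ U) a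
    rw [← hm, ← ha, tensorStalkMap_germ, RefHull.stalkMapₗ_germ, uncurry, desc_app]
    show B.presheaf.germ _ y.1 _ (RefX.app le_rfl _ _) = _
    rw [RefX.germ_app, show h.app (W ⊓ U) (AModX.res A inf_le_right a) =
      AModX.res (RefHull.homSh E B) inf_le_right (h.app U a) from
        PresheafOfModules.naturality_apply h.val (homOfLE inf_le_right).op a, RefX.res_val]

variable (A B) in
/-- The adjunction `Hom(E ⊗ A, B) ≃ Hom(A, dual E ⊗ B)`. -/
noncomputable def adjEquiv [IsLocallyNoetherian X] (hE : FlatMod.IsFinLocFree E) :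
    ((DCoh.tensorBi.obj E).obj A ⟶ B) ≃ (A ⟶ (DCoh.tensorBi.obj (RefHull.dual E)).obj B) :=
  haveI := isIso_theta (B := B) hE
  (curryEquiv E A B).trans (Iso.homToEquiv (asIso (theta E B)).symm)

theorem adjEquiv_spec [IsLocallyNoetherian X] (hE : FlatMod.IsFinLocFree E)
    (ψ : (DCoh.tensorBi.obj E).obj A ⟶ B) : adjEquiv A B hE ψ ≫ theta E B = curry ψ := by
  haveI := isIso_theta (B := B) hE
  show (curry ψ ≫ inv (theta E B)) ≫ theta E B = _
  simp

theorem rankOne_comp {U : X.Opens} (g : B ⟶ B') (t : Γ(RefHull.dual E, U)) (n : Γ(B, U)) (y : U) :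
    (rankOne t (g.app U n)).1 y = (RefHull.stalkMapₗ g y.1).comp ((rankOne t n).1 y) :=
  LinearMap.ext fun v => by
    show coef t y v • _ = RefHull.stalkMapₗ g y.1 (coef t y v • _)
    rw [map_smul, RefHull.stalkMapₗ_germ]

/-- Composition with a map, on `𝓗om(E, -)`. -/
noncomputable def postcomp (g : B ⟶ B') : RefHull.homSh E B ⟶ RefHull.homSh E B' :=
  curry (uncurry (𝟙 (RefHull.homSh E B)) ≫ g)

theorem curry_comp (ψ : CohB1.tensorMod E A ⟶ B) (g : B ⟶ B') :
    curry (ψ ≫ g) = curry ψ ≫ postcomp g := by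
  refine Scheme.Modules.hom_ext _ _ fun U => ConcreteCategory.hom_ext _ _ fun a =>
    RefX.sect_ext fun y => LinearMap.ext fun v => ?_
  show RefHull.stalkMapₗ (ψ ≫ g) y.1 (tensorStalkMap E A y.1 (v ⊗ₜ A.presheaf.germ U y.1 y.2 a)) =
    RefHull.stalkMapₗ (uncurry (𝟙 _) ≫ g) y.1
      (tensorStalkMap E _ y.1 (v ⊗ₜ (RefHull.homSh E B).presheaf.germ U y.1 y.2 (currySect ψ a)))
  obtain ⟨W, hW, m, rfl⟩ := TopCat.Presheaf.exists_germ_eq E.presheaf v
  have hy : y.1 ∈ W ⊓ U := ⟨hW, y.2⟩
  rw [← RefX.germ_res E (inf_le_left : W ⊓ U ≤ W) hy, ← RefX.germ_res A (inf_le_right : W ⊓ U ≤ U) hy,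
    ← RefX.germ_res (RefHull.homSh E B) (inf_le_right : W ⊓ U ≤ U) hy, tensorStalkMap_germ,
    tensorStalkMap_germ, RefHull.stalkMapₗ_germ, RefHull.stalkMapₗ_germ]
  show B'.presheaf.germ _ _ _ (g.app _ (ψ.app _ _)) = B'.presheaf.germ _ _ _ (g.app _ ((uncurry _).app _ _))
  rw [uncurry, desc_app, ← RefHull.stalkMapₗ_germ g, ← RefHull.stalkMapₗ_germ g]
  congr 1
  show _ = B.presheaf.germ _ _ hy (RefX.app le_rfl (AModX.res (RefHull.homSh E B) inf_le_right (currySect ψ a)) _)
  rw [RefX.germ_app, RefX.res_val]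
  show _ = RefHull.stalkMapₗ ψ y.1 (tensorStalkMap E A y.1 (_ ⊗ₜ A.presheaf.germ U y.1 y.2 a))
  rw [← RefX.germ_res A (inf_le_right : W ⊓ U ≤ U) hy a, tensorStalkMap_germ, RefHull.stalkMapₗ_germ]

theorem theta_postcomp (g : B ⟶ B') :
    theta E B ≫ postcomp g = (DCoh.tensorBi.obj (RefHull.dual E)).map g ≫ theta E B' := by
  refine hom_ext_tmul fun U t n => ?_
  show (postcomp g).app U ((theta E B).app U (InvX.tmul t n)) =
    (theta E B').app U (((DCoh.tensorBi.obj (RefHull.dual E)).map g).app U (InvX.tmul t n))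
  rw [app_map_tmul, theta_tmul, theta_tmul]
  refine RefX.sect_ext fun y => ?_
  rw [rankOne_comp]
  refine LinearMap.ext fun v => ?_
  show RefHull.stalkMapₗ (uncurry (𝟙 _) ≫ g) y.1
    (tensorStalkMap E _ y.1 (v ⊗ₜ (RefHull.homSh E B).presheaf.germ U y.1 y.2 (rankOne t n))) = _
  obtain ⟨W, hW, m, rfl⟩ := TopCat.Presheaf.exists_germ_eq E.presheaf v
  have hy : y.1 ∈ W ⊓ U := ⟨hW, y.2⟩
  rw [← RefX.germ_res E (inf_le_left : W ⊓ U ≤ W) hy,
    ← RefX.germ_res (RefHull.homSh E B) (inf_le_right : W ⊓ U ≤ U) hy, tensorStalkMap_germ,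
    RefHull.stalkMapₗ_germ]
  show B'.presheaf.germ _ _ _ (g.app _ ((uncurry _).app _ _)) = _
  rw [uncurry, desc_app, ← RefHull.stalkMapₗ_germ g]
  show RefHull.stalkMapₗ g y.1 _ = RefHull.stalkMapₗ g y.1 _
  congr 1
  show B.presheaf.germ _ _ hy (RefX.app le_rfl (AModX.res (RefHull.homSh E B) inf_le_right (rankOne t n)) _) = _
  rw [RefX.germ_app, RefX.res_val]

/-- Naturality of the adjunction in the target. -/
theorem adjEquiv_comp [IsLocallyNoetherian X] (hE : FlatMod.IsFinLocFree E)
    (ψ : (DCoh.tensorBi.obj E).obj A ⟶ B) (g : B ⟶ B') :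
    adjEquiv A B' hE (ψ ≫ g) = adjEquiv A B hE ψ ≫ (DCoh.tensorBi.obj (RefHull.dual E)).map g := by
  haveI := isIso_theta (B := B') hE
  rw [← cancel_mono (theta E B'), adjEquiv_spec, Category.assoc, ← theta_postcomp, ← Category.assoc,
    adjEquiv_spec]
  exact curry_comp ψ g

/-- Maps out of a product with `E` vanish iff the adjoint maps do. -/
theorem subsingleton_hom [IsLocallyNoetherian X] (hE : FlatMod.IsFinLocFree E)
    (h : ∀ ψ : (DCoh.tensorBi.obj E).obj A ⟶ B, ψ = 0)
    (φ : A ⟶ (DCoh.tensorBi.obj (RefHull.dual E)).obj B) : φ = 0 :=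
  (adjEquiv A B hE).symm.injective ((h _).trans (h _).symm)

/-- Maps out of a product with `E` vanish if the adjoint maps do. -/
theorem subsingleton_hom' [IsLocallyNoetherian X] (hE : FlatMod.IsFinLocFree E)
    (h : ∀ φ : A ⟶ (DCoh.tensorBi.obj (RefHull.dual E)).obj B, φ = 0)
    (ψ : (DCoh.tensorBi.obj E).obj A ⟶ B) : ψ = 0 :=
  (adjEquiv A B hE).injective ((h _).trans (h _).symm)

end Groth.Agent.VBCurvesLib
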