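import Groth.Agent.VBCurvesLib.Dual
import Groth.Agent.Lib.CurveStable
import Groth.Agent.KFlatLib.Scheme.Exact

/-!
Duals of vector bundles: rank, biduality, exactness.
-/

set_option linter.style.haveILetI false
set_option linter.unusedSectionVars false
set_option backward.isDefEq.respectTransparency false
set_option backward.isDefEq.respectTransparency.types false
set_option synthInstance.maxHeartbeats 100000
set_option maxHeartbeats 1000000

universe u

open CategoryTheory CategoryTheory.Limits AlgebraicGeometry TopologicalSpace Opposite MonoidalCategory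

namespace Groth.Agent.VBCurvesLib

open Groth.Agent

variable {X : Scheme.{u}} [IsLocallyNoetherian X] {E A B : X.Modules}

theorem isFinLocFree_dual (hE : FlatMod.IsFinLocFree E) : FlatMod.IsFinLocFree (RefHull.dual E) := by
  have hc : Coh.IsCoh E := CurveDeg.isCoh_of_isFinLocFree hE
  have hD := RefX.isCoh_dual hc
  have hFP := QCoh.isCoh_iff_isFP.1 hc
  have key : ∀ x : X, Module.Free (X.presheaf.stalk x) ((RefHull.dual E).presheaf.stalk x) ∧
      Module.finrank (X.presheaf.stalk x) ((RefHull.dual E).presheaf.stalk x) =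
        Module.finrank (X.presheaf.stalk x) (E.presheaf.stalk x) := fun x => by
    haveI := QCoh.free_stalk_of_isFinLocFree hE x
    haveI := CurveBundle.finite_stalk_of_coh hc x
    refine ⟨Module.Free.of_equiv (RefX.dualStalk hFP x).symm, ?_⟩
    rw [(RefX.dualStalk hFP x).finrank_eq, Module.finrank_linearMap, Module.finrank_self, mul_one]
  refine QCoh.isFinLocFree_of_rank hD.1 hD.2 (fun x => (key x).1) ?_
  simp only [fun x => (key x).2]
  exact QCoh.isLocallyConstant_rank hE

theorem rk_dual [IsIntegral X] (hE : FlatMod.IsFinLocFree E) :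
    CurveBundle.rk (RefHull.dual E) = CurveBundle.rk E := by
  have hc : Coh.IsCoh E := CurveDeg.isCoh_of_isFinLocFree hE
  haveI := QCoh.free_stalk_of_isFinLocFree hE (genericPoint X)
  haveI := CurveBundle.finite_stalk_of_coh hc (genericPoint X)
  unfold CurveBundle.rk
  rw [(RefX.dualStalk (QCoh.isCoh_iff_isFP.1 hc) _).finrank_eq, Module.finrank_linearMap,
    Module.finrank_self, mul_one]

theorem isIso_bidualMap (hE : FlatMod.IsFinLocFree E) : IsIso (RefHull.bidualMap E) := by
  have hc : Coh.IsCoh E := CurveDeg.isCoh_of_isFinLocFree hE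
  refine (RefX.isReflexive_iff hc).2 fun x => ?_
  haveI := QCoh.free_stalk_of_isFinLocFree hE x
  haveI := CurveBundle.finite_stalk_of_coh hc x
  exact (inferInstance : Module.IsReflexive (X.presheaf.stalk x) (E.presheaf.stalk x))

/-- The transpose of a map. -/
noncomputable def dualMap (f : A ⟶ B) : RefHull.dual B ⟶ RefHull.dual A :=
  ⟨PresheafOfModules.homMk
    { app := fun U => AddCommGrpCat.ofHom
        { toFun := fun t => (⟨fun y => (t.1 y).comp (RefHull.stalkMapₗ f y.1), fun V i m x => by
            refine ⟨V, x.2, 𝟙 V, RefX.app i.le t (f.app V m), fun y => ?_⟩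
            show t.1 ⟨y.1, i.le y.2⟩ (RefHull.stalkMapₗ f y.1 _) = _
            rw [RefHull.stalkMapₗ_germ, RefX.germ_app]⟩ : Γ(RefHull.dual A, U.unop))
          map_zero' := RefX.sect_ext fun y => LinearMap.ext fun v => rfl
          map_add' := fun a a' => RefX.sect_ext fun y => LinearMap.ext fun v => rfl }
      naturality := fun {U V} i => by
        ext a
        exact RefX.sect_ext fun y => LinearMap.ext fun v => rfl }
    (fun U r a => RefX.sect_ext fun y => LinearMap.ext fun v => rfl)⟩

theorem dualMap_stalk (f : A ⟶ B) (x : X) (θ : (RefHull.dual B).presheaf.stalk x) :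
    RefHull.evalStalk A (Coh.structureModule X) x (RefHull.stalkMapₗ (dualMap f) x θ) =
      (RefHull.evalStalk B (Coh.structureModule X) x θ).comp (RefHull.stalkMapₗ f x) := by
  obtain ⟨U, hx, t, rfl⟩ := TopCat.Presheaf.exists_germ_eq (RefHull.dual B).presheaf θ
  rw [RefHull.stalkMapₗ_germ, RefHull.evalStalk_germ, RefHull.evalStalk_germ]
  rfl

/-- The dual of a short exact sequence of bundles is short exact. -/
theorem shortExact_dual {S : ShortComplex X.Modules} (hS : S.ShortExact)
    (h₁ : FlatMod.IsFinLocFree S.X₁) (h₂ : FlatMod.IsFinLocFree S.X₂) (h₃ : FlatMod.IsFinLocFree S.X₃) :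
    ∃ w : dualMap S.g ≫ dualMap S.f = 0,
      (ShortComplex.mk (dualMap S.g) (dualMap S.f) w).ShortExact := by
  have hFP := fun {M : X.Modules} (h : FlatMod.IsFinLocFree M) =>
    QCoh.isCoh_iff_isFP.1 (CurveDeg.isCoh_of_isFinLocFree h)
  have w : dualMap S.g ≫ dualMap S.f = 0 :=
    Scheme.Modules.hom_ext _ _ fun U => ConcreteCategory.hom_ext _ _ fun t =>
      RefX.sect_ext fun y => LinearMap.ext fun v => by
        obtain ⟨W, hW, m, rfl⟩ := TopCat.Presheaf.exists_germ_eq S.X₁.presheaf v
        show t.1 y (RefHull.stalkMapₗ S.g y.1 (RefHull.stalkMapₗ S.f y.1 _)) = 0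
        rw [RefHull.stalkMapₗ_germ, RefHull.stalkMapₗ_germ, show S.g.app W (S.f.app W m) = 0 from
          congrArg (fun φ => φ.app W m) S.zero, map_zero, map_zero]
  refine ⟨w, (KFlatLib.shortExact_iff_stalk _).2 fun x => ?_⟩
  have hx := hS.map_of_exact (DerSch.stalkFunctor X x)
  let a := Algz.stalkMapₗ S.f x
  let b := Algz.stalkMapₗ S.g x
  have ha : ∀ v, a v = RefHull.stalkMapₗ S.f x v := fun v => rfl
  have hb : ∀ v, b v = RefHull.stalkMapₗ S.g x v := fun v => rfl
  have hbs : Function.Surjective b := (ModuleCat.epi_iff_surjective _).1 hx.epi_g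
  have hai : Function.Injective a := (ModuleCat.mono_iff_injective _).1 hx.mono_f
  have hex : LinearMap.range a = LinearMap.ker b := ShortComplex.Exact.moduleCat_range_eq_ker hx.exact
  haveI := QCoh.free_stalk_of_isFinLocFree h₃ x
  obtain ⟨s, hs⟩ := Module.projective_lifting_property b LinearMap.id hbs
  have hs' : ∀ v, b (s v) = v := fun v => LinearMap.congr_fun hs v
  have hmem : ∀ v, v - s (b v) ∈ LinearMap.range a := fun v => by
    rw [hex, LinearMap.mem_ker, map_sub, hs', sub_self]
  let r : S.X₂.presheaf.stalk x →ₗ[X.presheaf.stalk x] S.X₁.presheaf.stalk x :=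
    (LinearEquiv.ofInjective a hai).symm.toLinearMap ∘ₗ
      ((LinearMap.id - s ∘ₗ b).codRestrict (LinearMap.range a) hmem)
  have hr : ∀ v, a (r v) = v - s (b v) := fun v => by
    show a ((LinearEquiv.ofInjective a hai).symm _) = _
    exact congrArg Subtype.val ((LinearEquiv.ofInjective a hai).apply_symm_apply ⟨_, hmem v⟩)
  have hba : ∀ u, b (a u) = 0 := fun u => LinearMap.mem_ker.1 (hex ▸ LinearMap.mem_range_self a u)
  have hra : ∀ u, r (a u) = u := fun u => hai (by rw [hr, hba, map_zero, sub_zero])
  let e := fun (M : X.Modules) (h : FlatMod.IsFinLocFree M) =>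
    LinearEquiv.ofBijective (RefHull.evalStalk M (Coh.structureModule X) x)
      (RefX.evalStalk_bijective (hFP h) x)
  let F := Algz.stalkMapₗ (dualMap S.g) x
  let G := Algz.stalkMapₗ (dualMap S.f) x
  have hF : ∀ θ, e _ h₂ (F θ) = (e _ h₃ θ).comp b := fun θ => dualMap_stalk S.g x θ
  have hG : ∀ θ, e _ h₁ (G θ) = (e _ h₂ θ).comp a := fun θ => dualMap_stalk S.f x θ
  have hFi : Function.Injective F := fun θ θ' h => (e _ h₃).injective (LinearMap.ext fun v => by
    obtain ⟨u, rfl⟩ := hbs v
    have := congrArg (fun q => e _ h₂ q u) h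
    simpa only [hF, LinearMap.comp_apply] using this)
  have hGs : Function.Surjective G := fun θ => by
    refine ⟨(e _ h₂).symm ((e _ h₁ θ).comp r), (e _ h₁).injective ?_⟩
    rw [hG, LinearEquiv.apply_symm_apply]
    exact LinearMap.ext fun u => congrArg (e _ h₁ θ) (hra u)
  have hFG : LinearMap.range F = LinearMap.ker G := by
    refine le_antisymm ?_ fun θ hθ => ?_
    · rintro _ ⟨θ, rfl⟩
      refine LinearMap.mem_ker.2 ((e _ h₁).injective ?_)
      rw [hG, hF, map_zero]
      exact LinearMap.ext fun u => by rw [LinearMap.comp_apply, LinearMap.comp_apply, hba, map_zero]; rfl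
    · refine ⟨(e _ h₃).symm ((e _ h₂ θ).comp s), (e _ h₂).injective ?_⟩
      rw [hF, LinearEquiv.apply_symm_apply]
      refine LinearMap.ext fun v => ?_
      have h0 : e _ h₂ θ (a (r v)) = 0 := by
        have := congrArg (fun q => q (r v)) ((hG θ).symm.trans
          (congrArg (e _ h₁) (LinearMap.mem_ker.1 hθ)))
        simpa using this
      rw [hr, map_sub, sub_eq_zero] at h0
      exact h0.symm
  let T := (ShortComplex.mk (dualMap S.g) (dualMap S.f) w).map (DerSch.stalkFunctor X x)
  exact
    { exact := T.moduleCat_exact_iff_range_eq_ker.2 hFG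
      mono_f := (ModuleCat.mono_iff_injective _).2 hFi
      epi_g := (ModuleCat.epi_iff_surjective _).2 hGs }

end Groth.Agent.VBCurvesLib
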