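import Groth.Agent.VBCurvesLib.Basic
import Groth.Agent.VBCurvesLib.DualBundle
import Groth.Agent.Lib.CurvePsi

/-!
Degrees of duals, homomorphisms and extensions of bundles on curves.
-/

set_option linter.style.haveILetI false
set_option linter.unusedSectionVars false
set_option backward.isDefEq.respectTransparency false
set_option backward.isDefEq.respectTransparency.types false
set_option synthInstance.maxHeartbeats 100000
set_option maxHeartbeats 1000000

universe u

open CategoryTheory CategoryTheory.Limits AlgebraicGeometry TopologicalSpace Opposite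

namespace Groth.Agent.VBCurvesLib

open Groth.Agent.CurveBundle Groth.Agent.CurveSlope Groth.Agent.CurveStable Groth.Agent.CurveDuality

theorem adjEquiv_zero {X : Scheme.{u}} [IsLocallyNoetherian X] {E A B : X.Modules}
    (hE : FlatMod.IsFinLocFree E) : adjEquiv A B hE 0 = 0 := by
  have h := adjEquiv_comp hE (0 : (DCoh.tensorBi.obj E).obj A ⟶ B) (0 : B ⟶ B)
  rw [comp_zero, Functor.map_zero, comp_zero] at h
  exact h

variable {X : Scheme.{u}} (k : Type u) [Field k] [X.Over (Spec (CommRingCat.of k))] [IsIntegral X]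
  [IsProper (X ↘ Spec (CommRingCat.of k))] [Smooth (X ↘ Spec (CommRingCat.of k))]

theorem dg_dual (hdim : topologicalKrullDim X = 1) {E : X.Modules} (hE : FlatMod.IsFinLocFree E) :
    dg k (RefHull.dual E) = - dg k E := by
  haveI := isLocallyNoetherian' k (X := X)
  have hline : ∀ M : X.Modules, FlatMod.IsFinLocFree M → rk M = 1 →
      dg k (RefHull.dual M) = - dg k M := by
    intro M hM hrM
    have hM1 : FlatMod.IsFinLocFreeOfRank 1 M := hrM ▸ isFinLocFreeOfRank_rk hM
    have hD := isFinLocFree_dual hM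
    have hD1 : FlatMod.IsFinLocFreeOfRank 1 (RefHull.dual M) :=
      (show rk (RefHull.dual M) = 1 by rw [rk_dual hM, hrM]) ▸ isFinLocFreeOfRank_rk hD
    have hMi := isInvertible_of_rank_one hM1
    have hDi := isInvertible_of_rank_one hD1
    obtain ⟨D₀, hD₀, hdD₀, ⟨e⟩⟩ := exists_inverse_deg k hdim hMi
    let u := KFlatLib.tensorUnitIso (RefHull.dual M)
    have hle1 : Curv2.deg k X D₀ 1 ≤ Curv2.deg k X (RefHull.dual M) 1 := by
      refine (CurveDeg.deg_le_and_isIso k hdim.le hD₀ hDi (adjEquiv D₀ _ hM e.hom ≫ u.hom) fun h => ?_).1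
      have h1 : adjEquiv D₀ _ hM e.hom = 0 := by
        rw [← cancel_mono u.hom, h, zero_comp]
      have h2 : e.hom = 0 := (adjEquiv D₀ _ hM).injective (h1.trans (adjEquiv_zero hM).symm)
      refine CurveEnd.not_isZero (Coh.structureModule X) 1 one_pos
        (InvEnd.isFinLocFreeOfRank_one CurveDeg.isInvertible_structureModule) ?_
      rw [IsZero.iff_id_eq_zero, ← e.inv_hom_id, h2, comp_zero]
    have hT := InvX.isInvertible_tensorMod hMi hDi
    have hle2 : Curv2.deg k X ((DCoh.tensorBi.obj M).obj (RefHull.dual M)) 1 ≤ 0 := by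
      let v : (DCoh.tensorBi.obj M).obj (RefHull.dual M) ⟶ Coh.structureModule X :=
        (adjEquiv (RefHull.dual M) (Coh.structureModule X) hM).symm u.inv
      suffices hv : v ≠ 0 by
        have := (CurveDeg.deg_le_and_isIso k hdim.le hT CurveDeg.isInvertible_structureModule v hv).1
        rwa [CurveDeg.deg_structureModule] at this
      intro h
      refine CurveEnd.not_isZero (RefHull.dual M) 1 one_pos hD1 ?_
      have h1 : u.inv = 0 := ((adjEquiv _ _ hM).symm_apply_eq.1 h).trans (adjEquiv_zero hM)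
      rw [IsZero.iff_id_eq_zero, ← u.inv_hom_id, h1, zero_comp]
    rw [CurveRR.deg_tensor k hdim hMi hDi] at hle2
    rw [hdD₀] at hle1
    rw [← deg_eq_dg k hM1, ← deg_eq_dg k hD1]
    omega
  have main : ∀ (r : ℕ) (E : X.Modules), FlatMod.IsFinLocFree E → rk E = r →
      dg k (RefHull.dual E) = - dg k E := by
    intro r
    induction r with
    | zero =>
      intro E hE hr
      rw [dg_eq_zero_of_isZero k (isZero_of_rk_zero hE hr),
        dg_eq_zero_of_isZero k (isZero_of_rk_zero (isFinLocFree_dual hE) (by rw [rk_dual hE, hr]))]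
      simp
    | succ r ih =>
      intro E hE hr
      obtain ⟨G, j, hj, hG, hrG, hmax⟩ := exists_max_sub k hdim.le hE
        (exists_sub_of_rank k hdim hE r (by omega))
      haveI := hj
      have hEc := coh_of_free k hE
      have hGc := coh_of_free k hG
      have hQc : Coh.IsCoh (cokernel j) := QCoh.isCoh_cokernel hGc.1 hEc j
      have hS := shortExact_cokernel_of_mono j
      have hQ := isFinLocFree_of_max k hdim.le j (cokernel.π j) _ hS hGc hE hQc
        (fun F g hg hF hrF => hmax F g hg hF (hrF.trans hrG))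
      obtain ⟨w, hd⟩ := shortExact_dual hS hG hE hQ
      have h1 := dg_add k _ _ _ hS hGc hEc hQc
      have h2 := dg_add k _ _ w hd (coh_of_free k (isFinLocFree_dual hQ))
        (coh_of_free k (isFinLocFree_dual hE)) (coh_of_free k (isFinLocFree_dual hG))
      have hrQ : rk (cokernel j) = 1 := by
        have := rk_add_coh k _ _ _ hS hEc
        omega
      have h3 := ih G hG hrG
      have h4 := hline _ hQ hrQ
      dsimp only at h1 h2
      omega
  exact main _ E hE rfl

/-- A subsheaf of the dual gives a subsheaf of the module of complementary rank. -/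
theorem exists_sub_of_dual_sub (hdim : topologicalKrullDim X = 1) {E G : X.Modules}
    (hE : FlatMod.IsFinLocFree E) (j : G ⟶ RefHull.dual E) [Mono j] (hG : FlatMod.IsFinLocFree G) :
    ∃ (F : X.Modules) (i : F ⟶ E), Mono i ∧ FlatMod.IsFinLocFree F ∧ rk E = rk G + rk F ∧
      dg k E + dg k G ≤ dg k F := by
  haveI := isLocallyNoetherian' k (X := X)
  have hD := isFinLocFree_dual hE
  obtain ⟨C, P, p, ι, a, w, hS, hP, hC, -, -, -, -, hrP, hr, hd1, hd2⟩ :=
    exists_saturation k hdim hD (coh_of_free k hG) j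
  obtain ⟨w', hS'⟩ := shortExact_dual hS hP hD hC
  haveI := isIso_bidualMap hE
  haveI : Mono (dualMap p) := hS'.mono_f
  refine ⟨_, dualMap p ≫ inv (RefHull.bidualMap E), inferInstance, isFinLocFree_dual hC, ?_, ?_⟩
  · rw [rk_dual hC, ← rk_dual hE]
    exact hr
  · rw [dg_dual k hdim hC]
    have := dg_dual k hdim hE
    omega

/-- Rank and degree of a tensor product of bundles. -/
theorem dg_tensor (hdim : topologicalKrullDim X = 1) {A B : X.Modules}
    (hA : FlatMod.IsFinLocFree A) (hB : FlatMod.IsFinLocFree B) :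
    rk ((DCoh.tensorBi.obj A).obj B) = rk A * rk B ∧
      dg k ((DCoh.tensorBi.obj A).obj B) = (rk A : ℤ) * dg k B + (rk B : ℤ) * dg k A := by
  haveI := CurveCohLib.isNoetherian_of_proper (k := k) (X := X)
  have hr := rk_tensor hA hB
  refine ⟨hr, ?_⟩
  have h := CurvePsi.deg_tensor_locFree k hdim.le (isFinLocFreeOfRank_rk hA) (isFinLocFreeOfRank_rk hB)
  have hT := KFlatLib.isFinLocFree_tensor hA hB
  rw [deg_eq_dg k (hr ▸ isFinLocFreeOfRank_rk hT), deg_eq_dg k (isFinLocFreeOfRank_rk hA),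
    deg_eq_dg k (isFinLocFreeOfRank_rk hB)] at h
  exact h

/-- A positive Euler characteristic of `dual E ⊗ F` gives a non-zero map. -/
theorem exists_hom_of_euler_pos (hdim : topologicalKrullDim X = 1) {E F : X.Modules}
    (hE : FlatMod.IsFinLocFree E) (hF : FlatMod.IsFinLocFree F)
    (h : 0 < (rk E : ℤ) * dg k F - (rk F : ℤ) * dg k E +
      (rk E : ℤ) * (rk F : ℤ) * Curv2.euler k X (Coh.structureModule X)) :
    ∃ φ : E ⟶ F, φ ≠ 0 := by
  haveI := isLocallyNoetherian' k (X := X)
  have hD := isFinLocFree_dual hE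
  obtain ⟨hr, hd⟩ := dg_tensor k hdim hD hF
  have hle := euler_le_h0 k hdim.le (coh_of_free k (KFlatLib.isFinLocFree_tensor hD hF))
  rw [dg_dual k hdim hE, rk_dual hE] at hd
  rw [rk_dual hE] at hr
  unfold dg at hd h
  rw [hr] at hd
  push_cast at hd
  obtain ⟨s, hs⟩ := CurveRR.exists_hom_ne_zero k
    (P := (DCoh.tensorBi.obj (RefHull.dual E)).obj F) (by
      intro h0
      rw [h0] at hle
      push_cast at hle
      linarith)
  refine ⟨(KFlatLib.tensorUnitIso E).inv ≫ (adjEquiv _ _ hE).symm s, fun h0 => hs ?_⟩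
  have h1 : (adjEquiv _ _ hE).symm s = 0 := by
    rw [← cancel_epi (KFlatLib.tensorUnitIso E).inv, h0, comp_zero]
  exact ((adjEquiv _ _ hE).symm_apply_eq.1 h1).trans (adjEquiv_zero hE)

include k in
/-- An extension whose class group vanishes splits. -/
theorem isSplitEpi_of_HH_one (hdim : topologicalKrullDim X = 1) {S : ShortComplex X.Modules}
    (hS : S.ShortExact) (hB : FlatMod.IsFinLocFree S.X₃)
    (h : Subsingleton (Coh.HH X ((DCoh.tensorBi.obj (RefHull.dual S.X₃)).obj S.X₁) 1)) :
    IsSplitEpi S.g := by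
  haveI := isLocallyNoetherian' k (X := X)
  have hT := CurveTensor.shortExact_tensor (isFinLocFree_dual hB) S.f S.g S.zero hS
  obtain ⟨σ, hσ⟩ := CurveRR.exists_lift_of_HH_one hT h
    (adjEquiv _ _ hB (KFlatLib.tensorUnitIso S.X₃).hom)
  refine IsSplitEpi.mk' ⟨(KFlatLib.tensorUnitIso S.X₃).inv ≫ (adjEquiv _ _ hB).symm σ, ?_⟩
  have h1 : (adjEquiv _ _ hB).symm σ ≫ S.g = (KFlatLib.tensorUnitIso S.X₃).hom := by
    refine (adjEquiv _ _ hB).injective ?_
    rw [adjEquiv_comp, Equiv.apply_symm_apply]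
    exact hσ
  rw [Category.assoc, h1, Iso.inv_hom_id]

/-- An extension of `B` by `A` splits if there are no maps `A ⟶ B ⊗ ω`. -/
theorem isSplitEpi_of_hom_zero (hdim : topologicalKrullDim X = 1) {ω : X.Modules}
    {μ : Coh.HH X ω 1 →ₗ[k] k} (hω : IsDualizing k ω μ) {S : ShortComplex X.Modules}
    (hS : S.ShortExact) (hA : FlatMod.IsFinLocFree S.X₁) (hB : FlatMod.IsFinLocFree S.X₃)
    (h : ∀ φ : S.X₁ ⟶ (DCoh.tensorBi.obj S.X₃).obj ω, φ = 0) : IsSplitEpi S.g := by
  haveI := isLocallyNoetherian' k (X := X)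
  have hD := isFinLocFree_dual hB
  refine isSplitEpi_of_HH_one k hdim hS hB
    ((subsingleton_HH_one_iff k hω hdim (KFlatLib.isFinLocFree_tensor hD hA)).2 fun φ => ?_)
  refine subsingleton_hom' hD (fun q => ?_) φ
  haveI := isIso_bidualMap hB
  let e := (DCoh.tensorBi.mapIso (asIso (RefHull.bidualMap S.X₃))).app ω
  rw [← cancel_mono e.inv, h (q ≫ e.inv), zero_comp]

/-- In genus one, an extension with slopes in the wrong order splits. -/
theorem isSplitEpi_genus_one (hO : Module.finrank k (Coh.HH X (Coh.structureModule X) 0) = 1)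
    (hdim : topologicalKrullDim X = 1) (hg : Curv2.genus k X = 1) {S : ShortComplex X.Modules}
    (hS : S.ShortExact) (hA : FlatMod.IsFinLocFree S.X₁) (hB : FlatMod.IsFinLocFree S.X₃)
    (hAss : ∀ (G : X.Modules) (j : G ⟶ S.X₁), Mono j → FlatMod.IsFinLocFree G →
      dg k G * (rk S.X₁ : ℤ) ≤ dg k S.X₁ * (rk G : ℤ))
    (hBlt : ∀ (H : X.Modules) (j : H ⟶ S.X₃), Mono j → FlatMod.IsFinLocFree H → 0 < rk H →
      dg k H * (rk S.X₁ : ℤ) < dg k S.X₁ * (rk H : ℤ)) : IsSplitEpi S.g := by
  obtain ⟨ω, μ, hω⟩ := exists_isDualizing k (X := X) hdim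
  obtain ⟨u⟩ := nonempty_iso_of_genus_one k hO hω hdim hg
  let e : S.X₃ ≅ (DCoh.tensorBi.obj S.X₃).obj ω :=
    (KFlatLib.tensorUnitIso S.X₃).symm ≪≫ (DCoh.tensorBi.obj S.X₃).mapIso u
  refine isSplitEpi_of_hom_zero k hdim hω hS hA hB fun φ => ?_
  rw [← cancel_mono e.inv, eq_zero_of_slopes k hdim.le hA hB (φ ≫ e.inv) hAss hBlt, zero_comp]

/-- In genus one, a bundle without non-trivial decomposition has no destabilising subbundle. -/
theorem ss_of_indecomposable_genus_one
    (hO : Module.finrank k (Coh.HH X (Coh.structureModule X) 0) = 1)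
    (hdim : topologicalKrullDim X = 1) (hg : Curv2.genus k X = 1) {E : X.Modules} {r : ℕ} (hr : 0 < r)
    (hE : FlatMod.IsFinLocFreeOfRank r E)
    (hind : ∀ (E₁ E₂ : X.Modules), Nonempty (E ≅ E₁ ⊞ E₂) → IsZero E₁ ∨ IsZero E₂)
    (G : X.Modules) (j : G ⟶ E) [Mono j] (hG : FlatMod.IsFinLocFree G) :
    dg k G * (r : ℤ) ≤ dg k E * (rk G : ℤ) := by
  haveI := isLocallyNoetherian' k (X := X)
  obtain ⟨E₁, i₁, hi₁, hpos, hE₁, hQ, hrk, hd, h1, h2⟩ := exists_max_destab k hdim hr hE
  haveI := hi₁
  have hS := shortExact_cokernel_of_mono i₁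
  haveI : IsSplitEpi (cokernel.π i₁) :=
    isSplitEpi_genus_one k hO hdim hg hS hE₁ hQ
      (fun G j hj hG => by
        haveI := hj
        exact h1 G (j ≫ i₁) inferInstance hG) h2
  have spl := ShortComplex.Splitting.ofExactOfSection _ hS.exact (section_ (cokernel.π i₁))
    (IsSplitEpi.id (cokernel.π i₁)) inferInstance
  have hz : IsZero (cokernel i₁) := by
    refine (hind _ _ ⟨spl.isoBinaryBiproduct⟩).resolve_left fun h0 => ?_
    have hz1 : rk E₁ = 0 := rk_eq_zero_of_isZero (X := X) h0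
    omega
  have h := h1 G j inferInstance hG
  rw [rk_eq hE, rk_eq_zero_of_isZero hz] at hrk
  rw [dg_eq_zero_of_isZero k hz] at hd
  rw [show rk E₁ = r by omega, show dg k E₁ = dg k E by omega] at h
  exact h

end Groth.Agent.VBCurvesLib
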