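import Groth.Agent.VBCurvesLib.Ample
import Groth.Agent.VBCurvesLib.ExtVanish

/-!
Cohomological consequences of a polynomial relation `P(E) ≅ Q(E)` between tensor powers.
-/

set_option linter.style.haveILetI false
set_option linter.unusedSectionVars false
set_option backward.isDefEq.respectTransparency false
set_option backward.isDefEq.respectTransparency.types false
set_option synthInstance.maxHeartbeats 100000
set_option maxHeartbeats 1000000

universe u

open CategoryTheory CategoryTheory.Limits AlgebraicGeometry TopologicalSpace Opposite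
open Groth.Agent.PnCoh.Finite (mapLin)

namespace Groth.Agent.VBCurvesLib

open Groth.Agent.CurveBundle Groth.Agent.CurveSlope Groth.Agent.CurveStable Groth.Agent.CurveDuality

/-- The module `P(E)`. -/
noncomputable abbrev polyObj {X : Scheme.{u}} (E : X.Modules) (P : Polynomial ℕ) : X.Modules :=
  ∐ fun i : Fin (P.natDegree + 1) => ∐ fun _ : Fin (P.coeff ↑i) => CohB1.tensorPow E ↑i

/-- A relation with a nonzero top coefficient propagates vanishing. -/
theorem eq_zero_of_recurrence (B N : ℕ) (c a : ℕ → ℤ) (hN : N < B) (hc : c N ≠ 0)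
    (htop : ∀ i, N < i → i < B → c i = 0) (hrel : ∀ j, ∑ i ∈ Finset.range B, c i * a (j + i) = 0)
    (h0 : ∀ i, i < N → a i = 0) : ∀ n, a n = 0 := by
  intro n
  induction n using Nat.strong_induction_on with
  | _ n ih =>
    rcases lt_or_ge n N with h | h
    · exact h0 n h
    have h1 := hrel (n - N)
    rw [Finset.sum_eq_single N] at h1
    · rw [Nat.sub_add_cancel h] at h1
      exact (mul_eq_zero.1 h1).resolve_left hc
    · intro i hi hne
      rcases Nat.lt_or_gt_of_ne hne with hlt | hgt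
      · rw [ih _ (by omega), mul_zero]
      · rw [htop i hgt (Finset.mem_range.1 hi), zero_mul]
    · exact fun h => absurd (Finset.mem_range.2 hN) h

variable {X : Scheme.{u}} (k : Type u) [Field k] [X.Over (Spec (CommRingCat.of k))] [IsIntegral X]
  [IsProper (X ↘ Spec (CommRingCat.of k))] [Smooth (X ↘ Spec (CommRingCat.of k))]

theorem mapLin_sum {M N : X.Modules} {ι : Type} (s : Finset ι) (f : ι → (M ⟶ N)) (n : ℕ)
    (x : Coh.HH X M n) : mapLin k (∑ i ∈ s, f i) n x = ∑ i ∈ s, mapLin k (f i) n x := by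
  classical
  induction s using Finset.induction with
  | empty => simp [mapLin_zero]
  | insert a s ha ih => rw [Finset.sum_insert ha, Finset.sum_insert ha, mapLin_add, ih]

/-- Cohomology of a finite direct sum. -/
theorem finrank_HH_biproduct {ι : Type} [Fintype ι] (M : ι → X.Modules) (hM : ∀ i, Coh.IsCoh (M i))
    (n : ℕ) : Module.finrank k (Coh.HH X (⨁ M) n) = ∑ i, Module.finrank k (Coh.HH X (M i) n) := by
  classical
  haveI := CurveCohLib.isNoetherian_of_proper (k := k) (X := X)
  haveI := fun i => S0002.result k X (M i) (hM i) n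
  let a : Coh.HH X (⨁ M) n →ₗ[k] ((i : ι) → Coh.HH X (M i) n) :=
    LinearMap.pi fun i => mapLin k (biproduct.π M i) n
  let b : ((i : ι) → Coh.HH X (M i) n) →ₗ[k] Coh.HH X (⨁ M) n :=
    ∑ i, (mapLin k (biproduct.ι M i) n).comp (LinearMap.proj i)
  have h1 : a.comp b = LinearMap.id := by
    refine LinearMap.pi_ext fun i x => funext fun j => ?_
    simp only [LinearMap.comp_apply, LinearMap.id_apply, a, b, LinearMap.pi_apply, LinearMap.sum_apply,
      LinearMap.proj_apply, map_sum, FFun.mapLin_comp]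
    rw [Finset.sum_eq_single i]
    · rw [Pi.single_eq_same]
      by_cases h : i = j
      · subst h
        rw [biproduct.ι_π_self, mapLin_id, Pi.single_eq_same]
      · rw [biproduct.ι_π_ne _ h, mapLin_zero, Pi.single_eq_of_ne (Ne.symm h)]
    · intro l _ hl
      rw [Pi.single_eq_of_ne hl, map_zero]
    · exact fun h => absurd (Finset.mem_univ i) h
  have h2 : b.comp a = LinearMap.id := LinearMap.ext fun x => by
    simp only [LinearMap.comp_apply, LinearMap.id_apply, a, b, LinearMap.sum_apply, LinearMap.proj_apply,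
      LinearMap.pi_apply, FFun.mapLin_comp]
    rw [← mapLin_sum, biproduct.total, mapLin_id]
  rw [(LinearEquiv.ofLinear a b h1 h2).finrank_eq, Module.finrank_pi_fintype]

theorem finrank_HH_coproduct {ι : Type} [Fintype ι] (M : ι → X.Modules) (hM : ∀ i, Coh.IsCoh (M i))
    (n : ℕ) : Module.finrank k (Coh.HH X (∐ M) n) = ∑ i, Module.finrank k (Coh.HH X (M i) n) := by
  rw [← finrank_HH_biproduct k M hM n]
  exact (CurveCohLib.hhEquiv (k := k) (biproduct.isoCoproduct M).symm n).finrank_eq

include k in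
theorem isCoh_coproduct {ι : Type} [Fintype ι] (M : ι → X.Modules) (hM : ∀ i, Coh.IsCoh (M i)) :
    Coh.IsCoh (∐ M) := by
  haveI := CurveCohLib.isNoetherian_of_proper (k := k) (X := X)
  have h := QCoh.isCoh_biproduct (fun x : ULift.{u} ι => M x.down) fun x => hM x.down
  let e : (⨁ fun x : ULift.{u} ι => M x.down) ≅ ∐ M :=
    biproduct.whiskerEquiv (f := fun x : ULift.{u} ι => M x.down) (g := M) Equiv.ulift (fun _ => Iso.refl _) ≪≫
      biproduct.isoCoproduct M
  have hq := (QCoh.isQCoh_iff_iso e).1 h.1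
  exact ⟨hq, (QCoh.isCoh_of_epi e.hom h hq).2⟩

include k in
theorem isFinLocFree_tensorPow {E : X.Modules} (hE : FlatMod.IsFinLocFree E) :
    ∀ i : ℕ, FlatMod.IsFinLocFree (CohB1.tensorPow E i)
  | 0 => isFinLocFree_of_rank (InvEnd.isFinLocFreeOfRank_one CurveDeg.isInvertible_structureModule)
  | i + 1 => KFlatLib.isFinLocFree_tensor (isFinLocFree_tensorPow hE i) hE

/-- Cohomology of a twist of `P(E)`. -/
theorem finrank_tensor_polyObj {E D : X.Modules} (hE : FlatMod.IsFinLocFree E)
    (hD : FlatMod.IsFinLocFree D) (P : Polynomial ℕ) (n B : ℕ) (hB : P.natDegree < B) :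
    Module.finrank k (Coh.HH X ((DCoh.tensorBi.obj D).obj (polyObj E P)) n) =
      ∑ i ∈ Finset.range B, P.coeff i *
        Module.finrank k (Coh.HH X ((DCoh.tensorBi.obj D).obj (CohB1.tensorPow E i)) n) := by
  haveI := CurveCohLib.isNoetherian_of_proper (k := k) (X := X)
  let T := DCoh.tensorBi.obj D
  have hpow := fun i => coh_of_free k (isFinLocFree_tensorPow k hE i)
  have hT : ∀ i, Coh.IsCoh (T.obj (CohB1.tensorPow E i)) := fun i =>
    CurveTensor.isCoh_tensor hD (hpow i)
  have hin : ∀ i : Fin (P.natDegree + 1),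
      Coh.IsCoh (∐ fun _ : Fin (P.coeff ↑i) => T.obj (CohB1.tensorPow E ↑i)) :=
    fun i => isCoh_coproduct k _ fun _ => hT i
  let e : T.obj (polyObj E P) ≅
      ∐ fun i : Fin (P.natDegree + 1) => ∐ fun _ : Fin (P.coeff ↑i) => T.obj (CohB1.tensorPow E ↑i) :=
    T.mapIso (biproduct.isoCoproduct _).symm ≪≫ T.mapBiproduct _ ≪≫ biproduct.isoCoproduct _ ≪≫
      Limits.Sigma.mapIso fun i =>
        T.mapIso (biproduct.isoCoproduct _).symm ≪≫ T.mapBiproduct _ ≪≫ biproduct.isoCoproduct _
  rw [(CurveCohLib.hhEquiv (k := k) e n).finrank_eq, finrank_HH_coproduct k _ hin n]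
  have h1 : ∀ i : Fin (P.natDegree + 1),
      Module.finrank k (Coh.HH X (∐ fun _ : Fin (P.coeff ↑i) => T.obj (CohB1.tensorPow E ↑i)) n) =
        P.coeff ↑i * Module.finrank k (Coh.HH X (T.obj (CohB1.tensorPow E ↑i)) n) := fun i => by
    rw [finrank_HH_coproduct k _ (fun _ => hT i) n, Finset.sum_const, Finset.card_univ, Fintype.card_fin,
      smul_eq_mul]
  rw [Finset.sum_congr rfl fun i _ => h1 i,
    Fin.sum_univ_eq_sum_range (fun i : ℕ => P.coeff i * Module.finrank k (Coh.HH X (T.obj (CohB1.tensorPow E i)) n))]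
  refine Finset.sum_subset (fun i hi => Finset.mem_range.2 (by have := Finset.mem_range.1 hi; omega))
    fun i _ hi => ?_
  rw [Polynomial.coeff_eq_zero_of_natDegree_lt (by simp only [Finset.mem_range] at hi; omega), zero_mul]

/-- Tensor powers add up. -/
noncomputable def powAddIso (D E : X.Modules) (j : ℕ) : ∀ i : ℕ,
    (DCoh.tensorBi.obj ((DCoh.tensorBi.obj D).obj (CohB1.tensorPow E j))).obj (CohB1.tensorPow E i) ≅
      (DCoh.tensorBi.obj D).obj (CohB1.tensorPow E (j + i))
  | 0 => KFlatLib.tensorUnitIso _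
  | i + 1 =>
    (CurveRR.tensorCompIso ((DCoh.tensorBi.obj D).obj (CohB1.tensorPow E j)) (CohB1.tensorPow E i)).app E ≪≫
      (DCoh.tensorBi.mapIso (powAddIso D E j i)).app E ≪≫
        ((CurveRR.tensorCompIso D (CohB1.tensorPow E (j + i))).app E).symm

/-- The linear recurrence satisfied by the cohomology of twisted powers. -/
theorem exists_recurrence {E : X.Modules} (hE : FlatMod.IsFinLocFree E) (P Q : Polynomial ℕ)
    (hPQ : P ≠ Q) (e : polyObj E P ≅ polyObj E Q) :
    ∃ N : ℕ, ∀ D : X.Modules, FlatMod.IsFinLocFree D → ∀ n : ℕ,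
      (∀ i, i < N → Module.finrank k (Coh.HH X ((DCoh.tensorBi.obj D).obj (CohB1.tensorPow E i)) n) = 0) →
      ∀ m, Module.finrank k (Coh.HH X ((DCoh.tensorBi.obj D).obj (CohB1.tensorPow E m)) n) = 0 := by
  classical
  let B := P.natDegree + Q.natDegree + 1
  let S := (Finset.range B).filter fun i => P.coeff i ≠ Q.coeff i
  have hS : S.Nonempty := by
    by_contra h
    refine hPQ (Polynomial.ext fun i => ?_)
    by_cases hi : i < B
    · by_contra hne
      exact h ⟨i, Finset.mem_filter.2 ⟨Finset.mem_range.2 hi, hne⟩⟩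
    · rw [Polynomial.coeff_eq_zero_of_natDegree_lt (by omega),
        Polynomial.coeff_eq_zero_of_natDegree_lt (by omega)]
  refine ⟨S.max' hS, fun D hD n h0 m => ?_⟩
  obtain ⟨hlt, hne⟩ := Finset.mem_filter.1 (S.max'_mem hS)
  have h := eq_zero_of_recurrence B (S.max' hS) (fun i => (P.coeff i : ℤ) - Q.coeff i)
    (fun i => (Module.finrank k (Coh.HH X ((DCoh.tensorBi.obj D).obj (CohB1.tensorPow E i)) n) : ℤ))
    (Finset.mem_range.1 hlt) (sub_ne_zero.2 (by exact_mod_cast hne))
    (fun i hi hiB => by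
      by_contra hc
      have hmem : i ∈ S := Finset.mem_filter.2 ⟨Finset.mem_range.2 hiB, fun he => hc (by rw [he, sub_self])⟩
      exact absurd (S.le_max' i hmem) (not_le.2 hi))
    (fun j => by
      have hD' := KFlatLib.isFinLocFree_tensor hD (isFinLocFree_tensorPow k hE j)
      have h1 := finrank_tensor_polyObj k hE hD' P n B (by omega)
      have h2 := finrank_tensor_polyObj k hE hD' Q n B (by omega)
      rw [(CurveCohLib.hhEquiv (k := k) ((DCoh.tensorBi.obj _).mapIso e) n).finrank_eq, h2] at h1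
      simp only [sub_mul, Finset.sum_sub_distrib]
      rw [sub_eq_zero]
      have h3 : ∀ i, Module.finrank k (Coh.HH X ((DCoh.tensorBi.obj ((DCoh.tensorBi.obj D).obj
          (CohB1.tensorPow E j))).obj (CohB1.tensorPow E i)) n) =
          Module.finrank k (Coh.HH X ((DCoh.tensorBi.obj D).obj (CohB1.tensorPow E (j + i))) n) :=
        fun i => (CurveCohLib.hhEquiv (k := k) (powAddIso D E j i) n).finrank_eq
      simp only [h3] at h1
      exact_mod_cast h1.symm)
    (fun i hi => by exact_mod_cast h0 i hi) m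
  exact_mod_cast h

/-- A twist by a sufficiently negative line bundle has no sections. -/
theorem exists_no_sections (hdim : topologicalKrullDim X = 1) {V : X.Modules} (hV : FlatMod.IsFinLocFree V) :
    ∃ c : ℤ, ∀ D : X.Modules, PicF.IsInvertible D → Curv2.deg k X D 1 < c →
      Module.finrank k (Coh.HH X ((DCoh.tensorBi.obj D).obj V) 0) = 0 := by
  refine ⟨-((Module.finrank k (Coh.HH X V 0) : ℤ) - Curv2.euler k X (Coh.structureModule X)),
    fun D hD hd => ?_⟩
  by_contra hne
  obtain ⟨s, hs⟩ := CurveRR.exists_hom_ne_zero k hne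
  have hO1 := InvEnd.isFinLocFreeOfRank_one (CurveDeg.isInvertible_structureModule (X := X))
  have hOf := isFinLocFree_of_rank hO1
  haveI := CurveSection.mono_of_ne_zero k hdim.le hOf (rk_eq hO1)
    (KFlatLib.isFinLocFree_tensor (isFinLocFree_of_rank (InvEnd.isFinLocFreeOfRank_one hD)) hV) s hs
  obtain ⟨H, j, hj, hH, hrH, hdH⟩ := exists_untwist k hdim hD (Q := V)
    (s ≫ (CurveTensor.commIso D V).hom) hOf
  haveI := hj
  have h := dg_le_h0 k hdim.le j (coh_of_free k hH) (coh_of_free k hV)
  rw [hrH, rk_eq hO1, hdH, ← deg_eq_dg k hO1, CurveDeg.deg_structureModule, rk_eq hO1] at h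
  push_cast at h
  omega

/-- The degree of a tensor power. -/
theorem dg_tensorPow (hdim : topologicalKrullDim X = 1) {G : X.Modules} (hG : FlatMod.IsFinLocFree G) :
    ∀ n : ℕ, rk (CohB1.tensorPow G n) = rk G ^ n ∧
      dg k (CohB1.tensorPow G n) * (rk G : ℤ) = (n : ℤ) * (rk G : ℤ) ^ n * dg k G
  | 0 => by
    have hO1 := InvEnd.isFinLocFreeOfRank_one (CurveDeg.isInvertible_structureModule (X := X))
    refine ⟨(rk_eq hO1).trans (pow_zero _).symm, ?_⟩
    have : dg k (CohB1.tensorPow G 0) = 0 := by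
      show dg k (Coh.structureModule X) = 0
      rw [← deg_eq_dg k hO1, CurveDeg.deg_structureModule]
    rw [this]
    simp
  | n + 1 => by
    obtain ⟨h1, h2⟩ := dg_tensorPow hdim hG n
    obtain ⟨h3, h4⟩ : rk (CohB1.tensorPow G (n + 1)) = rk (CohB1.tensorPow G n) * rk G ∧
        dg k (CohB1.tensorPow G (n + 1)) =
          (rk (CohB1.tensorPow G n) : ℤ) * dg k G + (rk G : ℤ) * dg k (CohB1.tensorPow G n) :=
      dg_tensor k hdim (isFinLocFree_tensorPow k hG n) hG
    refine ⟨by rw [h3, h1, pow_succ], ?_⟩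
    rw [h4, h1]
    push_cast
    linear_combination (rk G : ℤ) * h2

/-- Euler characteristic of a twisted power, scaled by the rank. -/
theorem euler_twisted_pow (hdim : topologicalKrullDim X = 1) {D G : X.Modules} (hD : PicF.IsInvertible D)
    (hG : FlatMod.IsFinLocFree G) (n : ℕ) :
    Curv2.euler k X ((DCoh.tensorBi.obj D).obj (CohB1.tensorPow G n)) * (rk G : ℤ) =
      (rk G : ℤ) ^ n * ((n : ℤ) * dg k G +
        (rk G : ℤ) * (Curv2.deg k X D 1 + Curv2.euler k X (Coh.structureModule X))) := by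
  obtain ⟨r1, d1⟩ := dg_tensor_line k hdim hD (isFinLocFree_tensorPow k hG n)
  obtain ⟨r2, d2⟩ := dg_tensorPow k hdim hG n
  have h : dg k ((DCoh.tensorBi.obj D).obj (CohB1.tensorPow G n)) =
      Curv2.euler k X ((DCoh.tensorBi.obj D).obj (CohB1.tensorPow G n)) -
        ((rk G : ℤ) ^ n) * Curv2.euler k X (Coh.structureModule X) := by
    unfold dg
    rw [r1, r2]
    push_cast
    ring
  rw [r2] at d1
  push_cast at d1
  linear_combination d2 + (rk G : ℤ) * d1 - (rk G : ℤ) * h

include k in
/-- Powers of a subsheaf are subsheaves of powers. -/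
theorem exists_mono_pow {E G : X.Modules} (hE : FlatMod.IsFinLocFree E) (hG : FlatMod.IsFinLocFree G)
    (i : G ⟶ E) [Mono i] : ∀ n : ℕ, ∃ f : CohB1.tensorPow G n ⟶ CohB1.tensorPow E n, Mono f
  | 0 => ⟨𝟙 (Coh.structureModule X), (inferInstance : Mono (𝟙 (Coh.structureModule X)))⟩
  | n + 1 => by
    haveI := isLocallyNoetherian' k (X := X)
    obtain ⟨f, hf⟩ := exists_mono_pow hE hG i n
    haveI := hf
    haveI h1 : Mono (CurveHiggs.twist G f) := CurveHiggs.mono_twist hG f
    haveI h2 : Mono ((DCoh.tensorBi.obj (CohB1.tensorPow E n)).map i) :=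
      (CurveTensor.shortExact_tensor (isFinLocFree_tensorPow k hE n) _ _ _
        (shortExact_cokernel_of_mono i)).mono_f
    exact ⟨CurveHiggs.twist G f ≫ (DCoh.tensorBi.obj (CohB1.tensorPow E n)).map i, mono_comp _ _⟩

/-- A bundle satisfying a polynomial relation is semistable of degree zero. -/
theorem semistable_of_weilFinite (hdim : topologicalKrullDim X = 1) {E : X.Modules}
    (hE : FlatMod.IsFinLocFree E) (hpos : 0 < rk E) (P Q : Polynomial ℕ)
    (hPQ : P ≠ Q) (e : polyObj E P ≅ polyObj E Q) :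
    dg k E = 0 ∧ ∀ (G : X.Modules) (i : G ⟶ E), Mono i → FlatMod.IsFinLocFree G → dg k G ≤ 0 := by
  haveI := CurveCohLib.isNoetherian_of_proper (k := k) (X := X)
  obtain ⟨N, hN⟩ := exists_recurrence k hE P Q hPQ e
  have hsub : ∀ (G : X.Modules) (i : G ⟶ E), Mono i → FlatMod.IsFinLocFree G → dg k G ≤ 0 := by
    intro G i hi hG
    haveI := hi
    by_contra hd
    push Not at hd
    choose c hc using fun j : ℕ => exists_no_sections k hdim (isFinLocFree_tensorPow k hE j)
    obtain ⟨e₀, he₀⟩ : ∃ e₀ : ℤ, ∀ j, j < N → e₀ ≤ c j :=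
      ⟨-∑ j ∈ Finset.range N, |c j|, fun j hj => by
        have := Finset.single_le_sum (f := fun j => |c j|) (fun _ _ => abs_nonneg _) (Finset.mem_range.2 hj)
        have := neg_abs_le (c j)
        omega⟩
    obtain ⟨D, hD, hdD⟩ := exists_deg_le k hdim (e₀ - 1)
    have hDf := isFinLocFree_of_rank (InvEnd.isFinLocFreeOfRank_one hD)
    have hzero := hN D hDf 0 fun j hj => hc j D hD (by have := he₀ j hj; omega)
    obtain ⟨n, hn⟩ : ∃ n : ℕ, -((rk G : ℤ) * (Curv2.deg k X D 1 +
        Curv2.euler k X (Coh.structureModule X))) < (n : ℤ) :=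
      ⟨(-((rk G : ℤ) * (Curv2.deg k X D 1 + Curv2.euler k X (Coh.structureModule X)))).toNat + 1, by omega⟩
    obtain ⟨f, hf⟩ := exists_mono_pow k hE hG i n
    haveI := hf
    haveI : Mono ((DCoh.tensorBi.obj D).map f) :=
      (CurveTensor.shortExact_tensor hDf _ _ _ (shortExact_cokernel_of_mono f)).mono_f
    have hle := finrank_h0_le_of_mono k ((DCoh.tensorBi.obj D).map f)
      (CurveTensor.isCoh_tensor hDf (coh_of_free k (isFinLocFree_tensorPow k hE n)))
    rw [hzero n] at hle
    have hχ := euler_le_h0 k hdim.le (CurveTensor.isCoh_tensor hDf (coh_of_free k (isFinLocFree_tensorPow k hG n)))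
    have hr : (0 : ℤ) < rk G := by
      rcases Nat.eq_zero_or_pos (rk G) with h | h
      · rw [dg_eq_zero_of_isZero k (isZero_of_rk_zero hG h)] at hd
        exact absurd hd (lt_irrefl 0)
      · exact_mod_cast h
    have he := euler_twisted_pow k hdim hD hG n
    have hn' : (n : ℤ) ≤ (n : ℤ) * dg k G := le_mul_of_one_le_right (by positivity) (by omega)
    have h1 : 0 < (rk G : ℤ) ^ n * ((n : ℤ) * dg k G +
        (rk G : ℤ) * (Curv2.deg k X D 1 + Curv2.euler k X (Coh.structureModule X))) :=
      mul_pos (pow_pos hr n) (by linarith)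
    rw [← he] at h1
    have h2 := pos_of_mul_pos_left h1 hr.le
    omega
  refine ⟨le_antisymm (hsub E (𝟙 E) inferInstance hE) ?_, hsub⟩
  by_contra hd
  push Not at hd
  choose c hc using fun j : ℕ => exists_twist_vanish k hdim _ _ (isFinLocFree_tensorPow k hE j) rfl
  obtain ⟨e₀, he₀⟩ : ∃ e₀ : ℤ, ∀ j, j < N → c j ≤ e₀ :=
    ⟨∑ j ∈ Finset.range N, |c j|, fun j hj => by
      have := Finset.single_le_sum (f := fun j => |c j|) (fun _ _ => abs_nonneg _) (Finset.mem_range.2 hj)
      have := le_abs_self (c j)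
      omega⟩
  obtain ⟨D, hD, hdD⟩ := exists_deg_ge k hdim e₀
  have hDf := isFinLocFree_of_rank (InvEnd.isFinLocFreeOfRank_one hD)
  have hzero := hN D hDf 1 fun j hj => by
    haveI := hc j D hD (le_trans (he₀ j hj) hdD)
    exact Module.finrank_zero_of_subsingleton
  obtain ⟨n, hn⟩ : ∃ n : ℕ, (rk E : ℤ) * (Curv2.deg k X D 1 +
      Curv2.euler k X (Coh.structureModule X)) < (n : ℤ) :=
    ⟨((rk E : ℤ) * (Curv2.deg k X D 1 + Curv2.euler k X (Coh.structureModule X))).toNat + 1, by omega⟩
  have hTc := CurveTensor.isCoh_tensor hDf (coh_of_free k (isFinLocFree_tensorPow k hE n))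
  have hχ := euler_eq k hdim hTc
  rw [hzero n] at hχ
  have he := euler_twisted_pow k hdim hD hE n
  have hn' : (n : ℤ) * dg k E ≤ -(n : ℤ) := by
    have := mul_le_mul_of_nonneg_left (show dg k E ≤ -1 by omega) (Int.natCast_nonneg n)
    linarith
  have hr : (0 : ℤ) < rk E := by exact_mod_cast hpos
  have h1 : (rk E : ℤ) ^ n * ((n : ℤ) * dg k E +
      (rk E : ℤ) * (Curv2.deg k X D 1 + Curv2.euler k X (Coh.structureModule X))) < 0 :=
    mul_neg_of_pos_of_neg (pow_pos hr n) (by linarith)
  rw [← he, hχ] at h1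
  push_cast at h1
  have h2 : (0 : ℤ) ≤ (Module.finrank k (Coh.HH X ((DCoh.tensorBi.obj D).obj
      (CohB1.tensorPow E n)) 0) : ℤ) * (rk E : ℤ) := by positivity
  linarith

/-- In a product with one nonzero coefficient only one summand survives. -/
noncomputable def monomialObjIso (E : X.Modules) (P : Polynomial ℕ) (m : ℕ)
    (hm : P.coeff m = 1) (hz : ∀ i, i ≠ m → P.coeff i = 0) : polyObj E P ≅ CohB1.tensorPow E m where
  hom := Sigma.desc fun i => Sigma.desc fun j => eqToHom (by
    by_cases h : (i : ℕ) = m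
    · rw [h]
    · exact (by have := hz _ h; have := j.2; omega : False).elim)
  inv := Sigma.ι (fun _ : Fin (P.coeff m) => CohB1.tensorPow E m) ⟨0, by omega⟩ ≫
    Sigma.ι (fun i : Fin (P.natDegree + 1) => ∐ fun _ : Fin (P.coeff ↑i) => CohB1.tensorPow E ↑i)
      ⟨m, Nat.lt_succ_of_le (Polynomial.le_natDegree_of_ne_zero (by omega))⟩
  hom_inv_id := by
    refine Sigma.hom_ext _ _ fun i => Sigma.hom_ext _ _ fun j => ?_
    obtain ⟨i, hi⟩ := i
    obtain rfl : i = m := by
      by_contra h
      have := hz _ h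
      have h2 : (j : ℕ) < P.coeff i := j.2
      omega
    obtain ⟨j, hj⟩ := j
    replace hj : j < P.coeff i := hj
    obtain rfl : j = 0 := by omega
    simp
  inv_hom_id := by simp

end Groth.Agent.VBCurvesLib
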