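import Groth.Agent.VBCurvesLib.SectionBound

/-!
Degrees of tensor powers and of ample line bundles; vanishing for large twists of quotients of free
modules.
-/

set_option linter.style.haveILetI false
set_option linter.unusedSectionVars false
set_option backward.isDefEq.respectTransparency false
set_option backward.isDefEq.respectTransparency.types false
set_option synthInstance.maxHeartbeats 100000
set_option maxHeartbeats 1000000

universe u

open CategoryTheory CategoryTheory.Limits AlgebraicGeometry TopologicalSpace Opposite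

namespace Groth.Agent.VBCurvesLib

open Groth.Agent.CurveBundle Groth.Agent.CurveSlope Groth.Agent.CurveStable Groth.Agent.CurveDuality

variable {X : Scheme.{u}} (k : Type u) [Field k] [X.Over (Spec (CommRingCat.of k))] [IsIntegral X]
  [IsProper (X ↘ Spec (CommRingCat.of k))] [Smooth (X ↘ Spec (CommRingCat.of k))]

theorem deg_tensorPow (hdim : topologicalKrullDim X = 1) {L : X.Modules} (hL : PicF.IsInvertible L) :
    ∀ n : ℕ, Curv2.deg k X (CohB1.tensorPow L n) 1 = (n : ℤ) * Curv2.deg k X L 1
  | 0 => by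
    rw [Nat.cast_zero, zero_mul]
    exact CurveDeg.deg_structureModule (k := k) (X := X)
  | n + 1 => by
    have h : Curv2.deg k X (CohB1.tensorPow L (n + 1)) 1 =
        Curv2.deg k X (CohB1.tensorPow L n) 1 + Curv2.deg k X L 1 :=
      CurveRR.deg_tensor k hdim (InvX.isInvertible_tensorPow hL n) hL
    rw [h, deg_tensorPow hdim hL n]
    push_cast
    ring

include k in
/-- A proper curve is not affine. -/
theorem not_isAffine (hdim : topologicalKrullDim X = 1) : ¬ IsAffine X := fun h => by
  haveI := h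
  obtain ⟨ω, μ, hω⟩ := exists_isDualizing k (X := X) hdim
  have hc := coh_of_free k (isFinLocFree_of_rank (InvEnd.isFinLocFreeOfRank_one hω.inv))
  haveI : Coh.IsQCoh ω := hc.1
  haveI := S0007.result X ω 1 one_pos
  exact hω.ne (LinearMap.ext fun y => by
    rw [Subsingleton.elim y 0, map_zero, map_zero])

theorem deg_pos_of_isAmple (hdim : topologicalKrullDim X = 1) {L : X.Modules} (hL : CohB1.IsAmple L) :
    0 < Curv2.deg k X L 1 := by
  obtain ⟨hLi, -, hgen⟩ := hL
  obtain ⟨n, s, hx, haff⟩ := hgen (genericPoint X)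
  have hM := InvX.isInvertible_tensorPow hLi (n + 1)
  have hs : s ≠ 0 := by
    rintro rfl
    obtain ⟨U₀, hU, hxU⟩ := Opens.mem_sSup.1 hx
    let U : X.Opens := U₀
    haveI : IsIso ((Scheme.Modules.restrictFunctor U.ι).map (0 : Coh.structureModule X ⟶ _)) := hU
    haveI : Nonempty ↥(U.ι ''ᵁ ⊤) := ⟨⟨genericPoint X, by
      rw [Scheme.Hom.image_top_eq_opensRange, Scheme.Opens.opensRange_ι]
      exact hxU⟩⟩
    let q := (Scheme.Modules.restrictFunctor U.ι).map (0 : Coh.structureModule X ⟶ CohB1.tensorPow L (n + 1))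
    haveI : IsIso (q.app ⊤) := by
      show IsIso (((Scheme.Modules.toPresheaf _).map q).app (op ⊤))
      infer_instance
    have hinj := (ConcreteCategory.bijective_of_isIso (q.app ⊤)).1
    have h10 : (1 : Γ(X, U.ι ''ᵁ ⊤)) = 0 := hinj (Eq.refl (0 : Γ(CohB1.tensorPow L (n + 1), U.ι ''ᵁ ⊤)))
    exact one_ne_zero h10
  obtain ⟨hle, hiso⟩ := CurveDeg.deg_le_and_isIso k hdim.le CurveDeg.isInvertible_structureModule hM s hs
  rw [CurveDeg.deg_structureModule, deg_tensorPow k hdim hLi] at hle hiso
  refine lt_of_le_of_ne (nonneg_of_mul_nonneg_right hle (by positivity)) fun h0 => ?_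
  haveI := hiso (by rw [← h0, mul_zero])
  have htop : CohB1.genLocus _ s = ⊤ := top_le_iff.1 (le_sSup
    (show IsIso ((Scheme.Modules.restrictFunctor (⊤ : X.Opens).ι).map s) from inferInstance))
  rw [htop] at haff
  haveI : IsAffine (⊤ : X.Opens).toScheme := haff
  exact not_isAffine k hdim (IsAffine.of_isIso X.topIso.inv)

/-- A quotient of a free module has no `H¹` after a twist of degree above `2 g - 2`. -/
theorem subsingleton_HH_one_of_free_quot (hO : Module.finrank k (Coh.HH X (Coh.structureModule X) 0) = 1)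
    (hdim : topologicalKrullDim X = 1) {F T : X.Modules} (hF : FlatMod.IsFinLocFree F)
    (hT : PicF.IsInvertible T) (hd : 2 * (Curv2.genus k X : ℤ) - 2 < Curv2.deg k X T 1)
    {ι : Type} (q : (∐ fun _ : ι => Coh.structureModule X) ⟶ F) [Epi q] :
    Subsingleton (Coh.HH X ((DCoh.tensorBi.obj F).obj T) 1) := by
  obtain ⟨ω, μ, hω⟩ := exists_isDualizing k (X := X) hdim
  refine (subsingleton_HH_one_iff k hω hdim (CurveHiggs.isFinLocFree_twist hT hF)).2 fun φ => ?_
  obtain ⟨D, hD, hdD, ⟨e⟩⟩ := exists_inverse_deg k hdim hT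
  have e' : (DCoh.tensorBi.obj D).obj T ≅ Coh.structureModule X := CurveTensor.commIso D T ≪≫ e
  let ψ : F ⟶ (DCoh.tensorBi.obj D).obj ω :=
    (CurveRR.cancelIso e').inv.app F ≫
      (DCoh.tensorBi.obj D).map ((CurveTensor.commIso T F).hom ≫ φ)
  have hW := InvX.isInvertible_tensorMod hD hω.inv
  have hψ : ψ = 0 := by
    rw [← cancel_epi q, comp_zero]
    refine Sigma.hom_ext _ _ fun i => ?_
    rw [comp_zero]
    by_contra hne
    have h := (CurveDeg.deg_le_and_isIso k hdim.le CurveDeg.isInvertible_structureModule hW _ hne).1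
    replace h : 0 ≤ Curv2.deg k X ((DCoh.tensorBi.obj D).obj ω) 1 := by
      rwa [CurveDeg.deg_structureModule] at h
    rw [CurveRR.deg_tensor k hdim hD hω.inv, hdD, (canonical_invariants k hO hω hdim).2.2] at h
    omega
  have h1 : (DCoh.tensorBi.obj D).map ((CurveTensor.commIso T F).hom ≫ φ) = 0 := by
    rw [← cancel_epi ((CurveRR.cancelIso e').inv.app F), comp_zero]
    exact hψ
  have h2 := CurveRR.eq_zero_of_map_eq_zero e _ h1
  rwa [← cancel_epi (CurveTensor.commIso T F).hom, comp_zero]

end Groth.Agent.VBCurvesLib
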