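import Groth.Agent.Lib.CurveSSVanish

/-!
Destabilising subsheaves on smooth proper curves, and their behaviour under twisting.
-/

set_option linter.style.haveILetI false
set_option linter.unusedSectionVars false
set_option backward.isDefEq.respectTransparency false
set_option backward.isDefEq.respectTransparency.types false

universe u

open CategoryTheory CategoryTheory.Limits AlgebraicGeometry TopologicalSpace Opposite

namespace Groth.Agent.VBCurvesLib

open Groth.Agent.CurveBundle Groth.Agent.CurveSlope Groth.Agent.CurveStable Groth.Agent.CurveDuality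

variable {X : Scheme.{u}} (k : Type u) [Field k] [X.Over (Spec (CommRingCat.of k))] [IsIntegral X]
  [IsProper (X ↘ Spec (CommRingCat.of k))] [Smooth (X ↘ Spec (CommRingCat.of k))]

include k in
/-- A map from a coherent module of generic rank zero to a bundle is zero. -/
theorem eq_zero_of_rk_zero (hdim : topologicalKrullDim X ≤ 1) {A B : X.Modules} (hA : Coh.IsCoh A)
    (hrA : rk A = 0) (hB : FlatMod.IsFinLocFree B) (f : A ⟶ B) : f = 0 := by
  haveI := isLocallyNoetherian' k (X := X)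
  obtain ⟨I, π, j, hj, hfac, -, hI, -, w, hS⟩ := exists_factor hA (coh_of_free k hB) f
  haveI := hj
  have hrI := rk_add_coh k _ _ w hS hA
  have hIz := isZero_of_rk_zero (isFinLocFree_of_mono k hdim hI j hB) (by omega)
  rw [← hfac, hIz.eq_of_tgt π 0, zero_comp]

/-- A coherent module of generic rank zero and Euler characteristic zero is zero. -/
theorem isZero_of_dg_zero (hdim : topologicalKrullDim X ≤ 1) {A : X.Modules} (hA : Coh.IsCoh A)
    (hr : rk A = 0) (hd : dg k A = 0) : IsZero A := by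
  haveI := isLocallyNoetherian' k (X := X)
  refine (Euler.euler_nonneg_of_good k hA (Euler.good_of_dim_le_zero k hA
    (CurveDeg.topologicalKrullDim_le_zero_of_ne_univ hdim (QCoh.isClosed_support_of_isFT hA.1 hA.2)
      (support_ne_univ_of_rk hA hr)))).2 ?_
  have h : dg k A = Curv2.euler k X A := by
    unfold dg
    rw [hr]
    simp
  omega

/-- A coherent module of generic rank zero has nonnegative degree. -/
theorem dg_nonneg_of_rk_zero (hdim : topologicalKrullDim X ≤ 1) {A : X.Modules} (hA : Coh.IsCoh A)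
    (hr : rk A = 0) : 0 ≤ dg k A := by
  haveI := isLocallyNoetherian' k (X := X)
  have h := (Euler.euler_nonneg_of_good k hA (Euler.good_of_dim_le_zero k hA
    (CurveDeg.topologicalKrullDim_le_zero_of_ne_univ hdim (QCoh.isClosed_support_of_isFT hA.1 hA.2)
      (support_ne_univ_of_rk hA hr)))).1
  unfold dg
  rw [hr]
  simpa using h

/-- A subsheaf of maximal slope among those with a property, of maximal rank. -/
theorem exists_max_slope_of (hdim : topologicalKrullDim X ≤ 1) {E : X.Modules}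
    (hE : FlatMod.IsFinLocFree E) (P : ∀ G : X.Modules, (G ⟶ E) → Prop)
    (hne : ∃ (G : X.Modules) (j : G ⟶ E), Mono j ∧ FlatMod.IsFinLocFree G ∧ 0 < rk G ∧ P G j) :
    ∃ (E₁ : X.Modules) (i₁ : E₁ ⟶ E), Mono i₁ ∧ 0 < rk E₁ ∧ FlatMod.IsFinLocFree E₁ ∧ P E₁ i₁ ∧
      ∀ (G : X.Modules) (j : G ⟶ E), Mono j → FlatMod.IsFinLocFree G → 0 < rk G → P G j →
        dg k G * (rk E₁ : ℤ) ≤ dg k E₁ * (rk G : ℤ) ∧
        (dg k G * (rk E₁ : ℤ) = dg k E₁ * (rk G : ℤ) → rk G ≤ rk E₁) := by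
  classical
  let J : Finset ℕ := (Finset.Icc 1 (rk E)).filter fun a =>
    ∃ (F : X.Modules) (i : F ⟶ E), Mono i ∧ FlatMod.IsFinLocFree F ∧ rk F = a ∧ P F i
  have hmem : ∀ (G : X.Modules) (j : G ⟶ E), Mono j → FlatMod.IsFinLocFree G → 0 < rk G → P G j →
      rk G ∈ J := fun G j hj hG hG0 hP =>
    haveI := hj
    Finset.mem_filter.2 ⟨Finset.mem_Icc.2 ⟨hG0, rk_le_of_mono k j (coh_of_free k hE)⟩,
      G, j, hj, hG, rfl, hP⟩
  obtain ⟨G₀, j₀, hj₀, hG₀, hG₀0, hP₀⟩ := hne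
  have hJ : J.Nonempty := ⟨_, hmem G₀ j₀ hj₀ hG₀ hG₀0 hP₀⟩
  have hmax : ∀ a, a ∈ J → ∃ d : ℤ, (∃ (F : X.Modules) (i : F ⟶ E), Mono i ∧ FlatMod.IsFinLocFree F ∧
      rk F = a ∧ P F i ∧ dg k F = d) ∧
      ∀ (F : X.Modules) (i : F ⟶ E), Mono i → FlatMod.IsFinLocFree F → rk F = a → P F i → dg k F ≤ d := by
    intro a ha
    obtain ⟨F₀, i₀, hi₀, hF₀, hr₀, hp₀⟩ := (Finset.mem_filter.1 ha).2
    obtain ⟨d, hd, hd'⟩ := Int.exists_greatest_of_bdd
      (P := fun d => ∃ (F : X.Modules) (i : F ⟶ E), Mono i ∧ FlatMod.IsFinLocFree F ∧ rk F = a ∧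
        P F i ∧ dg k F = d)
      ⟨(Module.finrank k (Coh.HH X E 0) : ℤ) - (a : ℤ) * Curv2.euler k X (Coh.structureModule X),
        fun d ⟨F, i, hi, hF, hr, _, hd⟩ => by
          haveI := hi
          rw [← hd, ← hr]
          exact dg_le_h0 k hdim i (coh_of_free k hF) (coh_of_free k hE)⟩
      ⟨_, F₀, i₀, hi₀, hF₀, hr₀, hp₀, rfl⟩
    exact ⟨d, hd, fun F i hi hF hr hp => hd' _ ⟨F, i, hi, hF, hr, hp, rfl⟩⟩
  choose! d hd hd' using hmax
  obtain ⟨a₁, ha₁, hbest⟩ := J.exists_max_image (fun a => toLex ((d a : ℚ) / (a : ℚ), a)) hJ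
  obtain ⟨E₁, i₁, hi₁, hE₁, hrk₁, hP₁, hdg₁⟩ := hd a₁ ha₁
  have hpos : 0 < a₁ := (Finset.mem_Icc.1 (Finset.mem_filter.1 ha₁).1).1
  refine ⟨E₁, i₁, hi₁, hrk₁ ▸ hpos, hE₁, hP₁, fun G j hj hG hG0 hP => ?_⟩
  have haJ := hmem G j hj hG hG0 hP
  have hle := mul_le_mul_of_nonneg_right (hd' _ haJ G j hj hG rfl hP) (Int.natCast_nonneg a₁)
  rw [hrk₁, hdg₁]
  have haQ : (0 : ℚ) < rk G := by exact_mod_cast hG0
  have h1Q : (0 : ℚ) < a₁ := by exact_mod_cast hpos
  rcases Prod.Lex.toLex_le_toLex.1 (hbest _ haJ) with h | ⟨h, h'⟩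
  · rw [div_lt_div_iff₀ haQ h1Q] at h
    have h2 : d (rk G) * (a₁ : ℤ) < d a₁ * (rk G : ℤ) := by exact_mod_cast h
    exact ⟨by linarith, fun he => absurd he (by intro he; linarith)⟩
  · rw [div_eq_div_iff haQ.ne' h1Q.ne'] at h
    have h2 : d (rk G) * (a₁ : ℤ) = d a₁ * (rk G : ℤ) := by exact_mod_cast h
    exact ⟨by linarith, fun _ => h'⟩

/-- The saturation of a subsheaf. -/
theorem exists_saturation (hdim : topologicalKrullDim X = 1) {E G : X.Modules}
    (hE : FlatMod.IsFinLocFree E) (hG : Coh.IsCoh G) (i : G ⟶ E) [Mono i] :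
    ∃ (C P : X.Modules) (p : E ⟶ C) (ι : P ⟶ E) (a : G ⟶ P) (w : ι ≫ p = 0),
      (ShortComplex.mk ι p w).ShortExact ∧ FlatMod.IsFinLocFree P ∧ FlatMod.IsFinLocFree C ∧
      a ≫ ι = i ∧ Mono a ∧ Coh.IsCoh (cokernel a) ∧ rk (cokernel a) = 0 ∧ rk P = rk G ∧
      rk E = rk G + rk C ∧ dg k G ≤ dg k P ∧ dg k E = dg k P + dg k C := by
  haveI := isLocallyNoetherian' k (X := X)
  have hEc := coh_of_free k hE
  obtain ⟨C, q, hq, hC, -, -, hrC⟩ :=
    exists_torsionFree_quot k hdim (QCoh.isCoh_cokernel hG.1 hEc i)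
  haveI := hq
  let p : E ⟶ C := cokernel.π i ≫ q
  haveI : Epi p := epi_comp _ _
  have hCc := coh_of_free k hC
  have hPc : Coh.IsCoh (kernel p) := QCoh.isCoh_kernel hEc hCc p
  have hP := isFinLocFree_of_mono k hdim.le hPc (kernel.ι p) hE
  let a : G ⟶ kernel p := kernel.lift p i (by simp [p])
  have ha : a ≫ kernel.ι p = i := kernel.lift_ι _ _ _
  haveI : Mono a := mono_of_mono_fac ha
  have hcok : Coh.IsCoh (cokernel a) := QCoh.isCoh_cokernel hG.1 hPc a
  have r1 := rk_add_coh k _ _ _ (shortExact_cokernel_of_mono i) hEc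
  have r2 := rk_add_coh k _ _ _ (shortExact_kernel_of_epi p) hEc
  have r3 := rk_add_coh k _ _ _ (shortExact_cokernel_of_mono a) hPc
  have d2 := dg_add k _ _ _ (shortExact_kernel_of_epi p) hPc hEc hCc
  have d3 := dg_add k _ _ _ (shortExact_cokernel_of_mono a) hG hPc hcok
  have hr0 : rk (cokernel a) = 0 := by omega
  have := dg_nonneg_of_rk_zero k hdim.le hcok hr0
  exact ⟨C, kernel p, p, kernel.ι p, a, kernel.condition p, shortExact_kernel_of_epi p, hP, hC, ha,
    inferInstance, hcok, hr0, by omega, by omega, by omega, d2⟩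

/-- The maximal destabilising subbundle. -/
theorem exists_max_destab (hdim : topologicalKrullDim X = 1) {E : X.Modules} {r : ℕ} (hr : 0 < r)
    (hE : FlatMod.IsFinLocFreeOfRank r E) :
    ∃ (E₁ : X.Modules) (i₁ : E₁ ⟶ E), Mono i₁ ∧ 0 < rk E₁ ∧ FlatMod.IsFinLocFree E₁ ∧
      FlatMod.IsFinLocFree (cokernel i₁) ∧
      rk E = rk E₁ + rk (cokernel i₁) ∧ dg k E = dg k E₁ + dg k (cokernel i₁) ∧
      (∀ (G : X.Modules) (j : G ⟶ E), Mono j → FlatMod.IsFinLocFree G →
        dg k G * (rk E₁ : ℤ) ≤ dg k E₁ * (rk G : ℤ)) ∧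
      ∀ (H : X.Modules) (j : H ⟶ cokernel i₁), Mono j → FlatMod.IsFinLocFree H → 0 < rk H →
        dg k H * (rk E₁ : ℤ) < dg k E₁ * (rk H : ℤ) := by
  haveI := isLocallyNoetherian' k (X := X)
  obtain ⟨E₁, i₁, hi₁, hpos, hE₁, hmax⟩ := exists_max_slope k hdim.le hr hE
  haveI := hi₁
  have hEf := isFinLocFree_of_rank hE
  have hEc := coh_of_free k hEf
  have hE₁c := coh_of_free k hE₁
  have hQc : Coh.IsCoh (cokernel i₁) := QCoh.isCoh_cokernel hE₁c.1 hEc i₁
  have hS := shortExact_cokernel_of_mono i₁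
  have hQ := isFinLocFree_of_max k hdim.le i₁ (cokernel.π i₁) _ hS hE₁c hEf hQc
    (fun G g hg hG hrG => by
      have h := (hmax G g hg hG (hrG ▸ hpos)).1
      rw [hrG] at h
      exact le_of_mul_le_mul_right h (by exact_mod_cast hpos))
  refine ⟨E₁, i₁, hi₁, hpos, hE₁, hQ, rk_add_coh k _ _ _ hS hEc, dg_add k _ _ _ hS hE₁c hEc hQc,
    fun G j hj hG => ?_, fun H j hj hH hH0 => ?_⟩
  · rcases Nat.eq_zero_or_pos (rk G) with h | h
    · rw [h, dg_eq_zero_of_isZero k (isZero_of_rk_zero hG h)]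
      simp
    · exact (hmax G j hj hG h).1
  · haveI := hj
    obtain ⟨P, p, hp, hP, hrP, hdP⟩ := exists_preimage k hdim.le i₁ (cokernel.π i₁) _ hS hE₁c hEf hQc j
      (coh_of_free k hH)
    obtain ⟨h1, h2⟩ := hmax P p hp hP (by omega)
    rw [hdP, hrP] at h1 h2
    push_cast at h1 h2
    refine lt_of_le_of_ne (by linarith) fun he => ?_
    have := h2 (by linarith)
    omega

/-- A map to a module all of whose subsheaves have small slope, from a module with large quotients. -/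
theorem eq_zero_of_slopes (hdim : topologicalKrullDim X ≤ 1) {A B : X.Modules}
    (hA : FlatMod.IsFinLocFree A) (hB : FlatMod.IsFinLocFree B) (f : A ⟶ B)
    (hAss : ∀ (G : X.Modules) (j : G ⟶ A), Mono j → FlatMod.IsFinLocFree G →
      dg k G * (rk A : ℤ) ≤ dg k A * (rk G : ℤ))
    (hBlt : ∀ (H : X.Modules) (j : H ⟶ B), Mono j → FlatMod.IsFinLocFree H → 0 < rk H →
      dg k H * (rk A : ℤ) < dg k A * (rk H : ℤ)) : f = 0 := by
  by_contra hf
  obtain ⟨I, π, j, hj, -, -, hK, hI, hrk, hdg, hpos, -⟩ := exists_decomp k hdim hA hB f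
  have h1 := hBlt I j hj hI (hpos hf)
  have h2 := hAss _ (kernel.ι f) inferInstance hK
  have hr' : (rk A : ℤ) = (rk (kernel f) : ℤ) + (rk I : ℤ) := by exact_mod_cast hrk
  rw [hr'] at h1 h2
  rw [hdg] at h1 h2
  linarith

/-- A subsheaf of a twist comes from a subsheaf of the module, with the degree shifted. -/
theorem exists_untwist (hdim : topologicalKrullDim X = 1) {L : X.Modules} (hL : PicF.IsInvertible L)
    {Q H : X.Modules} (j : H ⟶ (DCoh.tensorBi.obj Q).obj L) [Mono j] (hH : FlatMod.IsFinLocFree H) :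
    ∃ (H' : X.Modules) (j' : H' ⟶ Q), Mono j' ∧ FlatMod.IsFinLocFree H' ∧ rk H' = rk H ∧
      dg k H' = dg k H - (rk H : ℤ) * Curv2.deg k X L 1 := by
  haveI := CurveCohLib.isNoetherian_of_proper (k := k) (X := X)
  obtain ⟨D, hD, hdD, ⟨e⟩⟩ := exists_inverse_deg k hdim hL
  have e' : (DCoh.tensorBi.obj D).obj L ≅ Coh.structureModule X := CurveTensor.commIso D L ≪≫ e
  let ε : (DCoh.tensorBi.obj D).obj ((DCoh.tensorBi.obj Q).obj L) ≅ Q :=
    (DCoh.tensorBi.obj D).mapIso (CurveTensor.commIso Q L) ≪≫ (CurveRR.cancelIso e').app Q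
  have hDf := isFinLocFree_of_rank (InvEnd.isFinLocFreeOfRank_one hD)
  haveI : Mono ((DCoh.tensorBi.obj D).map j) :=
    (CurveTensor.shortExact_tensor hDf _ _ _ (shortExact_cokernel_of_mono j)).mono_f
  obtain ⟨r1, d1⟩ := dg_tensor_line k hdim hD hH
  refine ⟨_, (DCoh.tensorBi.obj D).map j ≫ ε.hom, inferInstance, KFlatLib.isFinLocFree_tensor hDf hH,
    r1, ?_⟩
  rw [d1, hdD]
  ring

/-- Rank and degree of a twist. -/
theorem dg_twist (hdim : topologicalKrullDim X = 1) {L Q : X.Modules} (hL : PicF.IsInvertible L)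
    (hQ : FlatMod.IsFinLocFree Q) :
    rk ((DCoh.tensorBi.obj Q).obj L) = rk Q ∧
      dg k ((DCoh.tensorBi.obj Q).obj L) = dg k Q + (rk Q : ℤ) * Curv2.deg k X L 1 := by
  obtain ⟨r1, d1⟩ := dg_tensor_line k hdim hL hQ
  exact ⟨(rk_congr (CurveTensor.commIso Q L)).trans r1,
    (dg_congr k (CurveTensor.commIso Q L)).trans d1⟩

end Groth.Agent.VBCurvesLib
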