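import Groth.Agent.VBCurvesLib.Basic

/-!
Invariant subsheaves of twisted endomorphisms.
-/

set_option linter.style.haveILetI false
set_option linter.unusedSectionVars false
set_option backward.isDefEq.respectTransparency false
set_option backward.isDefEq.respectTransparency.types false

universe u

open CategoryTheory CategoryTheory.Limits AlgebraicGeometry TopologicalSpace Opposite

namespace Groth.Agent.VBCurvesLib

open Groth.Agent.CurveBundle Groth.Agent.CurveSlope Groth.Agent.CurveStable Groth.Agent.CurveDuality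
open Groth.Agent.CurveHiggs (twist twist_comp twist_zero mono_twist)

/-- The subsheaf `j` is invariant under `φ`. -/
abbrev Inv {X : Scheme.{u}} {L E G : X.Modules} (φ : E ⟶ (DCoh.tensorBi.obj E).obj L) (j : G ⟶ E) : Prop :=
  ∃ χ : G ⟶ (DCoh.tensorBi.obj G).obj L, χ ≫ twist L j = j ≫ φ

variable {X : Scheme.{u}}

theorem Inv.comp {L E F G : X.Modules} {φ : E ⟶ (DCoh.tensorBi.obj E).obj L}
    {i : F ⟶ E} {ψ : F ⟶ (DCoh.tensorBi.obj F).obj L} (hψ : ψ ≫ twist L i = i ≫ φ) {j : G ⟶ F}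
    (hj : Inv ψ j) : Inv φ (j ≫ i) := by
  obtain ⟨χ, hχ⟩ := hj
  exact ⟨χ, by rw [twist_comp, ← Category.assoc, hχ, Category.assoc, hψ, Category.assoc]⟩

variable (k : Type u) [Field k] [X.Over (Spec (CommRingCat.of k))] [IsIntegral X]
  [IsProper (X ↘ Spec (CommRingCat.of k))] [Smooth (X ↘ Spec (CommRingCat.of k))]

include k in
/-- The saturation of an invariant subsheaf is invariant. -/
theorem inv_saturation (hdim : topologicalKrullDim X = 1) {L E G P C : X.Modules}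
    (hL : PicF.IsInvertible L) (φ : E ⟶ (DCoh.tensorBi.obj E).obj L) (i : G ⟶ E) (hi : Inv φ i)
    (ι : P ⟶ E) (p : E ⟶ C) (w : ι ≫ p = 0) (hS : (ShortComplex.mk ι p w).ShortExact)
    (hC : FlatMod.IsFinLocFree C) (a : G ⟶ P) (ha : a ≫ ι = i)
    (hK : Coh.IsCoh (cokernel a)) (hK0 : rk (cokernel a) = 0) : Inv φ ι := by
  obtain ⟨χ, hχ⟩ := hi
  have hCL := CurveHiggs.isFinLocFree_twist hL hC
  have h0 : a ≫ (ι ≫ φ ≫ twist L p) = 0 := by
    rw [reassoc_of% ha, ← reassoc_of% hχ, ← ha, ← twist_comp, Category.assoc, w, comp_zero,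
      twist_zero, comp_zero]
  have h1 : ι ≫ φ ≫ twist L p = 0 := by
    rw [← cokernel.π_desc a _ h0, eq_zero_of_rk_zero k hdim.le hK hK0 hCL (cokernel.desc a _ h0),
      comp_zero]
  obtain ⟨y, hy⟩ := CurveHiggs.exists_lift (isFinLocFree_of_rank (InvEnd.isFinLocFreeOfRank_one hL))
    ι p w hS (ι ≫ φ) (by rw [Category.assoc]; exact h1)
  exact ⟨y, hy⟩

omit k in
/-- The preimage of an invariant subsheaf of an equivariant quotient. -/
theorem inv_preimage {L E C H : X.Modules}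
    (hL : PicF.IsInvertible L) (φ : E ⟶ (DCoh.tensorBi.obj E).obj L)
    (φC : C ⟶ (DCoh.tensorBi.obj C).obj L) (p : E ⟶ C) [Epi p] (hp : p ≫ φC = φ ≫ twist L p)
    (g : H ⟶ C) [Mono g] (hg : Inv φC g) : Inv φ (kernel.ι (p ≫ cokernel.π g)) := by
  haveI : Epi (p ≫ cokernel.π g) := epi_comp _ _
  obtain ⟨χ, hχ⟩ := hg
  have h0 : g ≫ (φC ≫ twist L (cokernel.π g)) = 0 := by
    rw [← reassoc_of% hχ, ← twist_comp, cokernel.condition, twist_zero, comp_zero]
  have h1 : (kernel.ι (p ≫ cokernel.π g) ≫ φ) ≫ twist L (p ≫ cokernel.π g) = 0 := by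
    rw [twist_comp, Category.assoc, ← reassoc_of% hp, ← cokernel.π_desc g _ h0,
      ← Category.assoc p, kernel.condition_assoc, zero_comp]
  obtain ⟨y, hy⟩ := CurveHiggs.exists_lift (isFinLocFree_of_rank (InvEnd.isFinLocFreeOfRank_one hL))
    _ _ (kernel.condition (p ≫ cokernel.π g)) (shortExact_kernel_of_epi _) _ h1
  exact ⟨y, hy⟩

/-- Semistability with respect to invariant subsheaves. -/
abbrev HSS {L E : X.Modules} (φ : E ⟶ (DCoh.tensorBi.obj E).obj L) : Prop :=
  ∀ (G : X.Modules) (j : G ⟶ E), Mono j → FlatMod.IsFinLocFree G → Inv φ j →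
    dg k G * (rk E : ℤ) ≤ dg k E * (rk G : ℤ)

theorem hss_of {L E : X.Modules} {r : ℕ} (hE : FlatMod.IsFinLocFreeOfRank r E)
    (φ : E ⟶ (DCoh.tensorBi.obj E).obj L)
    (h : ∀ (G : X.Modules) (n : ℕ) (j : G ⟶ E) (χ : G ⟶ (DCoh.tensorBi.obj G).obj L), Mono j → 0 < n →
      FlatMod.IsFinLocFreeOfRank n G → χ ≫ twist L j = j ≫ φ →
      Curv2.deg k X G n * (r : ℤ) ≤ Curv2.deg k X E r * (n : ℤ)) : HSS k φ := by
  intro G j hj hG hinv
  rcases Nat.eq_zero_or_pos (rk G) with h0 | h0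
  · haveI := isLocallyNoetherian' k (X := X)
    rw [h0, dg_eq_zero_of_isZero k (isZero_of_rk_zero hG h0)]
    simp
  · obtain ⟨χ, hχ⟩ := hinv
    have h1 := h G (rk G) j χ hj h0 (isFinLocFreeOfRank_rk hG) hχ
    rwa [deg_eq_dg k hE, deg_eq_dg k (isFinLocFreeOfRank_rk hG), ← rk_eq hE] at h1

/-- An invariant subsheaf of the same slope has a semistable locally free quotient. -/
theorem higgs_quot (hdim : topologicalKrullDim X = 1) {L : X.Modules} (hL : PicF.IsInvertible L)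
    {E F : X.Modules} (φ : E ⟶ (DCoh.tensorBi.obj E).obj L) (hE : FlatMod.IsFinLocFree E)
    (hEpos : 0 < rk E) (hss : HSS k φ) (i : F ⟶ E) [Mono i] (hF : FlatMod.IsFinLocFree F)
    (hinv : Inv φ i) (hslope : dg k F * (rk E : ℤ) = dg k E * (rk F : ℤ)) :
    FlatMod.IsFinLocFree (cokernel i) ∧ rk E = rk F + rk (cokernel i) ∧
      dg k E = dg k F + dg k (cokernel i) ∧
      ∀ φ' : cokernel i ⟶ (DCoh.tensorBi.obj (cokernel i)).obj L,
        cokernel.π i ≫ φ' = φ ≫ twist L (cokernel.π i) → HSS k φ' := by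
  haveI := isLocallyNoetherian' k (X := X)
  have hEc := coh_of_free k hE
  have hFc := coh_of_free k hF
  have hQc : Coh.IsCoh (cokernel i) := QCoh.isCoh_cokernel hFc.1 hEc i
  have hS := shortExact_cokernel_of_mono i
  obtain ⟨C, P, p, ι, a, w, hSP, hP, hC, ha, hma, hK, hK0, hrP, -, hdP, -⟩ :=
    exists_saturation k hdim hE hFc i
  haveI := hma
  haveI : Mono ι := hSP.mono_f
  have h1 := hss P ι inferInstance hP (inv_saturation k hdim hL φ i hinv ι p w hSP hC a ha hK hK0)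
  rw [hrP, ← hslope] at h1
  have h2 := le_of_mul_le_mul_right h1 (by exact_mod_cast hEpos)
  have hz := isZero_of_dg_zero k hdim.le hK hK0 (by
    have := dg_add k _ _ _ (shortExact_cokernel_of_mono a) hFc (coh_of_free k hP) hK
    omega)
  haveI : Epi a := Preadditive.epi_of_isZero_cokernel a hz
  haveI : IsIso a := isIso_of_mono_of_epi a
  haveI : Epi p := hSP.epi_g
  have hc1 : IsColimit (CokernelCofork.ofπ p w) := hSP.gIsCokernel
  have hc2 : IsColimit (CokernelCofork.ofπ p (show i ≫ p = 0 by rw [← ha, Category.assoc, w, comp_zero])) :=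
    isCokernelEpiComp (c := CokernelCofork.ofπ p w) hc1 a ha.symm
  let e : cokernel i ≅ C := (colimit.isColimit _).coconePointUniqueUpToIso hc2
  have hQ : FlatMod.IsFinLocFree (cokernel i) := fun x =>
    let ⟨U, n, hx, ⟨u⟩⟩ := hC x
    ⟨U, n, hx, ⟨(Scheme.Modules.restrictFunctor U.ι).mapIso e ≪≫ u⟩⟩
  have hr := rk_add_coh k _ _ _ hS hEc
  have hd := dg_add k _ _ _ hS hFc hEc hQc
  refine ⟨hQ, hr, hd, fun φ' hφ' H g hg hH hgi => ?_⟩
  haveI := hg
  have hHc := coh_of_free k hH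
  haveI : Epi (cokernel.π i ≫ cokernel.π g) := epi_comp _ _
  have hDc : Coh.IsCoh (cokernel g) := QCoh.isCoh_cokernel hHc.1 hQc g
  have hKc := QCoh.isCoh_kernel hEc hDc (cokernel.π i ≫ cokernel.π g)
  have hKf := isFinLocFree_of_mono k hdim.le hKc (kernel.ι (cokernel.π i ≫ cokernel.π g)) hE
  have h3 := hss _ (kernel.ι (cokernel.π i ≫ cokernel.π g)) inferInstance hKf
    (inv_preimage hL φ φ' (cokernel.π i) hφ' g hgi)
  have r1 := rk_add_coh k _ _ _ (shortExact_kernel_of_epi (cokernel.π i ≫ cokernel.π g)) hEc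
  have d1 := dg_add k _ _ _ (shortExact_kernel_of_epi (cokernel.π i ≫ cokernel.π g)) hKc hEc hDc
  have r2 := rk_add_coh k _ _ _ (shortExact_cokernel_of_mono g) hQc
  have d2 := dg_add k _ _ _ (shortExact_cokernel_of_mono g) hHc hQc hDc
  have r3 : rk (kernel (cokernel.π i ≫ cokernel.π g)) = rk F + rk H := by omega
  have d3 : dg k (kernel (cokernel.π i ≫ cokernel.π g)) = dg k F + dg k H := by omega
  rw [r3, d3] at h3
  have hrZ : (rk E : ℤ) = (rk F : ℤ) + (rk (cokernel i) : ℤ) := by exact_mod_cast hr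
  have key : dg k H * (rk E : ℤ) ≤ dg k E * (rk H : ℤ) := by
    push_cast at h3
    linarith
  have key2 : dg k (cokernel i) * (rk E : ℤ) = dg k E * (rk (cokernel i) : ℤ) := by
    linear_combination (dg k E) * hrZ - (rk E : ℤ) * hd - hslope
  refine le_of_mul_le_mul_right ?_ (show (0 : ℤ) < rk E by exact_mod_cast hEpos)
  calc dg k H * (rk (cokernel i) : ℤ) * (rk E : ℤ)
      = dg k H * (rk E : ℤ) * (rk (cokernel i) : ℤ) := by ring
    _ ≤ dg k E * (rk H : ℤ) * (rk (cokernel i) : ℤ) :=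
        mul_le_mul_of_nonneg_right key (Int.natCast_nonneg _)
    _ = dg k (cokernel i) * (rk H : ℤ) * (rk E : ℤ) := by linear_combination (rk H : ℤ) * key2.symm

/-- The maximal destabilising subbundle is invariant when the twist has degree zero. -/
theorem inv_max_destab (hdim : topologicalKrullDim X = 1) {L : X.Modules} (hL : PicF.IsInvertible L)
    (hL0 : Curv2.deg k X L 1 = 0) {E E₁ : X.Modules} (φ : E ⟶ (DCoh.tensorBi.obj E).obj L)
    (i₁ : E₁ ⟶ E) [Mono i₁] (hE₁ : FlatMod.IsFinLocFree E₁) (hQ : FlatMod.IsFinLocFree (cokernel i₁))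
    (h1 : ∀ (G : X.Modules) (j : G ⟶ E), Mono j → FlatMod.IsFinLocFree G →
      dg k G * (rk E₁ : ℤ) ≤ dg k E₁ * (rk G : ℤ))
    (h2 : ∀ (H : X.Modules) (j : H ⟶ cokernel i₁), Mono j → FlatMod.IsFinLocFree H → 0 < rk H →
      dg k H * (rk E₁ : ℤ) < dg k E₁ * (rk H : ℤ)) : Inv φ i₁ := by
  have h := eq_zero_of_slopes k hdim.le hE₁ (CurveHiggs.isFinLocFree_twist hL hQ)
    ((i₁ ≫ φ) ≫ twist L (cokernel.π i₁))
    (fun G j hj hG => by
      haveI := hj
      exact h1 G (j ≫ i₁) inferInstance hG)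
    (fun H j hj hH hH0 => by
      haveI := hj
      obtain ⟨H', j', hj', hH', hr', hd'⟩ := exists_untwist k hdim hL j hH
      rw [hL0, mul_zero, sub_zero] at hd'
      have := h2 H' j' hj' hH' (hr' ▸ hH0)
      rwa [hr', hd'] at this)
  obtain ⟨y, hy⟩ := CurveHiggs.exists_lift (isFinLocFree_of_rank (InvEnd.isFinLocFreeOfRank_one hL))
    _ _ (cokernel.condition i₁) (shortExact_cokernel_of_mono i₁) (i₁ ≫ φ) h
  exact ⟨y, hy⟩

end Groth.Agent.VBCurvesLib
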