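import Groth.Agent.CurveBC.Main
import Groth.Agent.VBCurvesLib.Basic

/-!
Secant divisors of a curve embedded by `K ⊗ N`.
-/

set_option linter.style.haveILetI false
set_option linter.unusedSectionVars false
set_option backward.isDefEq.respectTransparency false
set_option backward.isDefEq.respectTransparency.types false
set_option synthInstance.maxHeartbeats 100000
set_option maxHeartbeats 1000000

universe u

open CategoryTheory CategoryTheory.Limits AlgebraicGeometry TopologicalSpace Opposite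

namespace Groth.Agent.VBCurvesLib

open Groth.Agent.CurveBundle Groth.Agent.CurveSlope Groth.Agent.CurveStable Groth.Agent.CurveDuality

variable {X : Scheme.{u}} (k : Type u) [Field k] [X.Over (Spec (CommRingCat.of k))]

/-- Scalars pass through `homOfTwist`. -/
theorem homOfTwist_smul {L D : X.Modules}
    (e : (DCoh.tensorBi.obj L).obj D ≅ Coh.structureModule X) (M : X.Modules)
    (a : k) (t : Coh.HH X ((DCoh.tensorBi.obj D).obj M) 0) :
    homOfTwist e M (a • t) = homOfTwist e M t ≫ Formal.smulMod k M a := by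
  unfold homOfTwist
  rw [CurveSpecial.homOfClass_smul, Functor.map_comp]
  have hs : (DCoh.tensorBi.obj L).map (Formal.smulMod k ((DCoh.tensorBi.obj D).obj M) a) =
      Formal.smulMod k ((DCoh.tensorBi.obj L).obj ((DCoh.tensorBi.obj D).obj M)) a :=
    CurveLinear.tensor_map_smul L _ _
  rw [hs]
  simp only [Category.assoc]
  congr 2
  exact FFun.smulMod_naturality ((CurveRR.cancelIso e).hom.app M) a

variable [IsIntegral X] [IsProper (X ↘ Spec (CommRingCat.of k))] [Smooth (X ↘ Spec (CommRingCat.of k))]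

/-- An effective divisor of degree `deg N` spans a minimal secant plane in the embedding by `K ⊗ N`
exactly when its ideal is inverse to `N`. -/
theorem secant_iff (hO : Module.finrank k (Coh.HH X (Coh.structureModule X) 0) = 1)
    (hdim : topologicalKrullDim X = 1) {K : X.Modules}
    (eK : K ≅ Omega.sheaf (X ↘ Spec (CommRingCat.of k))) {I N : X.Modules}
    (hI : PicF.IsInvertible I) (hN : PicF.IsInvertible N) {m : ℕ} (hm : 0 < m)
    (hdN : Curv2.deg k X N 1 = m) (hdI : Curv2.deg k X I 1 = -(m : ℤ)) :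
    Module.finrank k (Coh.HH X (CohB1.tensorMod I (CohB1.tensorMod K N)) 0) + (m - 1) =
      Module.finrank k (Coh.HH X (CohB1.tensorMod K N) 0) ↔
    Nonempty ((DCoh.tensorBi.obj I).obj N ≅ Coh.structureModule X) := by
  haveI := CurveCohLib.isNoetherian_of_proper (k := k) (X := X)
  obtain ⟨hΩ0, hΩd⟩ := CurveBC.canonical_invariants k X hdim hO
  have hK : PicF.IsInvertible K :=
    H23.PicMul.isInvertible_of_iso eK.symm (CurveBC.isInvertible_omega k X hdim hO)
  have hKd : Curv2.deg k X K 1 = 2 * (Curv2.genus k X : ℤ) - 2 := by rw [CurveRR.deg_congr k eK, hΩd]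
  have hK0 : Module.finrank k (Coh.HH X K 0) = Curv2.genus k X := by
    rw [(CurveCohLib.hhEquiv (k := k) eK 0).finrank_eq, hΩ0]
  let P := (DCoh.tensorBi.obj K).obj N
  have hP : PicF.IsInvertible P := InvX.isInvertible_tensorMod hK hN
  have hPd : Curv2.deg k X P 1 = 2 * (Curv2.genus k X : ℤ) - 2 + m := by
    rw [CurveRR.deg_tensor k hdim hK hN, hKd, hdN]
  have hP1 : Subsingleton (Coh.HH X P 1) := by
    obtain ⟨ω, μ, hω⟩ := exists_isDualizing k (X := X) hdim
    by_contra hne
    have := hω.max P hP hne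
    rw [hPd, (canonical_invariants k hO hω hdim).2.2] at this
    omega
  have hP0 : (Module.finrank k (Coh.HH X P 0) : ℤ) = (Curv2.genus k X : ℤ) - 1 + m := by
    have hχ := euler_eq k hdim (coh_of_free k (isFinLocFree_of_rank (InvEnd.isFinLocFreeOfRank_one hP)))
    haveI := hP1
    rw [Module.finrank_zero_of_subsingleton (R := k) (M := Coh.HH X P 1)] at hχ
    unfold Curv2.deg at hPd
    rw [euler_structure k hO hdim, hχ] at hPd
    push_cast at hPd
    linarith
  let e₁ : (DCoh.tensorBi.obj I).obj P ≅ (DCoh.tensorBi.obj K).obj ((DCoh.tensorBi.obj I).obj N) :=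
    (DCoh.tensorBi.obj I).mapIso (CurveTensor.commIso K N) ≪≫ (CurveRR.tensorCompIso I N).app K ≪≫
      CurveTensor.commIso _ K
  change Module.finrank k (Coh.HH X ((DCoh.tensorBi.obj I).obj P) 0) + (m - 1) =
    Module.finrank k (Coh.HH X P 0) ↔ _
  constructor
  · intro h
    have hT : PicF.IsInvertible ((DCoh.tensorBi.obj I).obj P) := InvX.isInvertible_tensorMod hI hP
    have hTd : Curv2.deg k X ((DCoh.tensorBi.obj I).obj P) 1 = 2 * (Curv2.genus k X : ℤ) - 2 := by
      rw [CurveRR.deg_tensor k hdim hI hP, hdI, hPd]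
      ring
    obtain ⟨eT⟩ := CurveBC.nonempty_iso_omega k X hdim hO hT hTd (by omega)
    obtain ⟨D, hD, hdD, ⟨eD⟩⟩ := exists_inverse_deg k hdim hK
    have eD' : (DCoh.tensorBi.obj D).obj K ≅ Coh.structureModule X := CurveTensor.commIso D K ≪≫ eD
    exact ⟨((CurveRR.cancelIso eD').app ((DCoh.tensorBi.obj I).obj N)).symm ≪≫
      (DCoh.tensorBi.obj D).mapIso (e₁.symm ≪≫ eT ≪≫ eK.symm) ≪≫ eD'⟩
  · rintro ⟨e⟩
    have eI : (DCoh.tensorBi.obj I).obj P ≅ K :=
      e₁ ≪≫ (DCoh.tensorBi.obj K).mapIso e ≪≫ KFlatLib.tensorUnitIso K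
    rw [(CurveCohLib.hhEquiv (k := k) eI 0).finrank_eq, hK0]
    omega

/-- Two effective divisors inverse to a line bundle with one section coincide. -/
theorem exists_iso_of_inverse (hdim : topologicalKrullDim X = 1) {I I' N : X.Modules}
    (hI : PicF.IsInvertible I) (hI' : PicF.IsInvertible I') (hN : PicF.IsInvertible N)
    (h0 : Module.finrank k (Coh.HH X N 0) ≤ 1)
    (e : (DCoh.tensorBi.obj I).obj N ≅ Coh.structureModule X)
    (e' : (DCoh.tensorBi.obj I').obj N ≅ Coh.structureModule X)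
    (ι : I ⟶ Coh.structureModule X) (ι' : I' ⟶ Coh.structureModule X) (hι : ι ≠ 0) (hι' : ι' ≠ 0) :
    ∃ φ : I' ≅ I, φ.hom ≫ ι = ι' := by
  haveI := CurveCohLib.isNoetherian_of_proper (k := k) (X := X)
  let φ₀ : I' ≅ I :=
    ((CurveRR.cancelIso e).app I').symm ≪≫
      (DCoh.tensorBi.obj I).mapIso (CurveTensor.commIso N I' ≪≫ e') ≪≫ KFlatLib.tensorUnitIso I
  obtain ⟨t, ht⟩ := exists_homOfTwist k e' ι'
  obtain ⟨t₀, ht₀⟩ := exists_homOfTwist k e' (φ₀.hom ≫ ι)
  have hg : φ₀.hom ≫ ι ≠ 0 := fun h => hι (by rw [← cancel_epi φ₀.hom, h, comp_zero])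
  let E := CurveCohLib.hhEquiv (k := k) (KFlatLib.tensorUnitIso N) 0
  have hz : CurveSpecial.homOfClass (0 : Coh.HH X ((DCoh.tensorBi.obj N).obj (Coh.structureModule X)) 0) = 0 := by
    have h := CurveSpecial.homOfClass_add (0 : Coh.HH X ((DCoh.tensorBi.obj N).obj (Coh.structureModule X)) 0) 0
    rw [add_zero] at h
    exact left_eq_add.1 h
  have hne : E t₀ ≠ 0 := fun h => hg (by
    rw [← ht₀, E.map_eq_zero_iff.1 h]
    unfold homOfTwist
    rw [hz]
    simp)
  obtain ⟨c, hc⟩ := (finrank_eq_one_iff_of_nonzero' (E t₀) hne).1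
    (le_antisymm h0 (Nat.one_le_iff_ne_zero.2 fun h => hne (by
      haveI := S0002.result k X N (coh_of_free k (isFinLocFree_of_rank
        (InvEnd.isFinLocFreeOfRank_one hN))) 0
      haveI := (Module.finrank_zero_iff (R := k)).1 h
      exact Subsingleton.elim _ _))) (E t)
  have ht' : t = c • t₀ := E.injective (by rw [map_smul, hc])
  have hfac : ι' = (φ₀.hom ≫ Formal.smulMod k I c) ≫ ι := by
    rw [← ht, ht', homOfTwist_smul, ht₀, Category.assoc, Category.assoc, FFun.smulMod_naturality]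
  have hne' : φ₀.hom ≫ Formal.smulMod k I c ≠ 0 := fun h => hι' (by rw [hfac, h, zero_comp])
  haveI := (CurveDeg.deg_le_and_isIso k hdim.le hI' hI _ hne').2 (CurveRR.deg_congr k φ₀ 1)
  exact ⟨asIso _, hfac.symm⟩

end Groth.Agent.VBCurvesLib
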