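import Groth.Agent.VBCurvesLib.EtaleFinite
import Groth.Agent.VBCurvesLib.WeilFinite
import Groth.Agent.S0017
import Groth.Agent.VarNef31.DegPush
import Groth.Agent.S1536
import Groth.Agent.GrpSchLib.SmoothReduced
import Groth.Agent.PicClLib.Basic

/-!
The square of the functions of a torsor under a finite group.
-/

set_option linter.style.haveILetI false
set_option linter.unusedSectionVars false
set_option backward.isDefEq.respectTransparency false
set_option backward.isDefEq.respectTransparency.types false
set_option synthInstance.maxHeartbeats 100000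
set_option maxHeartbeats 1000000

universe u

open CategoryTheory CategoryTheory.Limits AlgebraicGeometry TopologicalSpace Opposite

namespace Groth.Agent.VBCurvesLib

/-- Pull-back of a free module of finite rank. -/
theorem nonempty_pullback_freeMod {X S : Scheme.{u}} (f : X ⟶ S) (n : ℕ) :
    Nonempty ((Scheme.Modules.pullback f).obj (FlatMod.freeMod S n) ≅ FlatMod.freeMod X n) := by
  obtain ⟨e⟩ := PicClLib.nonempty_pullback_structureModule f
  have : (Scheme.Modules.pullback f).IsLeftAdjoint :=
    (Scheme.Modules.pullbackPushforwardAdjunction f).isLeftAdjoint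
  exact ⟨PreservesCoproduct.iso (Scheme.Modules.pullback f) _ ≪≫ Sigma.mapIso fun _ => e⟩

/-- A locally free module on a one-point scheme is free. -/
theorem exists_free_of_subsingleton {S : Scheme.{u}} [Subsingleton S] [Nonempty S] {N : S.Modules}
    (hN : FlatMod.IsFinLocFree N) : ∃ n, Nonempty (N ≅ FlatMod.freeMod S n) := by
  obtain ⟨x⟩ : Nonempty S := inferInstance
  obtain ⟨U, n, hx, ⟨e⟩⟩ := hN x
  obtain rfl : U = ⊤ := top_unique fun y _ => Subsingleton.elim x y ▸ hx
  obtain ⟨b⟩ := nonempty_pullback_freeMod S.topIso.inv n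
  exact ⟨n, ⟨((Scheme.Modules.pullbackComp S.topIso.inv (⊤ : S.Opens).ι ≪≫
      Scheme.Modules.pullbackCongr S.toIso_inv_ι ≪≫ Scheme.Modules.pullbackId S).app N).symm ≪≫
    (Scheme.Modules.pullback _).mapIso
      (((Scheme.Modules.restrictFunctorIsoPullback (⊤ : S.Opens).ι).app N).symm ≪≫ e) ≪≫ b⟩⟩

/-- The functions of a finite scheme over a field. -/
theorem nonempty_push_free {k : Type u} [Field k] {G : Scheme.{u}} [G.Over (Spec (CommRingCat.of k))]
    [IsFinite (G ↘ Spec (CommRingCat.of k))] [Flat (G ↘ Spec (CommRingCat.of k))]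
    [LocallyOfFinitePresentation (G ↘ Spec (CommRingCat.of k))] :
    Nonempty ((Coh.push (G ↘ Spec (CommRingCat.of k))).obj (Coh.structureModule G) ≅
      FlatMod.freeMod _ (Module.finrank k (Coh.HH G (Coh.structureModule G) 0))) := by
  let S : Scheme.{u} := Spec (CommRingCat.of k)
  haveI : Subsingleton S := inferInstanceAs (Subsingleton (PrimeSpectrum k))
  haveI : Nonempty S := inferInstanceAs (Nonempty (PrimeSpectrum k))
  obtain ⟨m, ⟨e⟩⟩ := exists_free_of_subsingleton (S := S)
    (Lef73.isFinLocFree_pushO (π := (G ↘ S)))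
  have hS : S ↘ S = 𝟙 S := by
    show Spec (CommRingCat.of k) ↘ Spec (CommRingCat.of k) = _
    rw [specOverSpec_over, Algebra.algebraMap_self, CommRingCat.ofHom_id]
    exact Spec.map_id _
  haveI : IsIso (S ↘ S) := by rw [hS]; infer_instance
  haveI : GeometricallyConnected (S ↘ S) := ⟨fun K _ y Z g₁ g₂ h => by
    haveI := h.isIso_snd_of_isIso
    exact (Scheme.homeoOfIso (asIso g₂).symm).surjective.connectedSpace
      (Scheme.homeoOfIso (asIso g₂).symm).continuous⟩
  haveI := GrpSchLib.geometricallyReduced_of_smooth (S ↘ S)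
  have h1 : Module.finrank k (Coh.HH S (Coh.structureModule S) 0) = 1 := S1536.result k S
  have hG := VarNef31.finrank_HH_push k (G ↘ S) (D := G) (S := S) ((congrArg ((G ↘ S) ≫ ·) hS).trans (Category.comp_id _))
    (QCoh.isQCoh_structureModule (X := G)) 0
  haveI : IsNoetherian S := inferInstance
  have hm : Module.finrank k (Coh.HH G (Coh.structureModule G) 0) = m := by
    rw [hG, (CurveCohLib.hhEquiv (k := k) e 0).finrank_eq,
      finrank_HH_coproduct (X := S) k _ fun _ => QCoh.isCoh_structureModule']
    simp [h1]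
  rw [hm]
  exact ⟨e⟩

end Groth.Agent.VBCurvesLib
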