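import Groth.Agent.VBCurvesLib.WeilCriterion
import Groth.Agent.H23.TraceSplit
import Groth.Agent.H23.FinTrace
import Groth.Agent.H44Frob.FrobQuot
import Groth.Agent.Lef73.EtaleLift
import Groth.Agent.KFlatLib.Scheme.ProjLocFree

/-!
Bundles trivialised by a finite flat cover of invertible degree are finite.
-/

set_option linter.style.haveILetI false
set_option linter.unusedSectionVars false
set_option backward.isDefEq.respectTransparency false
set_option backward.isDefEq.respectTransparency.types false
set_option synthInstance.maxHeartbeats 100000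
set_option maxHeartbeats 1000000

universe u

open CategoryTheory CategoryTheory.Limits AlgebraicGeometry TopologicalSpace Opposite

namespace Groth.Agent.VBCurvesLib

open Groth.Agent.CurveBundle Groth.Agent.CurveSlope

attribute [local instance] Abelian.hasFiniteBiproducts

/-- Sums are spanned by their terms. -/
theorem inSpan_coprod {X : Scheme.{u}} {ι : Type} {F : ι → X.Modules} {r : ℕ} {a : X.Modules}
    (h : KS.InSpan F a) : KS.InSpan F (∐ fun _ : Fin r => a) :=
  (KS.InSpan.biproduct (fun _ : Fin r => a) fun _ => h).of_iso (biproduct.isoCoproduct _).symm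

/-- The projection formula for a module trivialised by `f`. -/
theorem nonempty_tensor_push {X Y : Scheme.{u}} (f : Y ⟶ X) [HasInjectiveResolutions Y.Modules]
    {E : X.Modules} (hE : FlatMod.IsFinLocFree E) {r : ℕ}
    (e : (Scheme.Modules.pullback f).obj E ≅ FlatMod.freeMod Y r) :
    Nonempty ((DCoh.tensorBi.obj E).obj ((Coh.push f).obj (Coh.structureModule Y)) ≅
      ∐ fun _ : Fin r => (Coh.push f).obj (Coh.structureModule Y)) := by
  obtain ⟨p⟩ := KFlatLib.nonempty_rpush_tensor_finLocFree f (Coh.structureModule Y) E hE 0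
  let η : ∀ M : Y.Modules, (Coh.Rpush f 0).obj M ≅ (Coh.push f).obj M := fun M =>
    (Scheme.Modules.pushforward f).rightDerivedZeroIsoSelf.app M
  exact ⟨(DCoh.tensorBi.obj E).mapIso (η _).symm ≪≫ p ≪≫ η _ ≪≫
    (Coh.push f).mapIso (KFlatLib.tensorUnitIso _ ≪≫ e ≪≫ (biproduct.isoCoproduct _).symm) ≪≫
    (Coh.push f).mapBiproduct _ ≪≫ biproduct.isoCoproduct _⟩

variable {X : Scheme.{u}} (k : Type u) [Field k] [X.Over (Spec (CommRingCat.of k))] [IsIntegral X]
  [IsProper (X ↘ Spec (CommRingCat.of k))] [Smooth (X ↘ Spec (CommRingCat.of k))]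

include k in
/-- The trace splits the functions of a finite flat cover in characteristic zero. -/
theorem nonempty_retract_push [CharZero k] {Y : Scheme.{u}} (f : Y ⟶ X) [IsFinite f] [Flat f]
    [LocallyOfFinitePresentation f] [Surjective f] :
    Nonempty (Retract (Coh.structureModule X) ((Coh.push f).obj (Coh.structureModule Y))) := by
  haveI := CurveCohLib.isNoetherian_of_proper (k := k) (X := X)
  haveI := isLocallyNoetherian' k (X := X)
  let A := RelSpec.QCAlg.directImage f
  have hf : FlatMod.IsFinLocFree A.toModule :=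
    H23.PullPush.isFinLocFree_of_iso (H44Frob.directImageIso f).symm (Lef73.isFinLocFree_pushO (π := f))
  obtain ⟨τ, hτ, -⟩ := H23.FinTrace.existsUnique_isTrace hf
  have hd0 : rk A.toModule ≠ 0 := fun h0 => by
    have hz : IsZero ((Scheme.Modules.pushforward f).obj (Coh.structureModule Y)) :=
      (isZero_of_rk_zero hf h0).of_iso (H44Frob.directImageIso f).symm
    obtain ⟨x⟩ : Nonempty X := inferInstance
    obtain ⟨y, -⟩ := f.surjective x
    have hid := congrArg (fun φ => φ.app ⊤) ((IsZero.iff_id_eq_zero _).1 hz)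
    have h1 : (1 : Γ(Y, f ⁻¹ᵁ ⊤)) = 0 := congr($hid (1 : Γ(Y, f ⁻¹ᵁ ⊤)))
    have h2 := congrArg (Y.presheaf.germ (f ⁻¹ᵁ ⊤) y trivial) h1
    rw [map_one, map_zero] at h2
    exact one_ne_zero h2
  have hu : IsUnit ((rk A.toModule : ℕ) : Γ(X, ⊤)) := by
    have := (isUnit_iff_ne_zero.2 (Nat.cast_ne_zero.2 hd0 : (rk A.toModule : k) ≠ 0)).map
      (Coh.toGlobal (X ↘ Spec (CommRingCat.of k)))
    rwa [map_natCast] at this
  obtain ⟨σ, hσ, -⟩ := H23.TraceSplit.exists_section (isFinLocFreeOfRank_rk hf) hτ hu
  exact ⟨{ i := σ ≫ (H44Frob.directImageIso f).hom, r := (H44Frob.directImageIso f).inv ≫ τ }⟩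

include k in
/-- A bundle trivialised by a finite flat cover is finite in characteristic zero. -/
theorem weilFinite_of_trivial_pullback [IsAlgClosed k] [CharZero k]
    (hdim : topologicalKrullDim X = 1) {Y : Scheme.{u}} (f : Y ⟶ X) [IsFinite f] [Flat f]
    [LocallyOfFinitePresentation f] [Surjective f] [HasInjectiveResolutions Y.Modules]
    {E : X.Modules} (hE : FlatMod.IsFinLocFree E) {r : ℕ}
    (e : (Scheme.Modules.pullback f).obj E ≅ FlatMod.freeMod Y r) :
    ∃ P Q : Polynomial ℕ, P ≠ Q ∧ Nonempty (polyObj E P ≅ polyObj E Q) := by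
  let F : Fin 1 → X.Modules := fun _ => (Coh.push f).obj (Coh.structureModule Y)
  obtain ⟨R⟩ := nonempty_retract_push k f
  obtain ⟨p⟩ := nonempty_tensor_push f hE e
  exact weilFinite_of_span k hdim hE F (fun _ => Lef73.isFinLocFree_pushO (π := f))
    (inSpan_tensorPow ((KS.InSpan.self F 0).of_retract R)
      fun _ => (inSpan_coprod (KS.InSpan.self F 0)).of_iso p)

end Groth.Agent.VBCurvesLib
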