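import Groth.Agent.VBCurvesLib.WeilCriterion
import Groth.Agent.VBCurvesLib.DualTensor

/-!
Duals of tensor powers.
-/

set_option linter.style.haveILetI false
set_option linter.unusedSectionVars false
set_option backward.isDefEq.respectTransparency false
set_option backward.isDefEq.respectTransparency.types false
set_option synthInstance.maxHeartbeats 100000
set_option maxHeartbeats 1000000

universe u

open CategoryTheory CategoryTheory.Limits AlgebraicGeometry TopologicalSpace Opposite

namespace Groth.Agent.VBCurvesLib

open Groth.Agent.CurveBundle Groth.Agent.CurveSlope Groth.Agent.CurveStable Groth.Agent.CurveDuality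

variable {X : Scheme.{u}}

/-- Duality respects spans. -/
theorem inSpan_dual {ι : Type} {F : ι → X.Modules} {M : X.Modules} (hM : KS.InSpan F M) :
    KS.InSpan (fun i => RefHull.dual (F i)) (RefHull.dual M) := by
  obtain ⟨m, a, g, h, e⟩ := hM
  refine ⟨m, a, fun x => dualMap (h x), fun x => dualMap (g x), ?_⟩
  simp only [← dualMap_comp]
  let D : (M ⟶ M) →+ (RefHull.dual M ⟶ RefHull.dual M) := AddMonoidHom.mk' dualMap dualMap_add
  rw [← dualMap_id, ← e]
  exact (map_sum D _ _).symm

variable (k : Type u) [Field k] [X.Over (Spec (CommRingCat.of k))] [IsIntegral X]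
  [IsProper (X ↘ Spec (CommRingCat.of k))] [Smooth (X ↘ Spec (CommRingCat.of k))]

include k in
theorem nonempty_dual_structureModule (hdim : topologicalKrullDim X = 1) :
    Nonempty (RefHull.dual (Coh.structureModule X) ≅ Coh.structureModule X) := by
  haveI := isLocallyNoetherian' k (X := X)
  have hO1 := InvEnd.isFinLocFreeOfRank_one (CurveDeg.isInvertible_structureModule (X := X))
  have hOf := isFinLocFree_of_rank hO1
  have hD := isFinLocFree_dual hOf
  have hD1 : FlatMod.IsFinLocFreeOfRank 1 (RefHull.dual (Coh.structureModule X)) := by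
    have := isFinLocFreeOfRank_rk hD
    rwa [rk_dual hOf, rk_eq hO1] at this
  let s : Coh.structureModule X ⟶ RefHull.dual (Coh.structureModule X) :=
    adjEquiv (Coh.structureModule X) (Coh.structureModule X) hOf
      (CurveTensor.structureTensorIso _).hom ≫ (KFlatLib.tensorUnitIso _).hom
  have hs : s ≠ 0 := by
    intro h
    rw [← zero_comp (f := (KFlatLib.tensorUnitIso (RefHull.dual (Coh.structureModule X))).hom),
      cancel_mono, ← adjEquiv_zero hOf] at h
    have h1 := (adjEquiv _ _ hOf).injective h
    refine CurveEnd.not_isZero (Coh.structureModule X) 1 one_pos hO1 ((IsZero.iff_id_eq_zero _).2 ?_)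
    rw [← cancel_epi (CurveTensor.structureTensorIso (Coh.structureModule X)).hom, Category.comp_id, h1,
      comp_zero]
  haveI := (CurveDeg.deg_le_and_isIso k hdim.le CurveDeg.isInvertible_structureModule
    (isInvertible_of_rank_one hD1) s hs).2 (by
      rw [CurveDeg.deg_structureModule, deg_eq_dg k hD1, dg_dual k hdim hOf, ← deg_eq_dg k hO1,
        CurveDeg.deg_structureModule, neg_zero])
  exact ⟨(asIso s).symm⟩

include k in
theorem nonempty_dual_tensorPow (hdim : topologicalKrullDim X = 1) {E : X.Modules}
    (hE : FlatMod.IsFinLocFree E) :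
    ∀ n, Nonempty (RefHull.dual (CohB1.tensorPow E n) ≅ CohB1.tensorPow (RefHull.dual E) n)
  | 0 => nonempty_dual_structureModule k hdim
  | n + 1 => by
    haveI := isLocallyNoetherian' k (X := X)
    obtain ⟨e⟩ := nonempty_dual_tensorPow hdim hE n
    exact ⟨dualTensorIso (isFinLocFree_tensorPow k hE n) hE ≪≫
      (DCoh.tensorBi.mapIso e).app (RefHull.dual E)⟩

/-- The dual of a finite bundle is finite. -/
theorem weilFinite_dual [IsAlgClosed k] (hdim : topologicalKrullDim X = 1) {E : X.Modules}
    (hE : FlatMod.IsFinLocFree E) (P Q : Polynomial ℕ) (hPQ : P ≠ Q) (e : polyObj E P ≅ polyObj E Q) :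
    ∃ P' Q' : Polynomial ℕ, P' ≠ Q' ∧
      Nonempty (polyObj (RefHull.dual E) P' ≅ polyObj (RefHull.dual E) Q') := by
  haveI := isLocallyNoetherian' k (X := X)
  obtain ⟨N, hN⟩ := span_of_weilFinite k hdim hE P Q hPQ e
  exact weilFinite_of_span k hdim (isFinLocFree_dual hE) _
    (fun i : Fin N => isFinLocFree_dual (isFinLocFree_tensorPow k hE i))
    fun n => (inSpan_dual (hN n)).of_iso (nonempty_dual_tensorPow k hdim hE n).some.symm

end Groth.Agent.VBCurvesLib
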