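import Groth.Agent.VBCurvesLib.Ample
import Groth.Agent.VBCurvesLib.ExtVanish
import Groth.Agent.KodV43.FrobPow
import Groth.Agent.KRRLib.Model

/-!
Growth of sections of Frobenius pull-backs on a curve.
-/

set_option linter.style.haveILetI false
set_option linter.unusedSectionVars false
set_option backward.isDefEq.respectTransparency false
set_option backward.isDefEq.respectTransparency.types false
set_option synthInstance.maxHeartbeats 100000
set_option maxHeartbeats 1000000

universe u

open CategoryTheory CategoryTheory.Limits AlgebraicGeometry TopologicalSpace Opposite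
open Groth.Agent.PnCoh.Finite (mapLin)

namespace Groth.Agent.VBCurvesLib

open Groth.Agent.CurveBundle Groth.Agent.CurveSlope Groth.Agent.CurveStable Groth.Agent.CurveDuality

variable {X : Scheme.{u}} (k : Type u) [Field k] [X.Over (Spec (CommRingCat.of k))] [IsIntegral X]
  [IsProper (X ↘ Spec (CommRingCat.of k))] [Smooth (X ↘ Spec (CommRingCat.of k))]

/-- Sections are subadditive in short exact sequences. -/
theorem finrank_h0_le_add {S : ShortComplex X.Modules} (hS : S.ShortExact) (h₁ : Coh.IsCoh S.X₁)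
    (h₂ : Coh.IsCoh S.X₂) (h₃ : Coh.IsCoh S.X₃) :
    Module.finrank k (Coh.HH X S.X₂ 0) ≤
      Module.finrank k (Coh.HH X S.X₁ 0) + Module.finrank k (Coh.HH X S.X₃ 0) := by
  haveI := CurveCohLib.isNoetherian_of_proper (k := k) (X := X)
  haveI := S0002.result k X _ h₁ 0
  haveI := S0002.result k X _ h₂ 0
  haveI := S0002.result k X _ h₃ 0
  have h := (mapLin k S.g 0).finrank_range_add_finrank_ker
  have hle := (mapLin k S.g 0).range.finrank_le
  have hker := CurveCohLib.ker_mapLin_g k hS 0
  rw [hker] at h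
  have := LinearMap.finrank_range_le (mapLin k S.f 0)
  omega

/-- A line bundle has at most `|deg| + g + 1` sections. -/
theorem finrank_h0_line_le (hO : Module.finrank k (Coh.HH X (Coh.structureModule X) 0) = 1)
    (hdim : topologicalKrullDim X = 1) {L : X.Modules} (hL : PicF.IsInvertible L) :
    (Module.finrank k (Coh.HH X L 0) : ℤ) ≤ |Curv2.deg k X L 1| + Curv2.genus k X + 1 := by
  haveI := CurveCohLib.isNoetherian_of_proper (k := k) (X := X)
  have h0 := le_abs_self (Curv2.deg k X L 1)
  have h0' := abs_nonneg (Curv2.deg k X L 1)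
  by_cases h : Curv2.genus k X < Module.finrank k (Coh.HH X L 0)
  · haveI := CurveSpecial.subsingleton_HH_one_of_genus_lt k hdim hL h
    have hχ := euler_eq k hdim (coh_of_free k (isFinLocFree_of_rank (InvEnd.isFinLocFreeOfRank_one hL)))
    rw [Module.finrank_zero_of_subsingleton (R := k) (M := Coh.HH X L 1)] at hχ
    have hd : Curv2.deg k X L 1 =
        Curv2.euler k X L - ((1 : ℕ) : ℤ) * Curv2.euler k X (Coh.structureModule X) := rfl
    rw [hχ, euler_structure k hO hdim] at hd
    push_cast at hd
    linarith [Int.natCast_nonneg (Curv2.genus k X)]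
  · have : (Module.finrank k (Coh.HH X L 0) : ℤ) ≤ Curv2.genus k X := by exact_mod_cast not_lt.1 h
    linarith

variable (p : ℕ) [Fact p.Prime] [FrobSch.IsCharP X p]

/-- The iterated Frobenius pull-back. -/
noncomputable abbrev frobPull (n : ℕ) (M : X.Modules) : X.Modules :=
  ((Scheme.Modules.pullback (FrobSch.frob X p)).obj)^[n] M

omit k in
theorem isFinLocFree_frobPull {E : X.Modules} (hE : FlatMod.IsFinLocFree E) :
    ∀ n, FlatMod.IsFinLocFree (frobPull p n E)
  | 0 => hE
  | n + 1 => by
    rw [frobPull, Function.iterate_succ_apply']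
    exact KFlatLib.isFinLocFree_pullback _ (isFinLocFree_frobPull hE n)

/-- Degrees of Frobenius pull-backs of line bundles. -/
theorem deg_frobPull (hdim : topologicalKrullDim X = 1) {L : X.Modules} (hL : PicF.IsInvertible L) :
    ∀ n, PicF.IsInvertible (frobPull p n L) ∧
      Curv2.deg k X (frobPull p n L) 1 = (p : ℤ) ^ n * Curv2.deg k X L 1
  | 0 => ⟨hL, by
      rw [pow_zero, one_mul]
      rfl⟩
  | n + 1 => by
    obtain ⟨h1, h2⟩ := deg_frobPull hdim hL n
    obtain ⟨e⟩ := KodV43.nonempty_frobPullIso p h1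
    rw [frobPull, Function.iterate_succ_apply']
    refine ⟨H23.PicMul.isInvertible_of_iso e.symm (InvX.isInvertible_tensorPow h1 p), ?_⟩
    rw [CurveRR.deg_congr k e, deg_tensorPow k hdim h1, h2, pow_succ]
    ring

omit k in
/-- Iterated Frobenius pull-back of a short exact sequence of bundles. -/
theorem exists_shortExact_frobPull {S : ShortComplex X.Modules} (hS : S.ShortExact)
    (h₃ : FlatMod.IsFinLocFree S.X₃) :
    ∀ n, ∃ (f : frobPull p n S.X₁ ⟶ frobPull p n S.X₂) (g : frobPull p n S.X₂ ⟶ frobPull p n S.X₃)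
      (w : f ≫ g = 0), (ShortComplex.mk f g w).ShortExact
  | 0 => ⟨S.f, S.g, S.zero, hS⟩
  | n + 1 => by
    obtain ⟨f, g, w, h⟩ := exists_shortExact_frobPull hS h₃ n
    have h' := KRRLib.shortExact_pullback (FrobSch.frob X p) h (isFinLocFree_frobPull p h₃ n)
    have he : ∀ M : X.Modules, frobPull p (n + 1) M =
        (Scheme.Modules.pullback (FrobSch.frob X p)).obj (frobPull p n M) :=
      fun M => Function.iterate_succ_apply' _ n M
    rw [he S.X₁, he S.X₂, he S.X₃]
    exact ⟨_, _, _, h'⟩

/-- Sections of twisted Frobenius pull-backs grow at most like `p ^ n`. -/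
theorem exists_frob_bound (hO : Module.finrank k (Coh.HH X (Coh.structureModule X) 0) = 1)
    (hdim : topologicalKrullDim X = 1) {E L : X.Modules} (hE : FlatMod.IsFinLocFree E)
    (hL : PicF.IsInvertible L) :
    ∃ M : ℕ, ∀ n, Module.finrank k (Coh.HH X ((DCoh.tensorBi.obj (frobPull p n E)).obj L) 0) ≤ M * p ^ n := by
  haveI := CurveCohLib.isNoetherian_of_proper (k := k) (X := X)
  haveI := isLocallyNoetherian' k (X := X)
  have hp : ∀ n, 1 ≤ p ^ n := fun n => Nat.one_le_pow _ _ (Nat.Prime.pos Fact.out)
  have hLf := isFinLocFree_of_rank (InvEnd.isFinLocFreeOfRank_one hL)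
  have hline : ∀ Q : X.Modules, FlatMod.IsFinLocFree Q → rk Q = 1 →
      ∃ M : ℕ, ∀ n, Module.finrank k (Coh.HH X ((DCoh.tensorBi.obj (frobPull p n Q)).obj L) 0) ≤ M * p ^ n := by
    intro Q hQ hrQ
    have hQi := isInvertible_of_rank_one (hrQ ▸ isFinLocFreeOfRank_rk hQ)
    refine ⟨(|Curv2.deg k X Q 1| + |Curv2.deg k X L 1| + Curv2.genus k X + 1).toNat, fun n => ?_⟩
    obtain ⟨hn, hdn⟩ := deg_frobPull k p hdim hQi n
    have h := finrank_h0_line_le k hO hdim (InvX.isInvertible_tensorMod hn hL)
    rw [show CohB1.tensorMod (frobPull p n Q) L = (DCoh.tensorBi.obj (frobPull p n Q)).obj L from rfl,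
      CurveRR.deg_tensor k hdim hn hL, hdn] at h
    have hab := abs_add_le ((p : ℤ) ^ n * Curv2.deg k X Q 1) (Curv2.deg k X L 1)
    rw [abs_mul, abs_of_nonneg (by positivity : (0 : ℤ) ≤ (p : ℤ) ^ n)] at hab
    have h1 : (1 : ℤ) ≤ (p : ℤ) ^ n := by exact_mod_cast hp n
    have a0 := abs_nonneg (Curv2.deg k X Q 1)
    have a1 := abs_nonneg (Curv2.deg k X L 1)
    have g0 := Int.natCast_nonneg (Curv2.genus k X)
    have hmul : (|Curv2.deg k X L 1| + Curv2.genus k X + 1) * 1 ≤
        (|Curv2.deg k X L 1| + Curv2.genus k X + 1) * (p : ℤ) ^ n :=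
      mul_le_mul_of_nonneg_left h1 (by linarith)
    zify
    rw [Int.toNat_of_nonneg (by linarith)]
    linarith
  have main : ∀ (r : ℕ) (E : X.Modules), FlatMod.IsFinLocFree E → rk E = r →
      ∃ M : ℕ, ∀ n, Module.finrank k (Coh.HH X ((DCoh.tensorBi.obj (frobPull p n E)).obj L) 0) ≤ M * p ^ n := by
    intro r
    induction r with
    | zero =>
      intro E hE hr
      refine ⟨0, fun n => le_of_eq ?_⟩
      have hz : ∀ n, IsZero (frobPull p n E) := by
        intro n
        induction n with
        | zero => exact isZero_of_rk_zero hE hr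
        | succ n ih =>
          simp only [frobPull, Function.iterate_succ_apply']
          exact Functor.map_isZero _ ih
      rw [zero_mul]
      exact CurveCohLib.finrank_HH_zero_eq_zero_of_isZero (k := k)
        (Functor.map_isZero (DCoh.tensorBi.flip.obj L) (hz n))
    | succ r ih =>
      intro E hE hr
      obtain ⟨G, j, hj, hG, hrG, hmax⟩ := exists_max_sub k hdim.le hE
        (exists_sub_of_rank k hdim hE r (by omega))
      haveI := hj
      have hEc := coh_of_free k hE
      have hGc := coh_of_free k hG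
      have hQc : Coh.IsCoh (cokernel j) := QCoh.isCoh_cokernel hGc.1 hEc j
      have hS := shortExact_cokernel_of_mono j
      have hQ := isFinLocFree_of_max k hdim.le j (cokernel.π j) _ hS hGc hE hQc
        (fun F g hg hF hrF => hmax F g hg hF (hrF.trans hrG))
      have hrQ : rk (cokernel j) = 1 := by
        have := rk_add_coh k _ _ _ hS hEc
        omega
      obtain ⟨M₁, hM₁⟩ := ih G hG hrG
      obtain ⟨M₂, hM₂⟩ := hline _ hQ hrQ
      refine ⟨M₁ + M₂, fun n => ?_⟩
      obtain ⟨f, g, w, h⟩ := exists_shortExact_frobPull p hS hQ n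
      have hT := CurveTensor.shortExact_tensor hLf f g w h
      have hc : ∀ A : X.Modules, FlatMod.IsFinLocFree A → Coh.IsCoh ((DCoh.tensorBi.obj L).obj A) :=
        fun A hA => coh_of_free k (KFlatLib.isFinLocFree_tensor hLf hA)
      have hadd := finrank_h0_le_add k hT (hc _ (isFinLocFree_frobPull p hG n))
        (hc _ (isFinLocFree_frobPull p hE n)) (hc _ (isFinLocFree_frobPull p hQ n))
      have e : ∀ A : X.Modules, Module.finrank k (Coh.HH X ((DCoh.tensorBi.obj L).obj A) 0) =
          Module.finrank k (Coh.HH X ((DCoh.tensorBi.obj A).obj L) 0) := fun A =>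
        (CurveCohLib.hhEquiv (k := k) (CurveTensor.commIso L A) 0).finrank_eq
      dsimp only at hadd
      rw [e, e, e] at hadd
      rw [add_mul]
      exact hadd.trans (add_le_add (hM₁ n) (hM₂ n))
  exact main _ E hE rfl

end Groth.Agent.VBCurvesLib
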