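import Groth.Agent.VBCurvesLib.SectionBound
import Groth.Agent.VBCurvesLib.ExtVanish
import Groth.Agent.Lib.CurveSpecial
import Groth.Agent.KFlatLib.Perfect.Tensor

/-!
Semistable bundles in genus one embed into copies of a line bundle of large degree (finite base field).
-/

set_option linter.style.haveILetI false
set_option linter.unusedSectionVars false
set_option backward.isDefEq.respectTransparency false
set_option backward.isDefEq.respectTransparency.types false
set_option synthInstance.maxHeartbeats 100000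
set_option maxHeartbeats 1000000

universe u

open CategoryTheory CategoryTheory.Limits AlgebraicGeometry TopologicalSpace Opposite
open Groth.Agent.PnCoh.Finite (mapLin)

namespace Groth.Agent.VBCurvesLib

open Groth.Agent.CurveBundle Groth.Agent.CurveSlope Groth.Agent.CurveStable Groth.Agent.CurveDuality

variable {X : Scheme.{u}}

/-- Sections are maps from the structure sheaf. -/
noncomputable def homEquivHH (M : X.Modules) : Coh.HH X M 0 ≃ (Coh.structureModule X ⟶ M) :=
  Equiv.ofBijective CurveSpecial.homOfClass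
    ⟨fun s t h => by
      refine (Sheaf.H.equiv₀ (Coh.toAb M) isTerminalTop).injective ?_
      rw [← CurveSpecial.homOfClass_one s, ← CurveSpecial.homOfClass_one t, h],
     fun f => ⟨(Sheaf.H.equiv₀ (Coh.toAb M) isTerminalTop).symm (f.app ⊤ (H23.Frame.one ⊤)),
      CurveRR.hom_ext_one (by rw [CurveSpecial.homOfClass_one]; exact AddEquiv.apply_symm_apply _ _)⟩⟩

variable (k : Type u) [Field k] [X.Over (Spec (CommRingCat.of k))] [IsIntegral X]
  [IsProper (X ↘ Spec (CommRingCat.of k))] [Smooth (X ↘ Spec (CommRingCat.of k))]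

/-- `Hom(F, L)` is the space of sections of `dual F ⊗ L`. -/
noncomputable def homEquivSections {F : X.Modules} (L : X.Modules) (hF : FlatMod.IsFinLocFree F) :
    (F ⟶ L) ≃ Coh.HH X ((DCoh.tensorBi.obj (RefHull.dual F)).obj L) 0 :=
  haveI := isLocallyNoetherian' k (X := X)
  ((KFlatLib.tensorUnitIso F).symm.homFromEquiv).trans
    ((adjEquiv (Coh.structureModule X) L hF).trans (homEquivHH _).symm)

/-- A semistable bundle of slope `< deg L - 1` embeds into copies of `L`. -/
theorem exists_mono_copies [Finite k]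
    (hO : Module.finrank k (Coh.HH X (Coh.structureModule X) 0) = 1)
    (hdim : topologicalKrullDim X = 1) (hg : Curv2.genus k X = 1)
    {F L : X.Modules} {r : ℕ} (hr : 0 < r) (hF : FlatMod.IsFinLocFreeOfRank r F)
    (hss : ∀ (G : X.Modules) (i : G ⟶ F), Mono i → FlatMod.IsFinLocFree G →
      dg k G * (r : ℤ) ≤ dg k F * (rk G : ℤ))
    (hL : PicF.IsInvertible L) (hdeg : dg k F < (Curv2.deg k X L 1 - 1) * (r : ℤ)) :
    ∃ (M : ℕ), 0 < M ∧ ∃ (j : F ⟶ ∐ fun _ : Fin M => L), Mono j := by
  classical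
  haveI := CurveCohLib.isNoetherian_of_proper (k := k) (X := X)
  have hFf := isFinLocFree_of_rank hF
  have hrF := rk_eq hF
  have hLf := isFinLocFree_of_rank (InvEnd.isFinLocFreeOfRank_one hL)
  have hD := isFinLocFree_dual hFf
  let V := (DCoh.tensorBi.obj (RefHull.dual F)).obj L
  have hVf : FlatMod.IsFinLocFree V := KFlatLib.isFinLocFree_tensor hD hLf
  obtain ⟨hrV, hdV⟩ := dg_twist k hdim hL hD
  rw [rk_dual hFf, hrF] at hrV hdV
  rw [dg_dual k hdim hFf] at hdV
  haveI := S0002.result k X V (coh_of_free k hVf) 0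
  haveI : Finite (Coh.HH X V 0) := Module.finite_of_finite k
  haveI : Finite (F ⟶ L) := Finite.of_equiv _ (homEquivSections k L hFf).symm
  obtain ⟨n, ⟨σ⟩⟩ := Finite.exists_equiv_fin (F ⟶ L)
  let f : Fin (n + 1) → (F ⟶ L) := fun i => if h : (i : ℕ) < n then σ.symm ⟨i, h⟩ else 0
  have hf : ∀ φ, ∃ i, f i = φ := fun φ => ⟨(σ φ).castSucc, by simp [f]⟩
  refine ⟨n + 1, Nat.succ_pos n, biproduct.lift f ≫ (biproduct.isoCoproduct _).hom, ?_⟩
  let j := biproduct.lift f
  suffices Mono j from inferInstanceAs (Mono (j ≫ _))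
  have hBf : FlatMod.IsFinLocFree (⨁ fun _ : Fin (n + 1) => L) :=
    H23.PullPush.isFinLocFree_of_iso (biproduct.isoCoproduct _).symm
      (KFlatLib.isFinLocFree_sigma _ Finset.univ (fun i hi => absurd (Finset.mem_univ i) hi) fun _ => hLf)
  obtain ⟨I, π, ι, hι, hπ, hfac, hK, hI, hrk, -, -, -⟩ := exists_decomp k hdim.le hFf hBf j
  haveI := hι
  haveI := hπ
  rw [hrF] at hrk
  rcases Nat.eq_zero_or_pos (rk (kernel j)) with h0 | h0
  · exact Preadditive.mono_of_kernel_zero
      ((isZero_of_rk_zero hK h0).eq_of_src _ _)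
  exfalso
  -- every map to `L` factors through `I`
  have hfactor : ∀ φ : F ⟶ L, ∃ ψ : I ⟶ L, π ≫ ψ = φ := fun φ => by
    obtain ⟨i, rfl⟩ := hf φ
    exact ⟨ι ≫ biproduct.π _ i, by rw [reassoc_of% hfac]; exact biproduct.lift_π f i⟩
  choose ψ hψ using hfactor
  have hinj : Function.Injective ψ := fun a b h => by rw [← hψ a, ← hψ b, h]
  have hDI := isFinLocFree_dual hI
  have hVI : FlatMod.IsFinLocFree ((DCoh.tensorBi.obj (RefHull.dual I)).obj L) :=
    KFlatLib.isFinLocFree_tensor hDI hLf
  haveI := S0002.result k X _ (coh_of_free k hVI) 0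
  haveI : Finite (Coh.HH X ((DCoh.tensorBi.obj (RefHull.dual I)).obj L) 0) := Module.finite_of_finite k
  have hcard := Nat.card_le_card_of_injective
    (fun t => homEquivSections k L hI (ψ ((homEquivSections k L hFf).symm t)))
    ((homEquivSections k L hI).injective.comp (hinj.comp (homEquivSections k L hFf).symm.injective))
  rw [Module.natCard_eq_pow_finrank (K := k) (V := Coh.HH X ((DCoh.tensorBi.obj (RefHull.dual F)).obj L) 0),
    Module.natCard_eq_pow_finrank (K := k) (V := Coh.HH X ((DCoh.tensorBi.obj (RefHull.dual I)).obj L) 0)] at hcard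
  have hle := (Nat.pow_le_pow_iff_right (Finite.one_lt_card (α := k))).1 hcard
  -- bound the sections of the sub bundle
  have hw : kernel.ι j ≫ π = 0 := by
    rw [← cancel_mono ι, Category.assoc, hfac, kernel.condition, zero_comp]
  have hS : (ShortComplex.mk (kernel.ι j) π hw).ShortExact :=
    { exact := ShortComplex.exact_of_f_is_kernel _ (KernelFork.IsLimit.ofι _ _
        (fun g hg => kernel.lift j g (by rw [← hfac, ← Category.assoc, hg, zero_comp]))
        (fun g hg => kernel.lift_ι _ _ _)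
        (fun g hg m hm => by rw [← cancel_mono (kernel.ι j), kernel.lift_ι]; exact hm)) }
  obtain ⟨w', hS'⟩ := shortExact_dual hS hK hFf hI
  haveI : Mono (dualMap π) := hS'.mono_f
  haveI : Mono ((DCoh.tensorBi.obj L).map (dualMap π)) :=
    (CurveTensor.shortExact_tensor hLf _ _ _ (shortExact_cokernel_of_mono (dualMap π))).mono_f
  let q : (DCoh.tensorBi.obj (RefHull.dual I)).obj L ⟶ V :=
    (CurveTensor.commIso (RefHull.dual I) L).hom ≫ (DCoh.tensorBi.obj L).map (dualMap π) ≫
      (CurveTensor.commIso L (RefHull.dual F)).hom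
  haveI : Mono q := mono_comp _ _
  have hbd : ∀ (G : X.Modules) (i : G ⟶ V), Mono i → FlatMod.IsFinLocFree G →
      dg k G * (r : ℤ) ≤ dg k V * (rk G : ℤ) := by
    intro G i hi hG
    haveI := hi
    obtain ⟨G', i', hi', hG', hr', hd'⟩ := exists_untwist k hdim hL i hG
    haveI := hi'
    obtain ⟨F₀, i₀, hi₀, hF₀, hr₀, hd₀⟩ := exists_sub_of_dual_sub k hdim hFf i' hG'
    have hss₀ := hss F₀ i₀ hi₀ hF₀
    rw [hrF, hr'] at hr₀
    have hr₀' : (rk F₀ : ℤ) = (r : ℤ) - rk G := by omega
    have h1 := mul_le_mul_of_nonneg_right hd₀ (Int.natCast_nonneg r)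
    rw [hr₀'] at hss₀
    rw [hdV]
    linear_combination h1 + hss₀ - (r : ℤ) * hd'
  have hlow : (r : ℤ) < dg k V := by rw [hdV]; linarith
  have hb := finrank_h0_le_of_bound k hO hdim hVf (dg k V) r (by rw [hg]; push_cast; linarith) hbd _ q
    inferInstance hVI
  obtain ⟨hrI, -⟩ := dg_twist k hdim hL hDI
  rw [hrI, rk_dual hI, hg] at hb
  have hχ := euler_le_h0 k hdim.le (coh_of_free k hVf)
  have heV : Curv2.euler k X V = dg k V := by
    unfold dg
    rw [euler_structure k hO hdim, hg]
    simp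
  rw [heV] at hχ
  have hsr : (rk I : ℤ) + 1 ≤ (r : ℤ) := by omega
  have hle' : (Module.finrank k (Coh.HH X V 0) : ℤ) ≤
      Module.finrank k (Coh.HH X ((DCoh.tensorBi.obj (RefHull.dual I)).obj L) 0) := by exact_mod_cast hle
  have h2 := mul_le_mul_of_nonneg_right (hχ.trans hle') (Int.natCast_nonneg r)
  have h3 := mul_le_mul_of_nonneg_right hsr (show (0 : ℤ) ≤ dg k V by linarith)
  push_cast at hb
  have hr1 : (1 : ℤ) ≤ (r : ℤ) := by exact_mod_cast hr
  linarith

include k in
/-- A bundle with jointly monic maps to `N` has slope at most the degree of `N`. -/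
theorem dg_le_of_jointly_mono (hdim : topologicalKrullDim X = 1) {N : X.Modules}
    (hN : PicF.IsInvertible N) :
    ∀ (n : ℕ) (G : X.Modules), FlatMod.IsFinLocFree G → ∀ p : Fin n → (G ⟶ N),
      (∀ (Z : X.Modules) (f : Z ⟶ G), (∀ i, f ≫ p i = 0) → f = 0) →
        dg k G ≤ (rk G : ℤ) * Curv2.deg k X N 1 := by
  haveI := CurveCohLib.isNoetherian_of_proper (k := k) (X := X)
  have hN1 := InvEnd.isFinLocFreeOfRank_one hN
  have hNf := isFinLocFree_of_rank hN1
  intro n
  induction n with
  | zero =>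
    intro G _ p hp
    have hz : IsZero G := (IsZero.iff_id_eq_zero G).2 (hp G (𝟙 G) fun i => i.elim0)
    rw [dg_eq_zero_of_isZero k hz, rk_eq_zero_of_isZero hz]
    simp
  | succ n ih =>
    intro G hG p hp
    obtain ⟨I, π, ι, hι, hπ, hfac, hK, hI, hrk, hdg, -, hle⟩ := exists_decomp k hdim.le hG hNf (p 0)
    haveI := hι
    have hKd := ih (kernel (p 0)) hK (fun i => kernel.ι (p 0) ≫ p i.succ) fun Z f hf => by
      rw [← cancel_mono (kernel.ι (p 0)), zero_comp]
      refine hp Z _ fun i => ?_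
      refine Fin.cases ?_ (fun j => ?_) i
      · rw [Category.assoc, kernel.condition, comp_zero]
      · rw [Category.assoc]
        exact hf j
    have hId : dg k I ≤ (rk I : ℤ) * Curv2.deg k X N 1 := by
      rw [rk_eq hN1] at hle
      rcases Nat.eq_zero_or_pos (rk I) with h | h
      · rw [dg_eq_zero_of_isZero k (isZero_of_rk_zero hI h), h]
        simp
      have hr1 : rk I = 1 := by omega
      rw [hr1, deg_eq_dg k hN1, Nat.cast_one, one_mul]
      by_cases hiso : IsIso ι
      · haveI := hiso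
        rw [dg_congr k (asIso ι)]
      · exact (dg_lt_of_rk_eq k hdim.le ι (coh_of_free k hI) (coh_of_free k hNf)
          (by rw [hr1, rk_eq hN1]) hiso).le
    rw [hdg, hrk]
    push_cast
    linarith

/-- Subsheaves of a product of two bundles embedded in copies of line bundles. -/
theorem dg_le_of_mono_copies (hdim : topologicalKrullDim X = 1) {F F' L L' : X.Modules}
    (hF : FlatMod.IsFinLocFree F) (hL : PicF.IsInvertible L) (hL' : PicF.IsInvertible L')
    {M M' : ℕ} (j : F ⟶ ∐ fun _ : Fin M => L) [Mono j] (j' : F' ⟶ ∐ fun _ : Fin M' => L') [Mono j']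
    {G : X.Modules} (i : G ⟶ (DCoh.tensorBi.obj F).obj F') [Mono i] (hG : FlatMod.IsFinLocFree G) :
    dg k G ≤ (rk G : ℤ) * (Curv2.deg k X L 1 + Curv2.deg k X L' 1) := by
  classical
  haveI := isLocallyNoetherian' k (X := X)
  have hLf := isFinLocFree_of_rank (InvEnd.isFinLocFreeOfRank_one hL)
  have hL'f := isFinLocFree_of_rank (InvEnd.isFinLocFreeOfRank_one hL')
  let B' : X.Modules := ⨁ fun _ : Fin M' => L'
  have hB' : FlatMod.IsFinLocFree B' := H23.PullPush.isFinLocFree_of_iso (biproduct.isoCoproduct _).symm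
    (KFlatLib.isFinLocFree_sigma _ Finset.univ (fun i hi => absurd (Finset.mem_univ i) hi) fun _ => hL'f)
  let a : F ⟶ ⨁ fun _ : Fin M => L := j ≫ (biproduct.isoCoproduct _).inv
  let a' : F' ⟶ B' := j' ≫ (biproduct.isoCoproduct _).inv
  haveI : Mono a := mono_comp _ _
  haveI : Mono a' := mono_comp _ _
  haveI : Mono ((DCoh.tensorBi.obj F).map a') :=
    (CurveTensor.shortExact_tensor hF _ _ _ (shortExact_cokernel_of_mono a')).mono_f
  haveI : Mono ((DCoh.tensorBi.obj B').map a) :=
    (CurveTensor.shortExact_tensor hB' _ _ _ (shortExact_cokernel_of_mono a)).mono_f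
  let u : G ⟶ (DCoh.tensorBi.obj B').obj (⨁ fun _ : Fin M => L) :=
    i ≫ (DCoh.tensorBi.obj F).map a' ≫ (CurveTensor.commIso F B').hom ≫ (DCoh.tensorBi.obj B').map a
  haveI : Mono u := mono_comp _ _
  let w : (DCoh.tensorBi.obj B').obj L ≅ ⨁ fun _ : Fin M' => (DCoh.tensorBi.obj L).obj L' :=
    CurveTensor.commIso B' L ≪≫ (DCoh.tensorBi.obj L).mapBiproduct _
  let e := fun x => (DCoh.tensorBi.obj B').map (biproduct.π (fun _ : Fin M => L) x) ≫ w.hom
  have hm : ∀ (Z : X.Modules) (f : Z ⟶ (DCoh.tensorBi.obj B').obj (⨁ fun _ : Fin M => L)),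
      (∀ x y, f ≫ e x ≫ biproduct.π _ y = 0) → f = 0 := fun Z f hf => by
    rw [← cancel_mono ((DCoh.tensorBi.obj B').mapBiproduct fun _ : Fin M => L).hom, zero_comp]
    refine biproduct.hom_ext _ _ fun x => ?_
    rw [zero_comp, Category.assoc, ← cancel_mono w.hom, zero_comp]
    refine biproduct.hom_ext _ _ fun y => ?_
    rw [zero_comp]
    have := hf x y
    simpa [e] using this
  have h := dg_le_of_jointly_mono k hdim (InvX.isInvertible_tensorMod hL hL') (M * M') G hG
    (fun q => u ≫ e (finProdFinEquiv.symm q).1 ≫ biproduct.π _ (finProdFinEquiv.symm q).2)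
    fun Z f hf => by
      rw [← cancel_mono u, zero_comp]
      refine hm Z _ fun x y => ?_
      have := hf (finProdFinEquiv (x, y))
      simpa using this
  exact h.trans_eq (congrArg _ (CurveRR.deg_tensor k hdim hL hL'))

end Groth.Agent.VBCurvesLib
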