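import Groth.Agent.VBCurvesLib.Ample
import Groth.Agent.Lib.CurveDualPrep
import Groth.Agent.Lib.CurvePoint
import Groth.Agent.GeomConn5.Point

/-!
A rational point gives line bundles of every degree.
-/

set_option linter.style.haveILetI false
set_option linter.unusedSectionVars false
set_option backward.isDefEq.respectTransparency false
set_option backward.isDefEq.respectTransparency.types false
set_option synthInstance.maxHeartbeats 100000
set_option maxHeartbeats 1000000

universe u

open CategoryTheory CategoryTheory.Limits AlgebraicGeometry TopologicalSpace Opposite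

namespace Groth.Agent.VBCurvesLib

open Groth.Agent.CurveBundle Groth.Agent.CurveSlope Groth.Agent.CurveStable Groth.Agent.CurveDuality
  Groth.Agent.CurvePoint

variable {X : Scheme.{u}} (k : Type u) [Field k] [X.Over (Spec (CommRingCat.of k))]

/-- At a rational point the residue field is the base field. -/
theorem surjective_resMap_of_section (O : Spec (CommRingCat.of k) ⟶ X)
    (hO : O ≫ (X ↘ Spec (CommRingCat.of k)) = 𝟙 _) :
    Function.Surjective (Curv2.resMap k X (O (IsLocalRing.closedPoint k))) := by
  let g := Scheme.descResidueField (Scheme.stalkClosedPointTo O)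
  have h : CommRingCat.ofHom (Curv2.resMap k X (O (IsLocalRing.closedPoint k))) ≫ g = 𝟙 _ := by
    refine Spec.map_injective ?_
    rw [Spec.map_comp, Spec.map_id, ← GeomConn5.spec_resMap, ← Category.assoc,
      Scheme.descResidueField_stalkClosedPointTo_fromSpecResidueField, hO]
  exact fun y => ⟨g y, g.hom.injective (congrArg (fun f => f (g y)) h)⟩

variable [IsIntegral X] [IsProper (X ↘ Spec (CommRingCat.of k))] [Smooth (X ↘ Spec (CommRingCat.of k))]

/-- The structure sheaf of a rational point has Euler characteristic one. -/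
theorem euler_quot_rational (p : X) (hp : IsClosed ({p} : Set X))
    (hres : Function.Surjective (Curv2.resMap k X p)) :
    Curv2.euler k X (ClSub.quotMod (ptIdeal p hp)) = 1 := by
  classical
  haveI := CurveCohLib.isNoetherian_of_proper (k := k) (X := X)
  let Q := ClSub.quotMod (ptIdeal p hp)
  obtain ⟨h, hfin⟩ := CurveCohLib.euler_eq_sum_stalks (k := k) (isCoh_quot p hp k)
    (closed_support p hp) {p} (by simpa using support_quot_subset p hp)
  rw [h, Finset.sum_singleton]
  letI := CurveCohLib.stalkModuleK k Q p
  haveI := hfin p (Finset.mem_singleton_self p)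
  haveI : Nontrivial (Q.presheaf.stalk p) :=
    not_subsingleton_iff_nontrivial.1 (not_subsingleton_stalk p hp)
  obtain ⟨q₀, hq₀⟩ : ∃ q₀ : Q.presheaf.stalk p, ∀ q, ∃ a : X.presheaf.stalk p, q = a • q₀ :=
    ParShLib.exists_germ_smul (ptIdeal p hp) p
  let L : k →ₗ[k] Q.presheaf.stalk p :=
    { toFun := fun c => Curv2.stalkMap k X p c • q₀
      map_add' := fun c d => by rw [map_add, add_smul]
      map_smul' := fun a c => by
        show Curv2.stalkMap k X p (a * c) • q₀ = Curv2.stalkMap k X p a • (Curv2.stalkMap k X p c • q₀)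
        rw [map_mul, mul_smul] }
  have hL : Function.Surjective L := fun q => by
    obtain ⟨a, ha⟩ := hq₀ q
    obtain ⟨c, hc⟩ := hres (X.residue p a)
    have h0 := smul_quot_eq_zero p hp (Ideal.Quotient.eq.1 hc.symm) q₀
    refine ⟨c, ?_⟩
    rw [sub_smul, sub_eq_zero] at h0
    exact h0.symm.trans (ha.symm : a • q₀ = q)
  have h1 := LinearMap.finrank_le_finrank_of_surjective hL
  have h2 : 0 < Module.finrank k (Q.presheaf.stalk p) := Module.finrank_pos
  rw [Module.finrank_self] at h1
  exact_mod_cast le_antisymm h1 h2

/-- With a rational point there are line bundles of every degree. -/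
theorem exists_line_of_deg (hdim : topologicalKrullDim X = 1) (O : Spec (CommRingCat.of k) ⟶ X)
    (hO : O ≫ (X ↘ Spec (CommRingCat.of k)) = 𝟙 _) (d : ℤ) :
    ∃ L : X.Modules, PicF.IsInvertible L ∧ Curv2.deg k X L 1 = d := by
  haveI := CurveCohLib.isNoetherian_of_proper (k := k) (X := X)
  haveI : IsClosedImmersion (O ≫ (X ↘ Spec (CommRingCat.of k))) := hO ▸ inferInstance
  haveI : IsClosedImmersion O := IsClosedImmersion.of_comp O (X ↘ Spec (CommRingCat.of k))
  have hp : IsClosed ({O (IsLocalRing.closedPoint k)} : Set X) := by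
    rw [← Set.image_singleton (f := O)]
    refine O.isClosedEmbedding.isClosedMap _ ?_
    exact (PrimeSpectrum.isClosed_singleton_iff_isMaximal _).2 (IsLocalRing.maximalIdeal.isMaximal k)
  have hI := isInvertible_ptMod (O (IsLocalRing.closedPoint k)) hp k hdim
  have hdI : Curv2.deg k X (ptMod (O (IsLocalRing.closedPoint k)) hp) 1 = -1 := by
    have h := euler_add' k _ _ _ (shortExact_pt _ hp) (isCoh_ptMod _ hp k)
      QCoh.isCoh_structureModule' (isCoh_quot _ hp k)
    rw [euler_quot_rational k _ hp (surjective_resMap_of_section k O hO)] at h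
    unfold Curv2.deg
    push_cast
    linarith
  rcases le_total d 0 with hd | hd
  · refine ⟨_, InvX.isInvertible_tensorPow hI (-d).toNat, ?_⟩
    rw [deg_tensorPow k hdim hI, hdI]
    omega
  · obtain ⟨N, hN, hdN, -⟩ := exists_inverse_deg k hdim hI
    refine ⟨_, InvX.isInvertible_tensorPow hN d.toNat, ?_⟩
    rw [deg_tensorPow k hdim hN, hdN, hdI]
    omega

end Groth.Agent.VBCurvesLib
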