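import Groth.Agent.VBCurvesLib.Embed
import Groth.Agent.Lib.CurveEnd
import Mathlib.LinearAlgebra.Matrix.GeneralLinearGroup.Card
import Mathlib.CategoryTheory.Endomorphism

/-!
Counting automorphisms of direct sums.
-/

set_option linter.style.haveILetI false
set_option linter.unusedSectionVars false
set_option backward.isDefEq.respectTransparency false
set_option backward.isDefEq.respectTransparency.types false
set_option synthInstance.maxHeartbeats 100000
set_option maxHeartbeats 1000000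

universe v u

open CategoryTheory CategoryTheory.Limits

namespace Groth.Agent.VBCurvesLib

section Category

variable {C : Type u} [Category.{v} C] [Preadditive C] [HasBinaryBiproducts C]

theorem card_aut_eq_units (A : C) : Nat.card (Aut A) = Nat.card (End A)ˣ :=
  Nat.card_congr (Aut.unitsEndEquivAut A).symm.toEquiv

theorem card_aut_congr {A B : C} (e : A ≅ B) : Nat.card (Aut A) = Nat.card (Aut B) :=
  Nat.card_congr e.conjAut.toEquiv

/-- Endomorphisms of a sum of copies are matrices. -/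
noncomputable def endMatrix {A E : C} {n : ℕ} (ι : Fin n → (A ⟶ E)) (π : Fin n → (E ⟶ A))
    (hιπ : ∀ i j, ι i ≫ π j = if i = j then 𝟙 A else 0) (hsum : ∑ i, π i ≫ ι i = 𝟙 E) :
    End E ≃+* Matrix (Fin n) (Fin n) (End A) where
  toFun f := Matrix.of fun i j => ι j ≫ (show E ⟶ E from f) ≫ π i
  invFun M := ∑ i, ∑ j, π j ≫ (show A ⟶ A from M i j) ≫ ι i
  left_inv f := by
    show ∑ i, ∑ j, π j ≫ (ι j ≫ (show E ⟶ E from f) ≫ π i) ≫ ι i = _
    have h1 : ∀ i, ∑ j, π j ≫ (ι j ≫ (show E ⟶ E from f) ≫ π i) ≫ ι i =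
        (∑ j, π j ≫ ι j) ≫ (show E ⟶ E from f) ≫ π i ≫ ι i := fun i => by
      rw [Preadditive.sum_comp]
      simp only [Category.assoc]
    simp only [h1, hsum, Category.id_comp, ← Preadditive.comp_sum, Category.comp_id]
  right_inv M := by
    ext a b
    show ι b ≫ (∑ i, ∑ j, π j ≫ (show A ⟶ A from M i j) ≫ ι i) ≫ π a = M a b
    simp only [Preadditive.comp_sum, Preadditive.sum_comp, Category.assoc]
    rw [Finset.sum_eq_single a]
    · rw [Finset.sum_eq_single b]
      · rw [← Category.assoc, hιπ, if_pos rfl, Category.id_comp, hιπ, if_pos rfl]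
        exact Category.comp_id (show A ⟶ A from M a b)
      · intro j _ hj
        rw [← Category.assoc, hιπ, if_neg (Ne.symm hj), zero_comp]
      · exact fun h => absurd (Finset.mem_univ _) h
    · intro i _ hi
      refine Finset.sum_eq_zero fun j _ => ?_
      rw [hιπ, if_neg hi, comp_zero, comp_zero, comp_zero]
    · exact fun h => absurd (Finset.mem_univ _) h
  map_mul' f g := by
    ext a b
    rw [Matrix.mul_apply]
    show ι b ≫ ((show E ⟶ E from g) ≫ (show E ⟶ E from f)) ≫ π a =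
      ∑ l, (ι b ≫ (show E ⟶ E from g) ≫ π l) ≫ (ι l ≫ (show E ⟶ E from f) ≫ π a)
    have h1 : ∀ l, (ι b ≫ (show E ⟶ E from g) ≫ π l) ≫ (ι l ≫ (show E ⟶ E from f) ≫ π a) =
        ι b ≫ (show E ⟶ E from g) ≫ (π l ≫ ι l) ≫ (show E ⟶ E from f) ≫ π a := fun l => by
      simp only [Category.assoc]
    simp only [h1, ← Preadditive.comp_sum]
    rw [← Preadditive.sum_comp, hsum, Category.id_comp, Category.assoc]
  map_add' f g := by
    ext a b
    show ι b ≫ ((show E ⟶ E from f) + (show E ⟶ E from g)) ≫ π a = _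
    rw [Preadditive.add_comp, Preadditive.comp_add]
    rfl

/-- Without maps between the summands, endomorphisms of a sum are pairs. -/
noncomputable def endBiprod (A B : C) (hAB : ∀ f : A ⟶ B, f = 0) (hBA : ∀ f : B ⟶ A, f = 0) :
    End (A ⊞ B) ≃* End A × End B where
  toFun f := (biprod.inl ≫ f ≫ biprod.fst, biprod.inr ≫ f ≫ biprod.snd)
  invFun p := biprod.map (show A ⟶ A from p.1) (show B ⟶ B from p.2)
  left_inv f := by
    apply biprod.hom_ext' <;> apply biprod.hom_ext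
    · simp
    · simp [hAB (biprod.inl ≫ (show A ⊞ B ⟶ A ⊞ B from f) ≫ biprod.snd)]
    · simp [hBA (biprod.inr ≫ (show A ⊞ B ⟶ A ⊞ B from f) ≫ biprod.fst)]
    · simp
  right_inv p := by
    refine Prod.ext ?_ ?_
    · show biprod.inl ≫ biprod.map (show A ⟶ A from p.1) (show B ⟶ B from p.2) ≫ biprod.fst = p.1
      simp
    · show biprod.inr ≫ biprod.map (show A ⟶ A from p.1) (show B ⟶ B from p.2) ≫ biprod.snd = p.2
      simp
  map_mul' f g := by
    refine Prod.ext ?_ ?_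
    · show biprod.inl ≫ ((show A ⊞ B ⟶ A ⊞ B from g) ≫ (show A ⊞ B ⟶ A ⊞ B from f)) ≫ biprod.fst =
        (biprod.inl ≫ (show A ⊞ B ⟶ A ⊞ B from g) ≫ biprod.fst) ≫
          (biprod.inl ≫ (show A ⊞ B ⟶ A ⊞ B from f) ≫ biprod.fst)
      conv_lhs => rw [← Category.comp_id (show A ⊞ B ⟶ A ⊞ B from g), ← biprod.total]
      simp only [Preadditive.comp_add, Preadditive.add_comp, Category.assoc]
      rw [← Category.assoc biprod.inl _ (biprod.snd ≫ _), ← Category.assoc _ biprod.snd,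
        Category.assoc biprod.inl, hAB (biprod.inl ≫ (show A ⊞ B ⟶ A ⊞ B from g) ≫ biprod.snd),
        zero_comp, add_zero]
    · show biprod.inr ≫ ((show A ⊞ B ⟶ A ⊞ B from g) ≫ (show A ⊞ B ⟶ A ⊞ B from f)) ≫ biprod.snd =
        (biprod.inr ≫ (show A ⊞ B ⟶ A ⊞ B from g) ≫ biprod.snd) ≫
          (biprod.inr ≫ (show A ⊞ B ⟶ A ⊞ B from f) ≫ biprod.snd)
      conv_lhs => rw [← Category.comp_id (show A ⊞ B ⟶ A ⊞ B from g), ← biprod.total]
      simp only [Preadditive.comp_add, Preadditive.add_comp, Category.assoc]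
      rw [← Category.assoc biprod.inr _ (biprod.fst ≫ _), ← Category.assoc _ biprod.fst,
        Category.assoc biprod.inr, hBA (biprod.inr ≫ (show A ⊞ B ⟶ A ⊞ B from g) ≫ biprod.fst),
        zero_comp, zero_add]

theorem card_aut_biprod (A B : C) (hAB : ∀ f : A ⟶ B, f = 0) (hBA : ∀ f : B ⟶ A, f = 0) :
    Nat.card (Aut (A ⊞ B)) = Nat.card (Aut A) * Nat.card (Aut B) := by
  rw [card_aut_eq_units, card_aut_eq_units, card_aut_eq_units, ← Nat.card_prod]
  exact Nat.card_congr ((Units.mapEquiv (endBiprod A B hAB hBA)).trans MulEquiv.prodUnits).toEquiv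

/-- Automorphisms of a sum of copies of an object with scalar endomorphisms. -/
theorem card_aut_copies {A E : C} {n : ℕ} (ι : Fin n → (A ⟶ E)) (π : Fin n → (E ⟶ A))
    (hιπ : ∀ i j, ι i ≫ π j = if i = j then 𝟙 A else 0) (hsum : ∑ i, π i ≫ ι i = 𝟙 E)
    {K : Type*} [Field K] [Fintype K] (e : End A ≃+* K) :
    Nat.card (Aut E) = ∏ i : Fin n, (Fintype.card K ^ n - Fintype.card K ^ (i : ℕ)) := by
  rw [card_aut_eq_units, ← Matrix.card_GL_field]
  exact Nat.card_congr (Units.mapEquiv ((endMatrix ι π hιπ hsum).trans e.mapMatrix).toMulEquiv).toEquiv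

theorem card_aut_simple {A : C} {K : Type*} [Field K] [Fintype K] (e : End A ≃+* K) :
    Nat.card (Aut A) = Fintype.card K - 1 := by
  classical
  rw [card_aut_eq_units, Nat.card_congr (Units.mapEquiv e.toMulEquiv).toEquiv, Nat.card_eq_fintype_card,
    Fintype.card_units]

theorem card_aut_two {A : C} {K : Type*} [Field K] [Fintype K] (e : End A ≃+* K) :
    Nat.card (Aut (A ⊞ A)) = ∏ i : Fin 2, (Fintype.card K ^ 2 - Fintype.card K ^ (i : ℕ)) :=
  card_aut_copies ![biprod.inl, biprod.inr] ![biprod.fst, biprod.snd]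
    (fun i j => by fin_cases i <;> fin_cases j <;> simp)
    (by simp [Fin.sum_univ_two, biprod.total]) e

theorem card_aut_three {A : C} {K : Type*} [Field K] [Fintype K] (e : End A ≃+* K) :
    Nat.card (Aut (A ⊞ (A ⊞ A))) = ∏ i : Fin 3, (Fintype.card K ^ 3 - Fintype.card K ^ (i : ℕ)) :=
  card_aut_copies ![biprod.inl, biprod.inl ≫ biprod.inr, biprod.inr ≫ biprod.inr]
    ![biprod.fst, biprod.snd ≫ biprod.fst, biprod.snd ≫ biprod.snd]
    (fun i j => by fin_cases i <;> fin_cases j <;> simp)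
    (by
      apply biprod.hom_ext' <;> simp [Fin.sum_univ_three, Preadditive.comp_add]
      apply biprod.hom_ext' <;> simp [Preadditive.comp_add]) e

@[simp]
theorem inl_ofComponents' {X₁ X₂ Y₁ Y₂ Z : C} (a : X₁ ⟶ Y₁) (b : X₁ ⟶ Y₂) (c : X₂ ⟶ Y₁) (d : X₂ ⟶ Y₂)
    (g : Y₁ ⊞ Y₂ ⟶ Z) : biprod.inl ≫ Biprod.ofComponents a b c d ≫ g =
      a ≫ biprod.inl ≫ g + b ≫ biprod.inr ≫ g := by
  rw [← Category.assoc, Biprod.inl_ofComponents, Preadditive.add_comp, Category.assoc, Category.assoc]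

@[simp]
theorem inr_ofComponents' {X₁ X₂ Y₁ Y₂ Z : C} (a : X₁ ⟶ Y₁) (b : X₁ ⟶ Y₂) (c : X₂ ⟶ Y₁) (d : X₂ ⟶ Y₂)
    (g : Y₁ ⊞ Y₂ ⟶ Z) : biprod.inr ≫ Biprod.ofComponents a b c d ≫ g =
      c ≫ biprod.inl ≫ g + d ≫ biprod.inr ≫ g := by
  rw [← Category.assoc, Biprod.inr_ofComponents, Preadditive.add_comp, Category.assoc, Category.assoc]

/-- Automorphisms of a sum when composing across the summands gives zero on the first. -/
theorem card_aut_biprod_mix (A B : C) (h : ∀ (f : A ⟶ B) (g : B ⟶ A), f ≫ g = 0) :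
    Nat.card (Aut (A ⊞ B)) =
      Nat.card (Aut A) * Nat.card (Aut B) * Nat.card (A ⟶ B) * Nat.card (B ⟶ A) := by
  rw [← Nat.card_prod, ← Nat.card_prod, ← Nat.card_prod]
  let Φ : ((Aut A × Aut B) × (A ⟶ B)) × (B ⟶ A) → Aut (A ⊞ B) := fun p =>
    Biprod.unipotentLower p.2 ≪≫ biprod.mapIso p.1.1.1 p.1.1.2 ≪≫ Biprod.unipotentUpper p.1.2
  refine (Nat.card_congr (Equiv.ofBijective Φ ⟨?_, ?_⟩)).symm
  · rintro ⟨⟨⟨a, s⟩, u⟩, v⟩ ⟨⟨⟨a', s'⟩, u'⟩, v'⟩ he
    have he' := congrArg Iso.hom he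
    have h11 : a.hom = a'.hom := by simpa [Φ] using congrArg (fun φ => biprod.inl ≫ φ ≫ biprod.fst) he'
    obtain rfl : a = a' := Iso.ext h11
    have h12 : u = u' := by
      simpa [Φ] using congrArg (fun φ => biprod.inl ≫ φ ≫ biprod.snd) he'
    subst h12
    have h21 : v = v' := by
      simpa [Φ] using congrArg (fun φ => biprod.inr ≫ φ ≫ biprod.fst) he'
    subst h21
    have h22 : s.hom = s'.hom := by
      simpa [Φ] using congrArg (fun φ => biprod.inr ≫ φ ≫ biprod.snd) he'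
    obtain rfl : s = s' := Iso.ext h22
    rfl
  · intro φ
    have e1 : ∀ (ψ χ : A ⊞ B ⟶ A ⊞ B), ψ ≫ χ = 𝟙 _ →
        (biprod.inl ≫ ψ ≫ biprod.fst) ≫ biprod.inl ≫ χ ≫ biprod.fst = 𝟙 A := fun ψ χ hχ => by
      have h1 := congrArg (fun m => biprod.inl ≫ m ≫ biprod.fst) hχ
      simp only [Category.id_comp, Category.assoc, biprod.inl_fst] at h1
      conv at h1 =>
        lhs
        rw [← Category.id_comp χ, ← biprod.total]
      simp only [Preadditive.add_comp, Preadditive.comp_add, Category.assoc] at h1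
      have h2 := h (biprod.inl ≫ ψ ≫ biprod.snd) (biprod.inr ≫ χ ≫ biprod.fst)
      simp only [Category.assoc] at h2
      rw [h2, add_zero] at h1
      simpa only [Category.assoc] using h1
    let a : Aut A := ⟨biprod.inl ≫ φ.hom ≫ biprod.fst, biprod.inl ≫ φ.inv ≫ biprod.fst,
      e1 _ _ φ.hom_inv_id, e1 _ _ φ.inv_hom_id⟩
    let u : A ⟶ B := a.inv ≫ biprod.inl ≫ φ.hom ≫ biprod.snd
    let v : B ⟶ A := biprod.inr ≫ φ.hom ≫ biprod.fst ≫ a.inv
    let D : A ⊞ B ≅ A ⊞ B :=
      (Biprod.unipotentLower v).symm ≪≫ φ ≪≫ (Biprod.unipotentUpper u).symm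
    have hva : v ≫ a.hom = biprod.inr ≫ φ.hom ≫ biprod.fst := by simp [v]
    have hau : a.hom ≫ u = biprod.inl ≫ φ.hom ≫ biprod.snd := by simp [u]
    have hD : D.hom = biprod.map a.hom (biprod.inr ≫ D.hom ≫ biprod.snd) := by
      apply biprod.hom_ext' <;> apply biprod.hom_ext <;> simp [D, a, ← hau, ← hva]
    haveI : IsIso (biprod.map a.hom (biprod.inr ≫ D.hom ≫ biprod.snd)) := hD ▸ inferInstance
    haveI := isIso_right_of_isIso_biprod_map a.hom (biprod.inr ≫ D.hom ≫ biprod.snd)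
    refine ⟨(((a, asIso (biprod.inr ≫ D.hom ≫ biprod.snd)), u), v), Iso.ext ?_⟩
    show (Biprod.unipotentLower v).hom ≫ biprod.map a.hom (biprod.inr ≫ D.hom ≫ biprod.snd) ≫
      (Biprod.unipotentUpper u).hom = φ.hom
    rw [← hD]
    simp only [D, Iso.trans_hom, Iso.symm_hom, Category.assoc, Iso.inv_hom_id, Category.comp_id,
      Iso.hom_inv_id_assoc]

section SelfExtension

variable {D : Type u} [Category.{v} D] [Abelian D] {A : D} {T : ShortComplex D}
  {K : Type*} [Field K] [Fintype K]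

/-- Maps into and out of a non-split self-extension of an object with scalar endomorphisms. -/
theorem selfExt_maps (hT : T.ShortExact) (e₁ : T.X₁ ≅ A) (e₃ : T.X₃ ≅ A) (e : End A ≃+* K)
    (hns : ¬ IsSplitEpi T.g) :
    Function.Bijective (fun c : A ⟶ A => c ≫ e₁.inv ≫ T.f) ∧
    Function.Bijective (fun c : A ⟶ A => T.g ≫ e₃.hom ≫ c) ∧
    (∀ (f : A ⟶ T.X₂) (g : T.X₂ ⟶ A), f ≫ g = 0) := by
  haveI := hT.mono_f
  haveI := hT.epi_g
  have hiso : ∀ c : A ⟶ A, c ≠ 0 → IsIso c := fun c hc => by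
    have hK : IsUnit (e (show End A from c)) :=
      isUnit_iff_ne_zero.2 fun h => hc ((map_eq_zero_iff e e.injective).1 h)
    have hu : IsUnit (show End A from c) := by simpa using hK.map e.symm
    exact (isUnit_iff_isIso c).1 hu
  have hl : ∀ f : A ⟶ T.X₂, f ≫ T.g = 0 := fun f => by
    by_contra hf
    haveI := hiso (f ≫ T.g ≫ e₃.hom) fun h => hf (by
      rw [← cancel_mono e₃.hom, zero_comp, Category.assoc, h])
    exact hns (IsSplitEpi.mk' ⟨e₃.hom ≫ inv (f ≫ T.g ≫ e₃.hom) ≫ f, by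
      rw [← cancel_mono e₃.hom]
      simp⟩)
  have hr : ∀ g : T.X₂ ⟶ A, T.f ≫ g = 0 := fun g => by
    by_contra hg
    haveI := hiso (e₁.inv ≫ T.f ≫ g) fun h => hg (by rw [← cancel_epi e₁.inv, comp_zero, h])
    haveI : IsSplitMono T.f := IsSplitMono.mk' ⟨g ≫ inv (e₁.inv ≫ T.f ≫ g) ≫ e₁.inv, by
      rw [← cancel_epi e₁.inv, Category.comp_id]
      simpa only [Category.assoc] using IsIso.hom_inv_id_assoc (e₁.inv ≫ T.f ≫ g) e₁.inv⟩
    have sp := ShortComplex.Splitting.ofExactOfRetraction T hT.exact (retraction T.f)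
      (IsSplitMono.id T.f) hT.epi_g
    exact hns (IsSplitEpi.mk' ⟨sp.s, sp.s_g⟩)
  refine ⟨⟨fun c c' h => ?_, fun f => ?_⟩, ⟨fun c c' h => ?_, fun g => ?_⟩, fun f g => ?_⟩
  · rwa [cancel_mono] at h
  · exact ⟨hT.exact.lift f (hl f) ≫ e₁.hom, by simp⟩
  · simpa only [cancel_epi] using h
  · exact ⟨e₃.inv ≫ hT.exact.desc g (hr g), by simp⟩
  · rw [← hT.exact.lift_f f (hl f), Category.assoc, hr g, comp_zero]

/-- Endomorphisms of a non-split self-extension are dual numbers. -/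
theorem selfExt_card_aut (hT : T.ShortExact) (e₁ : T.X₁ ≅ A) (e₃ : T.X₃ ≅ A) (e : End A ≃+* K)
    (hns : ¬ IsSplitEpi T.g) (s : K →+* End T.X₂)
    (hs : ∀ a : K, e₁.inv ≫ T.f ≫ (show T.X₂ ⟶ T.X₂ from s a) =
      (show A ⟶ A from e.symm a) ≫ e₁.inv ≫ T.f) :
    Nat.card (Aut T.X₂) = (Fintype.card K - 1) * Fintype.card K := by
  classical
  obtain ⟨hl, hr, hz⟩ := selfExt_maps hT e₁ e₃ e hns
  haveI := hT.mono_f
  haveI := hT.epi_g
  let Ψ : K × K → End T.X₂ := fun p =>
    (show T.X₂ ⟶ T.X₂ from s p.1) +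
      T.g ≫ e₃.hom ≫ (show A ⟶ A from e.symm p.2) ≫ e₁.inv ≫ T.f
  have hf : ∀ p, e₁.inv ≫ T.f ≫ (show T.X₂ ⟶ T.X₂ from Ψ p) =
      (show A ⟶ A from e.symm p.1) ≫ e₁.inv ≫ T.f := fun p => by
    simp only [Ψ, Preadditive.comp_add, T.zero_assoc, zero_comp, add_zero]
    exact hs p.1
  have hinj : Function.Injective Ψ := fun p p' h => by
    have h1 : p.1 = p'.1 := by
      have := hl.1 (a₁ := (show A ⟶ A from e.symm p.1)) (a₂ := (show A ⟶ A from e.symm p'.1))
        ((hf p).symm.trans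
          ((congrArg (fun m : End T.X₂ => e₁.inv ≫ T.f ≫ (show T.X₂ ⟶ T.X₂ from m)) h).trans (hf p')))
      exact e.symm.injective this
    refine Prod.ext h1 ?_
    simp only [Ψ, h1] at h
    have h2 := add_left_cancel h
    rw [cancel_epi, cancel_epi] at h2
    exact e.symm.injective (hl.1 h2)
  have hsurj : Function.Surjective Ψ := fun φ => by
    obtain ⟨c, hc⟩ := hl.2 (e₁.inv ≫ T.f ≫ (show T.X₂ ⟶ T.X₂ from φ))
    have hzero : T.f ≫ ((show T.X₂ ⟶ T.X₂ from φ) - (show T.X₂ ⟶ T.X₂ from s (e c))) = 0 := by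
      have hs' := hs (e c)
      rw [RingEquiv.symm_apply_apply] at hs'
      rw [← cancel_epi e₁.inv, comp_zero, Preadditive.comp_sub, Preadditive.comp_sub, hs', ← hc, sub_self]
    let t := e₃.inv ≫ hT.exact.desc _ hzero
    obtain ⟨d, hd⟩ := hl.2 t
    refine ⟨(e c, e d), ?_⟩
    show (show T.X₂ ⟶ T.X₂ from s (e c)) +
      T.g ≫ e₃.hom ≫ (show A ⟶ A from e.symm (e d)) ≫ e₁.inv ≫ T.f = φ
    rw [RingEquiv.symm_apply_apply]
    simp only at hd
    rw [hd]
    simp [t]
  have hunit : ∀ p, IsUnit (Ψ p) ↔ p.1 ≠ 0 := fun p => by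
    constructor
    · intro hu h0
      haveI := (isUnit_iff_isIso (show T.X₂ ⟶ T.X₂ from Ψ p)).1 hu
      have h := hf p
      rw [h0, map_zero] at h
      have h' : e₁.inv ≫ T.f = 0 := by
        rw [← cancel_mono (show T.X₂ ⟶ T.X₂ from Ψ p), zero_comp, Category.assoc, h]
        exact zero_comp
      have hone : (0 : End A) = 1 := hl.1 (show (0 : A ⟶ A) ≫ _ = (𝟙 A) ≫ _ by simp [h'])
      exact zero_ne_one (α := K) ((map_zero e).symm.trans ((congrArg e hone).trans (map_one e)))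
    · intro h0
      have hu : IsUnit (s p.1) := (isUnit_iff_ne_zero.2 h0).map s
      let n : End T.X₂ := T.g ≫ e₃.hom ≫ (show A ⟶ A from e.symm p.2) ≫ e₁.inv ≫ T.f
      have hn : ∀ x : End T.X₂, (x * n) * (x * n) = 0 := fun x => by
        show ((show T.X₂ ⟶ T.X₂ from n) ≫ (show T.X₂ ⟶ T.X₂ from x)) ≫
          (show T.X₂ ⟶ T.X₂ from n) ≫ (show T.X₂ ⟶ T.X₂ from x) = 0
        have := hz (e₁.inv ≫ T.f) ((show T.X₂ ⟶ T.X₂ from x) ≫ T.g ≫ e₃.hom)
        simp only [Category.assoc] at this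
        simp only [n, Category.assoc, reassoc_of% this, zero_comp, comp_zero]
      obtain ⟨w, hw⟩ := hu
      show IsUnit (s p.1 + n)
      rw [← hw, show (w : End T.X₂) + n = w * (1 + (↑w⁻¹ : End T.X₂) * n) by
        rw [mul_add, mul_one, Units.mul_inv_cancel_left]]
      exact w.isUnit.mul (IsNilpotent.isUnit_one_add ⟨2, by rw [pow_two]; exact hn _⟩)
  rw [card_aut_eq_units]
  have e' : {p : K × K // p.1 ≠ 0} ≃ (End T.X₂)ˣ :=
    Equiv.ofBijective (fun p => ((hunit p.1).2 p.2).unit)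
      ⟨fun p q h => Subtype.ext (hinj (congrArg Units.val h)), fun w => by
        obtain ⟨p, hp⟩ := hsurj (w : End T.X₂)
        exact ⟨⟨p, (hunit p).1 (hp ▸ w.isUnit)⟩, Units.ext hp⟩⟩
  rw [← Nat.card_congr e', Nat.card_congr (Equiv.prodSubtypeFstEquivSubtypeProd (p := fun a : K => a ≠ 0)),
    Nat.card_prod, Nat.card_eq_fintype_card, Nat.card_eq_fintype_card, Fintype.card_subtype_compl,
    Fintype.card_subtype_eq]

end SelfExtension

end Category

section Curve

open AlgebraicGeometry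
open Groth.Agent.CurveBundle Groth.Agent.CurveSlope Groth.Agent.CurveStable Groth.Agent.CurveDuality

variable {X : Scheme.{u}} (k : Type u) [Field k] [X.Over (Spec (CommRingCat.of k))] [IsIntegral X]
  [IsProper (X ↘ Spec (CommRingCat.of k))] [Smooth (X ↘ Spec (CommRingCat.of k))]

/-- The number of maps between bundles. -/
theorem card_hom [Finite k] {A B : X.Modules} (hA : FlatMod.IsFinLocFree A) (hB : FlatMod.IsFinLocFree B) :
    Finite (A ⟶ B) ∧ Nat.card (A ⟶ B) = Nat.card k ^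
      Module.finrank k (Coh.HH X ((DCoh.tensorBi.obj (RefHull.dual A)).obj B) 0) := by
  haveI := CurveCohLib.isNoetherian_of_proper (k := k) (X := X)
  haveI := isLocallyNoetherian' k (X := X)
  have hc := coh_of_free k (KFlatLib.isFinLocFree_tensor (isFinLocFree_dual hA) hB)
  haveI := S0002.result k X _ hc 0
  haveI : Finite (Coh.HH X ((DCoh.tensorBi.obj (RefHull.dual A)).obj B) 0) := Module.finite_of_finite k
  exact ⟨Finite.of_equiv _ (homEquivSections k B hA).symm,
    (Nat.card_congr (homEquivSections k B hA)).trans Module.natCard_eq_pow_finrank⟩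

include k in
/-- Non-isomorphic line bundles of one degree have no maps between them. -/
theorem hom_eq_zero_of_not_iso (hdim : topologicalKrullDim X = 1) {L M : X.Modules}
    (hL : PicF.IsInvertible L) (hM : PicF.IsInvertible M)
    (hd : Curv2.deg k X L 1 = Curv2.deg k X M 1) (h : ¬ Nonempty (L ≅ M)) (f : L ⟶ M) : f = 0 := by
  by_contra hf
  haveI := (CurveDeg.deg_le_and_isIso k hdim.le hL hM f hf).2 hd
  exact h ⟨asIso f⟩

/-- A finite endomorphism ring of the size of the ground field is the ground field. -/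
theorem nonempty_end_equiv [Finite k] {A : X.Modules} (hne : ¬ IsZero A) [Finite (A ⟶ A)]
    (hcard : Nat.card (A ⟶ A) = Nat.card k) : Nonempty (End A ≃+* k) := by
  let φ : k →+* End A :=
    (CurveEnd.scalar A).comp (Coh.toGlobal (X ↘ Spec (CommRingCat.of k)))
  haveI : Nontrivial (End A) := ⟨⟨𝟙 A, 0, fun h => hne ((IsZero.iff_id_eq_zero A).2 h)⟩⟩
  haveI : Finite (End A) := inferInstanceAs (Finite (A ⟶ A))
  haveI := Fintype.ofFinite k
  haveI := Fintype.ofFinite (End A)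
  refine ⟨(RingEquiv.ofBijective φ ((Fintype.bijective_iff_injective_and_card φ).2 ⟨φ.injective, ?_⟩)).symm⟩
  rw [← Nat.card_eq_fintype_card, ← Nat.card_eq_fintype_card]
  exact hcard.symm

/-- A line bundle has scalar endomorphisms. -/
theorem nonempty_end_line [Finite k] (hO : Module.finrank k (Coh.HH X (Coh.structureModule X) 0) = 1)
    (hdim : topologicalKrullDim X = 1) {L : X.Modules} (hL : PicF.IsInvertible L) :
    Nonempty (End L ≃+* k) := by
  haveI := CurveCohLib.isNoetherian_of_proper (k := k) (X := X)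
  haveI := isLocallyNoetherian' k (X := X)
  have hL1 := InvEnd.isFinLocFreeOfRank_one hL
  have hLf := isFinLocFree_of_rank hL1
  obtain ⟨hfin, hcard⟩ := card_hom k hLf hLf
  haveI := hfin
  refine nonempty_end_equiv k (CurveEnd.not_isZero L 1 one_pos hL1) (hcard.trans ?_)
  have hD := isFinLocFree_dual hLf
  have hW := KFlatLib.isFinLocFree_tensor hD hLf
  obtain ⟨hr, hd⟩ := dg_tensor k hdim hD hLf
  rw [rk_dual hLf, rk_eq hL1] at hr hd
  rw [dg_dual k hdim hLf] at hd
  norm_num at hd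
  have hW1 : FlatMod.IsFinLocFreeOfRank 1 ((DCoh.tensorBi.obj (RefHull.dual L)).obj L) :=
    (show rk ((DCoh.tensorBi.obj (RefHull.dual L)).obj L) = 1 by rw [hr]) ▸ isFinLocFreeOfRank_rk hW
  have hWi := isInvertible_of_rank_one hW1
  let s := homEquivHH _ (homEquivSections k L hLf (𝟙 L)) - homEquivHH _ (homEquivSections k L hLf 0)
  have hs : s ≠ 0 := fun h => CurveEnd.not_isZero L 1 one_pos hL1 ((IsZero.iff_id_eq_zero L).2
    ((homEquivSections k L hLf).injective ((homEquivHH _).injective (sub_eq_zero.1 h))))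
  haveI := (CurveDeg.deg_le_and_isIso k hdim.le CurveDeg.isInvertible_structureModule hWi s hs).2
    (by rw [CurveDeg.deg_structureModule, deg_eq_dg k hW1, hd])
  rw [← (CurveCohLib.hhEquiv (k := k) (asIso s) 0).finrank_eq, hO, pow_one]

/-- Counts for a non-split self-extension of a line bundle. -/
theorem selfExt_count [Fintype k] (hO : Module.finrank k (Coh.HH X (Coh.structureModule X) 0) = 1)
    (hdim : topologicalKrullDim X = 1) {A : X.Modules} (hA : PicF.IsInvertible A)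
    {T : ShortComplex X.Modules} (hT : T.ShortExact) (e₁ : T.X₁ ≅ A) (e₃ : T.X₃ ≅ A)
    (hns : ¬ IsSplitEpi T.g) :
    Nat.card (A ⟶ T.X₂) = Fintype.card k ∧ Nat.card (T.X₂ ⟶ A) = Fintype.card k ∧
      Nat.card (Aut T.X₂) = (Fintype.card k - 1) * Fintype.card k ∧
      ∀ (f : A ⟶ T.X₂) (g : T.X₂ ⟶ A), f ≫ g = 0 := by
  obtain ⟨e⟩ := nonempty_end_line k hO hdim hA
  let φ : k →+* End A :=
    (CurveEnd.scalar A).comp (Coh.toGlobal (X ↘ Spec (CommRingCat.of k)))
  haveI : Nontrivial (End A) := e.toEquiv.nontrivial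
  haveI : Fintype (End A) := Fintype.ofEquiv k e.symm.toEquiv
  let e' : End A ≃+* k := (RingEquiv.ofBijective φ ((Fintype.bijective_iff_injective_and_card φ).2
    ⟨φ.injective, (Fintype.card_congr e.toEquiv).symm⟩)).symm
  have hc : Nat.card (A ⟶ A) = Fintype.card k :=
    (Nat.card_congr (e.toEquiv : (A ⟶ A) ≃ k)).trans Nat.card_eq_fintype_card
  obtain ⟨hl, hr, hz⟩ := selfExt_maps hT e₁ e₃ e' hns
  refine ⟨(Nat.card_congr (Equiv.ofBijective _ hl).symm).trans hc,
    (Nat.card_congr (Equiv.ofBijective _ hr).symm).trans hc,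
    selfExt_card_aut hT e₁ e₃ e' hns
      ((CurveEnd.scalar T.X₂).comp (Coh.toGlobal (X ↘ Spec (CommRingCat.of k)))) fun a => ?_, hz⟩
  show e₁.inv ≫ T.f ≫ CurveEnd.smulMod T.X₂ _ = CurveEnd.smulMod A _ ≫ e₁.inv ≫ T.f
  apply Scheme.Modules.hom_ext
  intro W
  ext x
  show (CurveEnd.smulMod T.X₂ _).app W (T.f.app W (e₁.inv.app W x)) =
    T.f.app W (e₁.inv.app W ((CurveEnd.smulMod A _).app W x))
  rw [CurveEnd.smulMod_app, CurveEnd.smulMod_app, Scheme.Modules.Hom.app_smul,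
    Scheme.Modules.Hom.app_smul]

end Curve

end Groth.Agent.VBCurvesLib
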