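import Groth.Agent.VBCurvesLib.ClopenPart
import Groth.Agent.HilbPoly.Sub
import Groth.Agent.StabH89.Basic
import Groth.Agent.Lib.CurveTensor

/-!
Semistability on a possibly disconnected curve, component by component.
-/

set_option linter.style.haveILetI false
set_option linter.unusedSectionVars false
set_option backward.isDefEq.respectTransparency false
set_option backward.isDefEq.respectTransparency.types false
set_option synthInstance.maxHeartbeats 100000
set_option maxHeartbeats 1000000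

universe u

open CategoryTheory CategoryTheory.Limits AlgebraicGeometry TopologicalSpace Opposite Polynomial StabCat
open Groth.Agent.HilbPoly

namespace Groth.Agent.VBCurvesLib.Clopen

variable {Y : Scheme.{u}} {k : Type u} [Field k] [Y.Over (Spec (CommRingCat.of k))]
  [IsProper (Y ↘ Spec (CommRingCat.of k))] {L : Y.Modules} (hL : CohB1.IsAmple L)
  (hdim : topologicalKrullDim Y ≤ 1)

/-- Induction over clopens from the connected ones. -/
theorem clopen_induction [IsNoetherian Y] (P : Y.Opens → Prop) (h0 : P ⊥)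
    (h1 : ∀ U : Y.Opens, IsClopen (U : Set Y) → _root_.IsConnected (U : Set Y) → P U)
    (h2 : ∀ V U₁ U₂ : Y.Opens, IsClopen (V : Set Y) → IsClopen (U₁ : Set Y) → IsClopen (U₂ : Set Y) →
      U₁ ≤ V → (U₂ : Set Y) = (V : Set Y) \ U₁ → P U₁ → P U₂ → P V) :
    ∀ V : Y.Opens, IsClopen (V : Set Y) → P V := by
  suffices h : ∀ (Z : Closeds Y) (hZ : IsOpen (Z : Set Y)), P ⟨Z, hZ⟩ from
    fun V hV => h ⟨(V : Set Y), hV.1⟩ V.2
  intro Z
  induction Z using WellFoundedLT.induction with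
  | _ Z ih =>
    intro hZ
    rcases Set.eq_empty_or_nonempty (Z : Set Y) with he | hne
    · exact (show (⟨Z, hZ⟩ : Y.Opens) = ⊥ from Opens.ext he) ▸ h0
    by_cases hc : _root_.IsPreconnected (Z : Set Y)
    · exact h1 _ ⟨Z.2, hZ⟩ ⟨hne, hc⟩
    rw [isPreconnected_iff_subset_of_disjoint_closed] at hc
    push Not at hc
    obtain ⟨u, v, hu, hv, hs, huv, hnu, hnv⟩ := hc
    have hd : ∀ x, x ∈ (Z : Set Y) → x ∈ u → x ∈ v → False := fun x h h' h'' => by
      have : x ∈ (Z : Set Y) ∩ (u ∩ v) := ⟨h, h', h''⟩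
      rw [huv] at this
      exact this
    have e₁ : (Z : Set Y) \ v = (Z : Set Y) ∩ u := by
      ext x
      exact ⟨fun h => ⟨h.1, (hs h.1).resolve_right h.2⟩, fun h => ⟨h.1, hd x h.1 h.2⟩⟩
    have e₂ : (Z : Set Y) \ u = (Z : Set Y) ∩ v := by
      ext x
      exact ⟨fun h => ⟨h.1, (hs h.1).resolve_left h.2⟩, fun h => ⟨h.1, fun h' => hd x h.1 h' h.2⟩⟩
    have o₁ : IsOpen ((Z : Set Y) ∩ u) := e₁ ▸ hZ.sdiff hv
    have o₂ : IsOpen ((Z : Set Y) ∩ v) := e₂ ▸ hZ.sdiff hu
    have d : (Z : Set Y) ∩ v = (Z : Set Y) \ ((Z : Set Y) ∩ u) := by rw [Set.sdiff_self_inter, e₂]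
    refine h2 _ ⟨_, o₁⟩ ⟨_, o₂⟩ ⟨Z.2, hZ⟩ ⟨Z.2.inter hu, o₁⟩ ⟨Z.2.inter hv, o₂⟩ Set.inter_subset_left d
      (ih ⟨_, Z.2.inter hu⟩ ?_ o₁) (ih ⟨_, Z.2.inter hv⟩ ?_ o₂)
    · exact lt_of_le_of_ne Set.inter_subset_left fun h =>
        hnu fun x hx => ((congrArg SetLike.coe h).ge hx : x ∈ (Z : Set Y) ∩ u).2
    · exact lt_of_le_of_ne Set.inter_subset_left fun h =>
        hnv fun x hx => ((congrArg SetLike.coe h).ge hx : x ∈ (Z : Set Y) ∩ v).2

include hdim in
theorem dim_support_le (F : Y.Modules) :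
    topologicalKrullDim ↥(CohB1.support F) ≤ ((1 : ℕ) : WithBot ℕ∞) :=
  (Topology.IsInducing.subtypeVal.topologicalKrullDim_le).trans hdim

include hL hdim in
theorem isHilbPoly_hp' {F : Y.Modules} (hF : Coh.IsCoh F) : ShStab.IsHilbPoly k Y L F (hp k L F) :=
  isHilbPoly_hp (k := k) hL hF (dim_support_le hdim F)

include hL hdim in
theorem hp_iso {F G : Y.Modules} (e : F ≅ G) (hF : Coh.IsCoh F) (hG : Coh.IsCoh G) :
    hp k L F = hp k L G :=
  isHilbPoly_unique (k := k) (hilb_iso e (isHilbPoly_hp' (k := k) hL hdim hF)) (isHilbPoly_hp' (k := k) hL hdim hG)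

include hL hdim in
theorem hp_parts {V U₁ U₂ : Y.Opens} (hV : IsClopen (V : Set Y)) (h₁ : IsClopen (U₁ : Set Y))
    (h₂ : IsClopen (U₂ : Set Y)) (hle : U₁ ≤ V) (hU₂ : (U₂ : Set Y) = (V : Set Y) \ U₁)
    {M : Y.Modules} (hM : Coh.IsCoh M) :
    hp k L ((partF V).obj M) = hp k L ((partF U₂).obj M) + hp k L ((partF U₁).obj M) := by
  haveI := CurveCohLib.isNoetherian_of_proper (k := k) (X := Y)
  obtain ⟨S, hS, ⟨e₁⟩, ⟨e₂⟩, ⟨e₃⟩⟩ := exists_shortExact_parts hle h₁ M hU₂
  have c₁ := isCoh_part U₂ h₂ hM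
  have c₂ := isCoh_part V hV hM
  have c₃ := isCoh_part U₁ h₁ hM
  exact isHilbPoly_unique (isHilbPoly_hp' hL hdim c₂) (hilb_iso e₂
    (hilb_add hL.1 hS (isCoh_of_iso e₁.symm c₁) (isCoh_of_iso e₂.symm c₂) (isCoh_of_iso e₃.symm c₃)
      (hilb_iso e₁.symm (isHilbPoly_hp' hL hdim c₁)) (hilb_iso e₃.symm (isHilbPoly_hp' hL hdim c₃))))

include hL hdim in
theorem hp_part_top {M : Y.Modules} (hM : Coh.IsCoh M) : hp k L ((partF ⊤).obj M) = hp k L M := by
  obtain ⟨e⟩ := nonempty_part_top M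
  exact hp_iso hL hdim e (isCoh_of_iso e.symm hM) hM

include hL hdim in
/-- The Hilbert polynomial is linear: values at `0` and the multiplicity. -/
theorem hp_values {F : Y.Modules} (hF : Coh.IsCoh F) :
    (Curv2.euler k Y F : ℚ) = (hp k L F).eval 0 ∧
      ((Curv2.euler k Y (CohB1.tensorMod F L) - Curv2.euler k Y F : ℤ) : ℚ) = alpha 1 (hp k L F) ∧
      hp k L F = Polynomial.C ((hp k L F).eval 0) + Polynomial.C (alpha 1 (hp k L F)) * Polynomial.X := by
  haveI := CurveCohLib.isNoetherian_of_proper (k := k) (X := Y)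
  set P := hp k L F
  have hP := isHilbPoly_hp' (k := k) hL hdim hF
  have hdeg := (hilb_props hL.1 hF (dim_support_le hdim F) hP).1
  have hlin : P = Polynomial.C (P.coeff 1) * Polynomial.X + Polynomial.C (P.coeff 0) :=
    Polynomial.eq_X_add_C_of_natDegree_le_one hdeg
  have ha : alpha 1 P = P.coeff 1 := by simp [alpha]
  have h0 : (Curv2.euler k Y F : ℚ) = P.eval 0 := by
    have h := hP 0
    rw [Nat.cast_zero] at h
    rw [← h]
    exact congrArg _ ((additive_euler k).iso _ _ ⟨KFlatLib.tensorUnitIso F⟩).symm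
  have h1 : (Curv2.euler k Y (CohB1.tensorMod F L) : ℚ) = P.eval 1 := by
    have h := hP 1
    rw [Nat.cast_one] at h
    rw [← h]
    exact congrArg _ ((additive_euler k).iso _ _
      ⟨(DCoh.tensorBi.obj F).mapIso (CurveTensor.structureTensorIso L)⟩).symm
  refine ⟨h0, ?_, ?_⟩
  · push_cast
    rw [h1, h0, ha]
    conv_lhs => rw [hlin]
    simp
  · conv_lhs => rw [hlin]
    rw [ha, Polynomial.coeff_zero_eq_eval_zero, add_comm]

include hL hdim in
theorem redEq_iff {F E : Y.Modules} (hF : Coh.IsCoh F) (hE : Coh.IsCoh E) :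
    RedEq 1 (hp k L F) (hp k L E) ↔
      Curv2.euler k Y F * (Curv2.euler k Y (CohB1.tensorMod E L) - Curv2.euler k Y E) =
        Curv2.euler k Y E * (Curv2.euler k Y (CohB1.tensorMod F L) - Curv2.euler k Y F) := by
  obtain ⟨f0, fa, fl⟩ := hp_values (k := k) hL hdim hF
  obtain ⟨e0, ea, el⟩ := hp_values (k := k) hL hdim hE
  constructor
  · intro h
    have h' := congrArg (Polynomial.eval 0) h
    simp only [Polynomial.eval_smul, smul_eq_mul, ← f0, ← e0, ← fa, ← ea] at h'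
    rw [mul_comm (Curv2.euler k Y F), mul_comm (Curv2.euler k Y E)]
    exact_mod_cast h'
  · intro h
    have h' := congrArg (Int.cast : ℤ → ℚ) h
    rw [Int.cast_mul, Int.cast_mul, f0, e0, fa, ea] at h'
    show alpha 1 (hp k L E) • hp k L F = alpha 1 (hp k L F) • hp k L E
    conv_lhs => rw [fl]
    conv_rhs => rw [el]
    simp only [smul_add, Polynomial.smul_C, ← smul_mul_assoc, smul_eq_mul]
    rw [mul_comm (alpha 1 (hp k L E)) ((hp k L F).eval 0), h', mul_comm ((hp k L E).eval 0),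
      mul_comm (alpha 1 (hp k L E)) (alpha 1 (hp k L F))]

include hL hdim in
theorem hp_isZero {F : Y.Modules} (hF : Coh.IsCoh F) (h : IsZero F) : hp k L F = 0 :=
  isHilbPoly_unique (isHilbPoly_hp' hL hdim hF) (hilb_isZero h)

include hL hdim in
/-- On a clopen part, semistability compares with the whole. -/
theorem part_of_semistable {E : Y.Modules} (hE : ShStab.IsSemistable k Y L E 1) {U : Y.Opens}
    (hU : IsClopen (U : Set Y)) (h0 : ¬ IsZero ((partF U).obj E)) :
    ShStab.IsSemistable k Y L ((partF U).obj E) 1 ∧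
      RedEq 1 (hp k L ((partF U).obj E)) (hp k L E) := by
  haveI := CurveCohLib.isNoetherian_of_proper (k := k) (X := Y)
  obtain ⟨hEc, hE0, hEp, hEss⟩ := hE
  set E₀ := (partF ⊤).obj E
  have key : ∀ W : Y.Opens, IsClopen (W : Set Y) → ∃ i : (partF W).obj E ⟶ E, Mono i := by
    intro W hW
    obtain ⟨e⟩ := nonempty_part_top E
    let W' : Y.Opens := ⟨(W : Set Y)ᶜ, hW.1.isOpen_compl⟩
    obtain ⟨S, hS, ⟨e₁⟩, ⟨e₂⟩, -⟩ := exists_shortExact_parts (V := ⊤) (U₁ := W') le_top hW.compl E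
      (U₂ := W) (by simp [W'])
    haveI := hS.mono_f
    exact ⟨e₁.inv ≫ S.f ≫ e₂.hom ≫ e.hom, inferInstance⟩
  have cle : ∀ W : Y.Opens, IsClopen (W : Set Y) →
      RedLE 1 (hp k L ((partF W).obj E)) (hp k L E) := by
    intro W hW
    obtain ⟨i, hi⟩ := key W hW
    haveI := hi
    have hc := isCoh_part W hW hEc
    by_cases hz : IsZero ((partF W).obj E)
    · refine ⟨0, fun m _ => ?_⟩
      rw [hp_isZero hL hdim hc hz]
      simp [alpha]
    by_cases hiso : IsIso i
    · haveI := hiso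
      rw [hp_iso hL hdim (asIso i) hc hEc]
      exact ⟨0, fun m _ => le_rfl⟩
    · exact hEss _ i hi hc hz hiso _ _ (isHilbPoly_hp' hL hdim hc) (isHilbPoly_hp' hL hdim hEc)
  let U' : Y.Opens := ⟨(U : Set Y)ᶜ, hU.1.isOpen_compl⟩
  have hsum := hp_parts (k := k) hL hdim (V := ⊤) isClopen_univ hU hU.compl le_top
    (U₂ := U') (by simp [U']; exact Set.compl_eq_univ_sdiff _) hEc
  rw [hp_part_top hL hdim hEc] at hsum
  have hred : RedEq 1 (hp k L ((partF U).obj E)) (hp k L E) := by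
    obtain ⟨N, hN⟩ := cle U hU
    obtain ⟨N', hN'⟩ := cle U' hU.compl
    refine poly_ext (N + N') fun m hm => le_antisymm (hN m (by omega)) ?_
    have h' := hN' m (by omega)
    have ha : alpha 1 (hp k L E) = alpha 1 (hp k L ((partF U').obj E)) + alpha 1 (hp k L ((partF U).obj E)) := by
      conv_lhs => rw [hsum]
      simp [alpha]
    have he : (hp k L E).eval (m : ℚ) =
        (hp k L ((partF U').obj E)).eval (m : ℚ) + (hp k L ((partF U).obj E)).eval (m : ℚ) := by
      conv_lhs => rw [hsum, Polynomial.eval_add]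
    simp only [Polynomial.eval_smul, smul_eq_mul] at h' ⊢
    rw [ha, he] at h' ⊢
    linarith
  obtain ⟨i, hi⟩ := key U hU
  haveI := hi
  have hc := isCoh_part U hU hEc
  refine ⟨⟨hc, h0, fun F ι hι hF hF0 => hEp F (ι ≫ i) (mono_comp _ _) hF hF0, ?_⟩, hred⟩
  intro F ι hι hF hF0 hiso pF pU hpF hpU
  haveI := hι
  have hiso' : ¬ IsIso (ι ≫ i) := fun h => hiso (by
    haveI := h
    haveI : IsSplitEpi i := IsSplitEpi.mk' ⟨inv (ι ≫ i) ≫ ι, by simp⟩
    haveI : IsIso i := isIso_of_mono_of_isSplitEpi i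
    exact IsIso.of_isIso_comp_right ι i)
  obtain rfl := isHilbPoly_unique hpU (isHilbPoly_hp' hL hdim hc)
  obtain ⟨N, hN⟩ := hEss F (ι ≫ i) (mono_comp _ _) hF hF0 hiso' pF _ hpF (isHilbPoly_hp' hL hdim hEc)
  refine ⟨N, fun m hm => ?_⟩
  have h := hN m hm
  have h' := congrArg (Polynomial.eval (m : ℚ)) hred
  simp only [Polynomial.eval_smul, smul_eq_mul] at h h' ⊢
  have hαE := alpha_pos hL hEc (hEp E (𝟙 E) inferInstance hEc hE0) (isHilbPoly_hp' (k := k) hL hdim hEc)
  have hαU := alpha_nonneg hL hc (dim_support_le hdim _) (isHilbPoly_hp' (k := k) hL hdim hc)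
  refine le_of_mul_le_mul_left ?_ hαE
  have h3 := mul_le_mul_of_nonneg_left h hαU
  have h4 := congrArg (alpha 1 pF * ·) h'
  linarith

include hL hdim in
/-- Semistability from the connected components. -/
theorem semistable_of_parts {E : Y.Modules} (hEc : Coh.IsCoh E) (hE0 : ¬ IsZero E)
    (h : ∀ U : Y.Opens, IsClopen (U : Set Y) → _root_.IsConnected (U : Set Y) →
      ¬ IsZero ((partF U).obj E) → ShStab.IsSemistable k Y L ((partF U).obj E) 1 ∧
        RedEq 1 (hp k L ((partF U).obj E)) (hp k L E)) :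
    ShStab.IsSemistable k Y L E 1 := by
  haveI := CurveCohLib.isNoetherian_of_proper (k := k) (X := Y)
  have hdE : topologicalKrullDim ↥(CohB1.support E) = ((1 : ℕ) : WithBot ℕ∞) := by
    refine le_antisymm (dim_support_le hdim E) (not_lt.1 fun hlt => ?_)
    have hlow : topologicalKrullDim ↥(CohB1.support E) ≤ ((0 : ℕ) : WithBot ℕ∞) :=
      HilbPoly.le_of_lt_succ hlt
    have hall : ∀ V : Y.Opens, IsClopen (V : Set Y) → IsZero ((partF V).obj E) := by
      refine clopen_induction _ (isZero_part_bot E) (fun U hU hconn => ?_) ?_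
      · by_contra hz
        obtain ⟨⟨hc, -, hp', -⟩, -⟩ := h U hU hconn hz
        obtain ⟨W', hW'⟩ : ∃ W' : Y.Opens, (W' : Set Y) = (U : Set Y)ᶜ :=
          ⟨⟨_, hU.1.isOpen_compl⟩, rfl⟩
        obtain ⟨S, hS, -, ⟨e₂⟩, ⟨e₃⟩⟩ := exists_shortExact_parts (V := ⊤) le_top hU E (U₂ := W')
          (by rw [hW']; exact Set.compl_eq_univ_sdiff _)
        haveI := hS.epi_g
        obtain ⟨e⟩ := nonempty_part_top E
        have hd := dim_epi hEc hc (e.inv ≫ e₂.inv ≫ S.g ≫ e₃.hom) hlow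
        rw [dim_of_isPure hp' hc hz] at hd
        exact absurd hd (by norm_num)
      · intro V U₁ U₂ hV h₁ h₂ hle hU₂ hz₁ hz₂
        obtain ⟨S, hS, ⟨e₁⟩, ⟨e₂⟩, ⟨e₃⟩⟩ := exists_shortExact_parts hle h₁ E hU₂
        exact (hS.exact.isZero_X₂ ((hz₂.of_iso e₁).eq_of_src _ _) ((hz₁.of_iso e₃).eq_of_tgt _ _)).of_iso
          e₂.symm
    obtain ⟨e⟩ := nonempty_part_top E
    exact hE0 ((hall ⊤ isClopen_univ).of_iso e.symm)
  refine (StabH89.isSemistable_iff_isSS hL hEc hE0 hdE).2 ?_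
  intro F ι hι hF hF0 hiso pF pE hpF hpE
  haveI := hι
  obtain rfl := isHilbPoly_unique hpF (isHilbPoly_hp' hL hdim hF)
  obtain rfl := isHilbPoly_unique hpE (isHilbPoly_hp' hL hdim hEc)
  have hall : ∀ V : Y.Opens, IsClopen (V : Set Y) →
      RedLE 1 (hp k L ((partF V).obj F)) (hp k L E) := by
    refine clopen_induction _ ⟨0, fun m _ => ?_⟩ (fun U hU hconn => ?_) ?_
    · rw [hp_isZero hL hdim (isCoh_part ⊥ (by simp [isClopen_empty]) hF) (isZero_part_bot F)]
      simp [alpha]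
    · have hcF := isCoh_part U hU hF
      haveI := mono_part_map U ι
      by_cases hz : IsZero ((partF U).obj F)
      · refine ⟨0, fun m _ => ?_⟩
        rw [hp_isZero hL hdim hcF hz]
        simp [alpha]
      have hzE : ¬ IsZero ((partF U).obj E) := fun hz' => hz (IsZero.of_mono ((partF U).map ι) hz')
      obtain ⟨⟨hc, -, hp', hss⟩, hred⟩ := h U hU hconn hzE
      by_cases hi : IsIso ((partF U).map ι)
      · haveI := hi
        rw [hp_iso hL hdim (asIso ((partF U).map ι)) hcF hc]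
        exact ⟨0, fun m _ => le_of_eq (congrArg (Polynomial.eval (m : ℚ)) hred)⟩
      obtain ⟨N, hN⟩ := hss _ ((partF U).map ι) inferInstance hcF hz hi _ _
        (isHilbPoly_hp' hL hdim hcF) (isHilbPoly_hp' hL hdim hc)
      refine ⟨N, fun m hm => ?_⟩
      have h1 := hN m hm
      have h2 := congrArg (Polynomial.eval (m : ℚ)) hred
      simp only [Polynomial.eval_smul, smul_eq_mul] at h1 h2 ⊢
      have hαU := alpha_pos hL hc (dim_of_isPure hp' hc hzE) (isHilbPoly_hp' (k := k) hL hdim hc)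
      have hαE := alpha_nonneg hL hEc (dim_support_le hdim _) (isHilbPoly_hp' (k := k) hL hdim hEc)
      refine le_of_mul_le_mul_left ?_ hαU
      have h3 := mul_le_mul_of_nonneg_left h1 hαE
      have h4 := congrArg (alpha 1 (hp k L ((partF U).obj F)) * ·) h2
      linarith
    · intro V U₁ U₂ hV h₁ h₂ hle hU₂ hP₁ hP₂
      obtain ⟨N₁, hN₁⟩ := hP₁
      obtain ⟨N₂, hN₂⟩ := hP₂
      refine ⟨N₁ + N₂, fun m hm => ?_⟩
      have a := hN₁ m (by omega)
      have b := hN₂ m (by omega)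
      rw [hp_parts (k := k) hL hdim hV h₁ h₂ hle hU₂ hF]
      simp only [Polynomial.eval_smul, smul_eq_mul, Polynomial.eval_add, HilbPoly.alpha_add] at a b ⊢
      linarith
  have := hall ⊤ isClopen_univ
  rwa [hp_part_top (k := k) hL hdim hF] at this

end Groth.Agent.VBCurvesLib.Clopen
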