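import Groth.Agent.VBCurvesLib.SemistableParts
import Groth.Agent.SurfInt.Push
import Groth.Agent.CurveCohLib.SmoothCurve
import Groth.Agent.ConsPropLib.FibreLocFree
import Groth.Agent.Pn90.Charts
import Groth.Agent.KFlatLib.Scheme.ExtZero
import Groth.Agent.Lib.CurveSSVanish
import Groth.Agent.KFlatLib.Perfect.Tensor

/-!
A connected component of a smooth proper curve as a curve, and Euler characteristics on it.
-/

set_option linter.style.haveILetI false
set_option linter.unusedSectionVars false
set_option backward.isDefEq.respectTransparency false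
set_option backward.isDefEq.respectTransparency.types false
set_option synthInstance.maxHeartbeats 100000
set_option maxHeartbeats 1000000

universe u

open CategoryTheory CategoryTheory.Limits AlgebraicGeometry TopologicalSpace Opposite

namespace Groth.Agent.VBCurvesLib.Clopen

variable (k : Type u) [Field k] {Y : Scheme.{u}} [Y.Over (Spec (CommRingCat.of k))]
  [IsProper (Y ↘ Spec (CommRingCat.of k))] {U : Y.Opens} (hU : IsClopen (U : Set Y))

/-- A clopen as a scheme over the base. -/
@[reducible] noncomputable def overι (U : Y.Opens) : (U : Scheme.{u}).Over (Spec (CommRingCat.of k)) :=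
  ⟨U.ι ≫ (Y ↘ Spec (CommRingCat.of k))⟩

include hU in
omit [Y.Over (Spec (CommRingCat.of k))] [IsProper (Y ↘ Spec (CommRingCat.of k))] in
theorem isClosedImmersion_ι : IsClosedImmersion U.ι :=
  IsClosedImmersion.of_isPreimmersion U.ι (by
    rw [Scheme.Opens.range_ι]
    exact hU.1)

include hU in
theorem isProper_part : letI := overι k U; IsProper ((U : Scheme.{u}) ↘ Spec (CommRingCat.of k)) := by
  haveI := isClosedImmersion_ι hU
  show IsProper (U.ι ≫ (Y ↘ Spec (CommRingCat.of k)))
  infer_instance

theorem smooth_part [Smooth (Y ↘ Spec (CommRingCat.of k))] (U : Y.Opens) :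
    letI := overι k U; Smooth ((U : Scheme.{u}) ↘ Spec (CommRingCat.of k)) := by
  show Smooth (U.ι ≫ (Y ↘ Spec (CommRingCat.of k)))
  infer_instance

include hU in
theorem isIntegral_part [Smooth (Y ↘ Spec (CommRingCat.of k))] (hc : _root_.IsConnected (U : Set Y)) :
    IsIntegral (U : Scheme.{u}) := by
  letI := overι k U
  haveI := isProper_part k hU
  haveI := smooth_part k U
  haveI : ConnectedSpace (U : Scheme.{u}) := isConnected_iff_connectedSpace.1 hc
  haveI : CompactSpace (U : Scheme.{u}) :=
    QuasiCompact.compactSpace_of_compactSpace ((U : Scheme.{u}) ↘ Spec (CommRingCat.of k))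
  exact CurveCohLib.isIntegral_of_smooth_connected ((U : Scheme.{u}) ↘ Spec (CommRingCat.of k))

include k hU in
theorem dim_part [Smooth (Y ↘ Spec (CommRingCat.of k))] (hdim : topologicalKrullDim Y ≤ 1)
    (hpure : ∀ y : Y, ¬ IsOpen ({y} : Set Y)) (hc : _root_.IsConnected (U : Set Y)) :
    topologicalKrullDim (U : Scheme.{u}) = 1 := by
  haveI := isIntegral_part k hU hc
  refine le_antisymm ((U.ι.isOpenEmbedding.isEmbedding.isInducing.topologicalKrullDim_le).trans hdim)
    (not_lt.1 fun hlt => ?_)
  set η := genericPoint (U : Scheme.{u})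
  obtain ⟨q, hq⟩ : ∃ q : (U : Scheme.{u}), q ≠ η := by
    by_contra h
    push Not at h
    apply hpure (U.ι η)
    have e : ({U.ι η} : Set Y) = Set.range U.ι := by
      ext y
      exact ⟨fun hy => ⟨η, hy.symm⟩, fun ⟨p, hp⟩ => by rw [← hp, h p]; rfl⟩
    rw [e]
    exact U.ι.isOpenEmbedding.isOpen_range
  let a : IrreducibleCloseds (U : Scheme.{u}) :=
    ⟨closure {q}, isIrreducible_singleton.closure, isClosed_closure⟩
  let b : IrreducibleCloseds (U : Scheme.{u}) :=
    ⟨Set.univ, IrreducibleSpace.isIrreducible_univ _, isClosed_univ⟩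
  have hab : a < b := lt_of_le_of_ne (fun _ _ => Set.mem_univ _) fun h => by
    have hη : η ∈ closure ({q} : Set (U : Scheme.{u})) := by
      have : (a : Set (U : Scheme.{u})) = (b : Set (U : Scheme.{u})) := congrArg SetLike.coe h
      exact this.ge (Set.mem_univ η)
    exact hq ((specializes_iff_mem_closure.2 hη).antisymm (genericPoint_specializes q)).eq
  exact not_lt.2 (Order.one_le_krullDim_iff.2 ⟨a, b, hab⟩) hlt

include hU in
theorem euler_part {M : Y.Modules} (hM : Coh.IsQCoh M) :
    letI := overι k U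
    Curv2.euler k Y ((partF U).obj M) = Curv2.euler k (U : Scheme.{u}) (M.restrict U.ι) := by
  letI := overι k U
  haveI := isClosedImmersion_ι hU
  exact SurfInt.euler_push k U.ι rfl (QCoh.isQCoh_restrict U.ι hM)

include hU in
theorem euler_part_tensor {M N : Y.Modules} (hM : FlatMod.IsFinLocFree M) (hN : Coh.IsQCoh N) :
    letI := overι k U
    Curv2.euler k Y (CohB1.tensorMod ((partF U).obj M) N) =
      Curv2.euler k (U : Scheme.{u}) (CohB1.tensorMod (M.restrict U.ι) (N.restrict U.ι)) := by
  letI := overι k U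
  haveI := isClosedImmersion_ι hU
  haveI := KFlatLib.isIso_projMod_of_isClosedImmersion U.ι (M.restrict U.ι) N
  refine (Euler.euler_congr k (asIso (KFlatLib.projMod U.ι (M.restrict U.ι) N) ≪≫
    (Scheme.Modules.pushforward U.ι).mapIso ((DCoh.tensorBi.obj (M.restrict U.ι)).mapIso
      ((Scheme.Modules.restrictFunctorIsoPullback U.ι).app N).symm))).trans ?_
  exact SurfInt.euler_push k U.ι rfl (KFlatLib.isQCoh_tensor
    (QCoh.isQCoh_of_isFinLocFree (ConsPropLib.isFinLocFree_restrict U.ι hM)) (QCoh.isQCoh_restrict U.ι hN))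

include hU in
/-- The three numbers of a bundle on a component. -/
theorem euler_component [Smooth (Y ↘ Spec (CommRingCat.of k))] (hdim : topologicalKrullDim Y ≤ 1)
    (hpure : ∀ y : Y, ¬ IsOpen ({y} : Set Y)) (hc : _root_.IsConnected (U : Set Y))
    {L : Y.Modules} (hL : PicF.IsInvertible L) {E : Y.Modules} (hE : FlatMod.IsFinLocFree E) :
    letI := overι k U
    haveI := isIntegral_part k hU hc
    Curv2.euler k Y (CohB1.tensorMod ((partF U).obj E) L) - Curv2.euler k Y ((partF U).obj E) =
      (CurveBundle.rk (E.restrict U.ι) : ℤ) * (Curv2.euler k Y ((partF U).obj L) -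
        Curv2.euler k Y ((partF U).obj (Coh.structureModule Y))) := by
  letI := overι k U
  haveI := isIntegral_part k hU hc
  haveI := isProper_part k hU
  haveI := smooth_part k U
  haveI := CurveCohLib.isNoetherian_of_proper (k := k) (X := Y)
  have hU1 := dim_part k hU hdim hpure hc
  have hLq : Coh.IsQCoh L := (AmpleVan.isCoh_invertible hL).1
  have hEq := QCoh.isQCoh_of_isFinLocFree hE
  have hEf := ConsPropLib.isFinLocFree_restrict U.ι hE
  have hLr := Pn90.isInvertible_restrict' U.ι hL
  have hEc : Coh.IsCoh (E.restrict U.ι) := CurveStable.coh_of_free k hEf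
  have hL1 := InvEnd.isFinLocFreeOfRank_one hLr
  have h2 := CurveTensor.euler_tensor k hU1 hL1 hEc
  have h3 : Curv2.euler k (U : Scheme.{u}) (CohB1.tensorMod (E.restrict U.ι) (L.restrict U.ι)) =
      Curv2.euler k (U : Scheme.{u}) ((DCoh.tensorBi.obj (L.restrict U.ι)).obj (E.restrict U.ι)) :=
    Euler.euler_congr k (CurveTensor.commIso (E.restrict U.ι) (L.restrict U.ι))
  have h4 : Curv2.euler k Y ((partF U).obj (Coh.structureModule Y)) =
      Curv2.euler k (U : Scheme.{u}) (Coh.structureModule (U : Scheme.{u})) :=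
    (euler_part k hU QCoh.isQCoh_structureModule).trans
      (Euler.euler_congr k (Scheme.Modules.restrictUnitIso U.ι))
  rw [euler_part_tensor k hU hE hLq, euler_part k hU hEq, euler_part k hU hLq, h4, h3, h2]
  simp only [Curv2.deg, Nat.cast_one, one_mul]
  ring

include hU in
/-- The Euler characteristic of a tensor product on a component. -/
theorem euler_component_tensor [Smooth (Y ↘ Spec (CommRingCat.of k))] (hdim : topologicalKrullDim Y ≤ 1)
    (hpure : ∀ y : Y, ¬ IsOpen ({y} : Set Y)) (hc : _root_.IsConnected (U : Set Y))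
    {E F : Y.Modules} (hE : FlatMod.IsFinLocFree E) (hF : FlatMod.IsFinLocFree F) :
    letI := overι k U
    haveI := isIntegral_part k hU hc
    Curv2.euler k Y ((partF U).obj (CohB1.tensorMod E F)) =
      (CurveBundle.rk (F.restrict U.ι) : ℤ) * Curv2.euler k Y ((partF U).obj E) +
      (CurveBundle.rk (E.restrict U.ι) : ℤ) * Curv2.euler k Y ((partF U).obj F) -
      (CurveBundle.rk (F.restrict U.ι) : ℤ) * (CurveBundle.rk (E.restrict U.ι) : ℤ) *
        Curv2.euler k Y ((partF U).obj (Coh.structureModule Y)) ∧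
    CurveBundle.rk ((CohB1.tensorMod E F).restrict U.ι) =
      CurveBundle.rk (E.restrict U.ι) * CurveBundle.rk (F.restrict U.ι) := by
  letI := overι k U
  haveI := isIntegral_part k hU hc
  haveI := isProper_part k hU
  haveI := smooth_part k U
  have hU1 := dim_part k hU hdim hpure hc
  have hEq := QCoh.isQCoh_of_isFinLocFree hE
  have hFq := QCoh.isQCoh_of_isFinLocFree hF
  have hEr := CurveBundle.isFinLocFreeOfRank_rk (ConsPropLib.isFinLocFree_restrict U.ι hE)
  have hFf := ConsPropLib.isFinLocFree_restrict U.ι hF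
  have e : (CohB1.tensorMod E F).restrict U.ι ≅ CohB1.tensorMod (E.restrict U.ι) (F.restrict U.ι) :=
    ((KFlatLib.restrictTensorBiIso U.ι).app E).app F
  have h4 : Curv2.euler k Y ((partF U).obj (Coh.structureModule Y)) =
      Curv2.euler k (U : Scheme.{u}) (Coh.structureModule (U : Scheme.{u})) :=
    (euler_part k hU QCoh.isQCoh_structureModule).trans
      (Euler.euler_congr k (Scheme.Modules.restrictUnitIso U.ι))
  have hT : Coh.IsQCoh (CohB1.tensorMod E F) := KFlatLib.isQCoh_tensor hEq hFq
  have h3 : Curv2.euler k Y ((partF U).obj (CohB1.tensorMod E F)) =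
      Curv2.euler k (U : Scheme.{u}) ((DCoh.tensorBi.obj (E.restrict U.ι)).obj (F.restrict U.ι)) :=
    (euler_part k hU hT).trans (Euler.euler_congr k e)
  have h5 := CurveTensor.euler_tensor k hU1 hEr (CurveStable.coh_of_free k hFf)
  constructor
  · rw [h3, h5, euler_part k hU hEq, euler_part k hU hFq, h4]
    simp only [Curv2.deg]
    ring
  · have h6 : CurveBundle.rk ((DCoh.tensorBi.obj (E.restrict U.ι)).obj (F.restrict U.ι)) =
        CurveBundle.rk (E.restrict U.ι) * CurveBundle.rk (F.restrict U.ι) :=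
      @CurveDuality.rk_tensor _ _ _ _ (ConsPropLib.isFinLocFree_restrict U.ι hE) hFf
    have h7 : CurveBundle.rk ((CohB1.tensorMod E F).restrict U.ι) =
        CurveBundle.rk (CohB1.tensorMod (E.restrict U.ι) (F.restrict U.ι)) := CurveSlope.rk_congr e
    rw [h7]
    unfold CurveBundle.rk at h6 ⊢
    exact h6

/-- `χ(M ⊗ L) - χ(M)`. -/
noncomputable abbrev lead (L M : Y.Modules) : ℤ :=
  Curv2.euler k Y (CohB1.tensorMod M L) - Curv2.euler k Y M

section Additive

variable {L : Y.Modules} (hL : CohB1.IsAmple L) (hdim : topologicalKrullDim Y ≤ 1)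
  {M : Y.Modules} (hM : Coh.IsCoh M)

include hL hdim hM in
theorem euler_parts {V U₁ U₂ : Y.Opens} (hV : IsClopen (V : Set Y)) (h₁ : IsClopen (U₁ : Set Y))
    (h₂ : IsClopen (U₂ : Set Y)) (hle : U₁ ≤ V) (hU₂ : (U₂ : Set Y) = (V : Set Y) \ U₁) :
    Curv2.euler k Y ((partF V).obj M) =
        Curv2.euler k Y ((partF U₁).obj M) + Curv2.euler k Y ((partF U₂).obj M) ∧
      lead k L ((partF V).obj M) = lead k L ((partF U₁).obj M) + lead k L ((partF U₂).obj M) := by
  haveI := CurveCohLib.isNoetherian_of_proper (k := k) (X := Y)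
  obtain ⟨a, b, -⟩ := hp_values (k := k) hL hdim (isCoh_part V hV hM)
  obtain ⟨a₁, b₁, -⟩ := hp_values (k := k) hL hdim (isCoh_part U₁ h₁ hM)
  obtain ⟨a₂, b₂, -⟩ := hp_values (k := k) hL hdim (isCoh_part U₂ h₂ hM)
  rw [hp_parts (k := k) hL hdim hV h₁ h₂ hle hU₂ hM] at a b
  rw [Polynomial.eval_add, ← a₁, ← a₂] at a
  rw [HilbPoly.alpha_add, ← b₁, ← b₂] at b
  constructor
  · have : (Curv2.euler k Y ((partF V).obj M) : ℚ) =
        ((Curv2.euler k Y ((partF U₁).obj M) + Curv2.euler k Y ((partF U₂).obj M) : ℤ) : ℚ) := by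
      push_cast; rw [a]; ring
    exact_mod_cast this
  · have : ((lead k L ((partF V).obj M) : ℤ) : ℚ) =
        ((lead k L ((partF U₁).obj M) + lead k L ((partF U₂).obj M) : ℤ) : ℚ) := by
      rw [Int.cast_add]
      exact b.trans (add_comm _ _)
    exact_mod_cast this

include hL hdim hM in
theorem euler_part_bot : Curv2.euler k Y ((partF ⊥).obj M) = 0 ∧ lead k L ((partF ⊥).obj M) = 0 := by
  have h := euler_parts k hL hdim hM (V := ⊥) (U₁ := ⊥) (U₂ := ⊥) (by simp [isClopen_empty])
    (by simp [isClopen_empty]) (by simp [isClopen_empty]) le_rfl (by simp)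
  omega

include hL hdim hM in
theorem euler_part_top : Curv2.euler k Y ((partF ⊤).obj M) = Curv2.euler k Y M ∧
    lead k L ((partF ⊤).obj M) = lead k L M := by
  haveI := CurveCohLib.isNoetherian_of_proper (k := k) (X := Y)
  obtain ⟨a, b, -⟩ := hp_values (k := k) hL hdim hM
  obtain ⟨a', b', -⟩ := hp_values (k := k) hL hdim (isCoh_part ⊤ isClopen_univ hM)
  rw [hp_part_top (k := k) hL hdim hM] at a' b'
  exact ⟨Int.cast_injective (a'.trans a.symm), Int.cast_injective (b'.trans b.symm)⟩

end Additive

include hU in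
/-- A bundle with nonzero stalks has a nonzero part and positive rank on each component. -/
theorem rk_pos [Smooth (Y ↘ Spec (CommRingCat.of k))] (hc : _root_.IsConnected (U : Set Y))
    {E : Y.Modules} (hE : FlatMod.IsFinLocFree E) (h0 : ∀ y : Y, ¬ Subsingleton (E.presheaf.stalk y)) :
    haveI := isIntegral_part k hU hc
    0 < CurveBundle.rk (E.restrict U.ι) ∧ ¬ IsZero ((partF U).obj E) := by
  haveI := isIntegral_part k hU hc
  have hne : ¬ Subsingleton ((E.restrict U.ι).presheaf.stalk (genericPoint (U : Scheme.{u}))) := fun h =>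
    h0 _ (@Equiv.subsingleton _ _
      ((Scheme.Modules.restrictStalkNatIso U.ι (genericPoint (U : Scheme.{u}))).app E).addCommGroupIsoToAddEquiv.symm.toEquiv h)
  have hf := ConsPropLib.isFinLocFree_restrict U.ι hE
  have hpos : 0 < CurveBundle.rk (E.restrict U.ι) := by
    haveI := not_subsingleton_iff_nontrivial.1 hne
    haveI := QCoh.free_stalk_of_isFinLocFree hf (genericPoint (U : Scheme.{u}))
    haveI := QCoh.finite_stalk_of_isFT (QCoh.isQCoh_of_isFinLocFree hf)
      (QCoh.isFT_of_isFP (QCoh.isFP_of_isFinLocFree hf)) (genericPoint (U : Scheme.{u}))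
    exact Module.finrank_pos
  refine ⟨hpos, fun hz => hne ?_⟩
  have hz' : IsZero (E.restrict U.ι) :=
    ((Scheme.Modules.restrictFunctor U.ι).map_isZero hz).of_iso
      ((asIso ((Scheme.Modules.restrictAdjunction U.ι).counit.app (E.restrict U.ι))).symm)
  exact ModuleCat.subsingleton_of_isZero
    ((DerSch.stalkFunctor (U : Scheme.{u}) (genericPoint (U : Scheme.{u}))).map_isZero hz')

end Groth.Agent.VBCurvesLib.Clopen
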