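import Groth.Agent.VBCurvesLib.WeilDual

/-!
Subquotients of finite bundles and their tensor products.
-/

set_option linter.style.haveILetI false
set_option linter.unusedSectionVars false
set_option backward.isDefEq.respectTransparency false
set_option backward.isDefEq.respectTransparency.types false
set_option synthInstance.maxHeartbeats 100000
set_option maxHeartbeats 1000000

universe u

open CategoryTheory CategoryTheory.Limits AlgebraicGeometry TopologicalSpace Opposite

namespace Groth.Agent.VBCurvesLib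

open Groth.Agent.CurveBundle Groth.Agent.CurveSlope Groth.Agent.CurveStable Groth.Agent.CurveDuality

variable {X : Scheme.{u}}

/-- `(P ⊗ Q) ⊗ (A ⊗ B) ≅ (P ⊗ A) ⊗ (Q ⊗ B)`. -/
noncomputable def interchangeIso (P Q A B : X.Modules) :
    (DCoh.tensorBi.obj ((DCoh.tensorBi.obj P).obj Q)).obj ((DCoh.tensorBi.obj A).obj B) ≅
      (DCoh.tensorBi.obj ((DCoh.tensorBi.obj P).obj A)).obj ((DCoh.tensorBi.obj Q).obj B) :=
  ((CurveRR.tensorCompIso P Q).app ((DCoh.tensorBi.obj A).obj B)).symm ≪≫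
    (DCoh.tensorBi.obj P).mapIso ((CurveRR.tensorCompIso Q A).app B ≪≫
      (DCoh.tensorBi.mapIso (CurveTensor.commIso Q A)).app B ≪≫
      ((CurveRR.tensorCompIso A Q).app B).symm) ≪≫
    (CurveRR.tensorCompIso P A).app ((DCoh.tensorBi.obj Q).obj B)

/-- Powers of a tensor product. -/
theorem nonempty_tensorPow_tensor (A B : X.Modules) :
    ∀ n, Nonempty (CohB1.tensorPow ((DCoh.tensorBi.obj A).obj B) n ≅
      (DCoh.tensorBi.obj (CohB1.tensorPow A n)).obj (CohB1.tensorPow B n))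
  | 0 => ⟨(KFlatLib.tensorUnitIso (Coh.structureModule X)).symm⟩
  | n + 1 => by
    obtain ⟨e⟩ := nonempty_tensorPow_tensor A B n
    exact ⟨(DCoh.tensorBi.mapIso e).app ((DCoh.tensorBi.obj A).obj B) ≪≫
      interchangeIso (CohB1.tensorPow A n) (CohB1.tensorPow B n) A B⟩

variable (k : Type u) [Field k] [X.Over (Spec (CommRingCat.of k))] [IsIntegral X]
  [IsProper (X ↘ Spec (CommRingCat.of k))] [Smooth (X ↘ Spec (CommRingCat.of k))]

/-- The tensor product of finite bundles is finite. -/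
theorem weilFinite_tensor [IsAlgClosed k] (hdim : topologicalKrullDim X = 1) {A B : X.Modules}
    (hA : FlatMod.IsFinLocFree A) (hB : FlatMod.IsFinLocFree B) (P Q P' Q' : Polynomial ℕ)
    (hPQ : P ≠ Q) (e : polyObj A P ≅ polyObj A Q) (hPQ' : P' ≠ Q') (e' : polyObj B P' ≅ polyObj B Q') :
    ∃ P'' Q'' : Polynomial ℕ, P'' ≠ Q'' ∧ Nonempty
      (polyObj ((DCoh.tensorBi.obj A).obj B) P'' ≅ polyObj ((DCoh.tensorBi.obj A).obj B) Q'') := by
  haveI := isLocallyNoetherian' k (X := X)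
  obtain ⟨N, hN⟩ := span_of_weilFinite k hdim hA P Q hPQ e
  obtain ⟨N', hN'⟩ := span_of_weilFinite k hdim hB P' Q' hPQ' e'
  exact weilFinite_of_span k hdim (KFlatLib.isFinLocFree_tensor hA hB)
    (fun q : Fin N × Fin N' => (DCoh.tensorBi.obj (CohB1.tensorPow A q.1)).obj (CohB1.tensorPow B q.2))
    (fun q => KFlatLib.isFinLocFree_tensor (isFinLocFree_tensorPow k hA _) (isFinLocFree_tensorPow k hB _))
    fun n => (inSpan_tensor (hN n) (hN' n)).of_iso (nonempty_tensorPow_tensor A B n).some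

/-- Semistable of degree zero. -/
def SS0 (M : X.Modules) : Prop :=
  FlatMod.IsFinLocFree M ∧ dg k M = 0 ∧
    ∀ (G : X.Modules) (j : G ⟶ M), Mono j → FlatMod.IsFinLocFree G → dg k G ≤ 0

theorem ss0_of {M : X.Modules} {r : ℕ} (hM : FlatMod.IsFinLocFreeOfRank r M)
    (hd : Curv2.deg k X M r = 0) (hss : ModFun.IsSlopeSemistable k X M r) : SS0 k M := by
  rw [deg_eq_dg k hM] at hd
  refine ⟨isFinLocFree_of_rank hM, hd, fun G j hj hG => ?_⟩
  haveI := hj
  rcases isZero_or_pos k hG with hz | hz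
  · rw [dg_eq_zero_of_isZero k hz]
  · have hle := rk_le_of_mono k j (coh_of_free k (isFinLocFree_of_rank hM))
    rw [rk_eq hM] at hle
    have h := hss G (rk G) j hj hz (isFinLocFreeOfRank_rk hG)
    rw [deg_eq_dg k (isFinLocFreeOfRank_rk hG), deg_eq_dg k hM, hd, zero_mul] at h
    exact nonpos_of_mul_nonpos_left h (by exact_mod_cast (show 0 < r by omega))

theorem SS0.deg_eq {M : X.Modules} (h : SS0 k M) {r : ℕ} (hM : FlatMod.IsFinLocFreeOfRank r M) :
    Curv2.deg k X M r = 0 := by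
  rw [deg_eq_dg k hM]
  exact h.2.1

theorem SS0.slopeSemistable {M : X.Modules} (h : SS0 k M) {r : ℕ} (hM : FlatMod.IsFinLocFreeOfRank r M) :
    ModFun.IsSlopeSemistable k X M r := fun G r' i hi hr' hG => by
  rw [deg_eq_dg k hG, deg_eq_dg k hM, h.2.1, zero_mul]
  exact mul_nonpos_of_nonpos_of_nonneg (h.2.2 G i hi (isFinLocFree_of_rank hG)) (Int.natCast_nonneg r)

/-- A subsheaf of degree zero has semistable quotient, and is semistable. -/
theorem SS0.sub_quot (hdim : topologicalKrullDim X = 1) {S : ShortComplex X.Modules} (hS : S.ShortExact)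
    (h : SS0 k S.X₂) (h₁ : FlatMod.IsFinLocFree S.X₁) (hd : dg k S.X₁ = 0) (h₃ : Coh.IsCoh S.X₃) :
    SS0 k S.X₁ ∧ SS0 k S.X₃ := by
  haveI := isLocallyNoetherian' k (X := X)
  haveI := hS.mono_f
  have h₁c := coh_of_free k h₁
  have h₂c := coh_of_free k h.1
  have hS' : (ShortComplex.mk S.f S.g S.zero).ShortExact := hS
  refine ⟨⟨h₁, hd, fun G j hj hG => ?_⟩, ?_⟩
  · haveI := hj
    exact h.2.2 G (j ≫ S.f) inferInstance hG
  have h₃f := isFinLocFree_of_max k hdim.le S.f S.g S.zero hS' h₁c h.1 h₃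
    (fun G g hg hG _ => hd ▸ h.2.2 G g hg hG)
  have hadd := dg_add k S.f S.g S.zero hS' h₁c h₂c h₃
  refine ⟨h₃f, by rw [h.2.1, hd] at hadd; omega, fun H g hg hH => ?_⟩
  haveI := hg
  obtain ⟨P, i, hi, hP, -, hdP⟩ := exists_preimage k hdim.le S.f S.g S.zero hS' h₁c h.1 h₃ g
    (coh_of_free k hH)
  have := h.2.2 P i hi hP
  omega

/-- A finite bundle is semistable of degree zero. -/
theorem ss0_of_weilFinite (hdim : topologicalKrullDim X = 1) {E : X.Modules} (hE : FlatMod.IsFinLocFree E)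
    (P Q : Polynomial ℕ) (hPQ : P ≠ Q) (e : polyObj E P ≅ polyObj E Q) : SS0 k E := by
  rcases isZero_or_pos k hE with hz | hz
  · refine ⟨hE, dg_eq_zero_of_isZero k hz, fun G j hj _ => ?_⟩
    haveI := hj
    rw [dg_eq_zero_of_isZero k (IsZero.of_mono j hz)]
  · exact ⟨hE, semistable_of_weilFinite k hdim hE hz P Q hPQ e⟩

end Groth.Agent.VBCurvesLib
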