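import Groth.Agent.AModX.Res
import Groth.Agent.QCoh.Sections
import Groth.Agent.QCoh.Support
import Groth.Agent.QCoh.RpushProper
import Groth.Agent.VBCurvesLib.DetExt

/-!
The part of a module over an open, and its splitting along clopen partitions.
-/

set_option linter.style.haveILetI false
set_option linter.unusedSectionVars false
set_option backward.isDefEq.respectTransparency false
set_option backward.isDefEq.respectTransparency.types false
set_option synthInstance.maxHeartbeats 100000
set_option maxHeartbeats 1000000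

universe u

open CategoryTheory CategoryTheory.Limits AlgebraicGeometry TopologicalSpace Opposite

namespace Groth.Agent.VBCurvesLib.Clopen

open Groth.Agent.AModX

variable {X : Scheme.{u}}

/-- `M` on `U`, pushed forward to `X`. -/
noncomputable abbrev partF (U : X.Opens) : X.Modules ⥤ X.Modules :=
  Scheme.Modules.restrictFunctor U.ι ⋙ Scheme.Modules.pushforward U.ι

/-- The open over which sections of the part are taken. -/
noncomputable abbrev im (U W : X.Opens) : X.Opens := U.ι ''ᵁ (U.ι ⁻¹ᵁ W)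

theorem im_eq (U W : X.Opens) : im U W = U ⊓ W := by
  rw [im, Scheme.Hom.image_preimage_eq_opensRange_inf, Scheme.Opens.opensRange_ι]

/-- The restriction to the part. -/
noncomputable abbrev unit (U : X.Opens) (M : X.Modules) : M ⟶ (partF U).obj M :=
  (Scheme.Modules.restrictAdjunction U.ι).unit.app M

theorem bijective_res {M : X.Modules} {V W : X.Opens} (h : W ≤ V) (h' : V ≤ W) :
    Function.Bijective (res M h) := by
  obtain rfl : W = V := le_antisymm h h'
  exact ⟨fun a b e => by rwa [res_self, res_self] at e, fun a => ⟨a, res_self a⟩⟩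

theorem isIso_of_app {M N : X.Modules} (φ : M ⟶ N) (h : ∀ W, Function.Bijective (φ.app W)) : IsIso φ :=
  QCoh.isIso_of_isBasis φ (B := Set.univ)
    (Opens.isBasis_iff_nbhd.2 fun {U x} hx => ⟨U, Set.mem_univ _, hx, le_rfl⟩) fun W _ => h W

/-- Sections of the unit. -/
theorem unit_app (U : X.Opens) (M : X.Modules) (W : X.Opens) (x : Γ(M, W)) :
    (unit U M).app W x = res M (U.ι.image_preimage_le W) x := rfl

theorem map_app {U : X.Opens} {A B : X.Modules} (f : A ⟶ B) (W : X.Opens) :
    ⇑((partF U).map f |>.app W) = ⇑(f.app (im U W)) := rfl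

theorem bijective_unit_app {C V : X.Opens} (M : X.Modules) (W : X.Opens)
    (h : im V W ≤ im V (im C W)) :
    Function.Bijective ((unit C ((partF V).obj M)).app W) :=
  bijective_res (M := M) (W := im V (im C W)) (V := im V W)
    (by intro p; simp only [im_eq, Opens.mem_inf]; tauto) h

/-- Parts of parts. -/
theorem nonempty_part_part (U C V : X.Opens) (hU : U = C ⊓ V) (M : X.Modules) :
    Nonempty ((partF C).obj ((partF V).obj M) ≅ (partF U).obj M) := by
  have h1 : IsIso (unit U ((partF C).obj ((partF V).obj M))) := isIso_of_app _ fun W =>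
    bijective_res (M := M) (W := im V (im C (im U W))) (V := im V (im C W))
      (by intro p; simp only [im_eq, hU, Opens.mem_inf]; tauto)
      (by intro p; simp only [im_eq, hU, Opens.mem_inf]; tauto)
  have h2 : IsIso ((partF U).map (unit V M)) := isIso_of_app _ fun W =>
    bijective_res (M := M) (W := im V (im U W)) (V := im U W) (V.ι.image_preimage_le _)
      (by intro p; simp only [im_eq, hU, Opens.mem_inf]; tauto)
  have h3 : IsIso ((partF U).map (unit C ((partF V).obj M))) := isIso_of_app _ fun W => by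
    rw [map_app]
    exact bijective_unit_app M (im U W)
      (by intro p; simp only [im_eq, hU, Opens.mem_inf]; tauto)
  exact ⟨(@asIso _ _ _ _ _ h1) ≪≫ (@asIso _ _ _ _ _ h3).symm ≪≫ (@asIso _ _ _ _ _ h2).symm⟩

/-- Gluing along a partition into two opens. -/
theorem exists_glue_two {C₁ C₂ : X.Opens} (hd : C₁ ⊓ C₂ = ⊥) (hc : C₁ ⊔ C₂ = ⊤) (N : X.Modules)
    (W : X.Opens) (a : Γ(N, im C₁ W)) (b : Γ(N, im C₂ W)) :
    ∃ s : Γ(N, W), res N (C₁.ι.image_preimage_le W) s = a ∧ res N (C₂.ι.image_preimage_le W) s = b := by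
  let fam : ∀ i : ULift.{u} Bool, X.Opens := fun i => bif i.down then im C₁ W else im C₂ W
  let sf : ∀ i : ULift.{u} Bool, Γ(N, fam i) := fun i => match i with
    | ⟨true⟩ => a
    | ⟨false⟩ => b
  have hle : ∀ i, fam i ≤ W := fun i => by
    rcases i with ⟨_ | _⟩ <;> exact Scheme.Hom.image_preimage_le _ _
  obtain ⟨s, hs, -⟩ := existsUnique_glue (M := N) fam hle (fun p hp => by
    rcases (show p ∈ C₁ ∨ p ∈ C₂ by rw [← Opens.mem_sup, hc]; trivial) with h | h
    · exact ⟨⟨true⟩, by show p ∈ im C₁ W; rw [im_eq]; exact ⟨h, hp⟩⟩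
    · exact ⟨⟨false⟩, by show p ∈ im C₂ W; rw [im_eq]; exact ⟨h, hp⟩⟩) sf fun i j => by
    have hbot : ∀ p, p ∈ im C₁ W → p ∈ im C₂ W → False := fun p h1 h2 => by
      rw [im_eq] at h1 h2
      have : p ∈ (⊥ : X.Opens) := hd ▸ ⟨h1.1, h2.1⟩
      exact this
    rcases i with ⟨_ | _⟩ <;> rcases j with ⟨_ | _⟩
    · rfl
    · exact eq_of_locally _ _ fun p hp => (hbot p hp.2 hp.1).elim
    · exact eq_of_locally _ _ fun p hp => (hbot p hp.1 hp.2).elim
    · rfl
  exact ⟨s, hs ⟨true⟩, hs ⟨false⟩⟩

/-- A partition splits a module. -/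
theorem exists_shortExact_partition {C₁ C₂ : X.Opens} (hd : C₁ ⊓ C₂ = ⊥) (hc : C₁ ⊔ C₂ = ⊤)
    (N : X.Modules) :
    ∃ (f : (partF C₂).obj N ⟶ N) (w : f ≫ unit C₁ N = 0),
      (ShortComplex.mk f (unit C₁ N) w).ShortExact := by
  let g := unit C₁ N
  have hk : IsIso (kernel.ι g ≫ unit C₂ N) := isIso_of_app _ fun W => by
    refine ⟨(injective_iff_map_eq_zero ((kernel.ι g ≫ unit C₂ N).app W).hom).2 fun z hz => ?_, fun b => ?_⟩
    · refine QCoh.app_injective (kernel.ι g) W ?_
      rw [map_zero]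
      have h1 : res N (C₁.ι.image_preimage_le W) ((kernel.ι g).app W z) = 0 :=
        congrArg (fun t => t.app W z) (kernel.condition g)
      have h2 : res N (C₂.ι.image_preimage_le W) ((kernel.ι g).app W z) = 0 := hz
      refine eq_of_locally _ _ fun p hp => ?_
      rcases (show p ∈ C₁ ∨ p ∈ C₂ by rw [← Opens.mem_sup, hc]; trivial) with h | h
      · exact ⟨im C₁ W, _, by rw [im_eq]; exact ⟨h, hp⟩, h1.trans (map_zero _).symm⟩
      · exact ⟨im C₂ W, _, by rw [im_eq]; exact ⟨h, hp⟩, h2.trans (map_zero _).symm⟩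
    · obtain ⟨s, hs1, hs2⟩ := exists_glue_two hd hc N W 0 b
      obtain ⟨z, hz⟩ := VBCurvesLib.exists_app_eq
        (S := ShortComplex.mk (kernel.ι g) g (kernel.condition g)) (ShortComplex.exact_kernel g) s hs1
      exact ⟨z, (congrArg ((unit C₂ N).app W) hz).trans hs2⟩
  haveI : Epi g := by
    refine ⟨fun {Z} a b e => Scheme.Modules.hom_ext _ _ fun W => ?_⟩
    ext t
    obtain ⟨s, hs, -⟩ := exists_glue_two hd hc N W t 0
    have := congrArg (fun φ => φ.app W s) e
    show a.app W t = b.app W t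
    exact hs ▸ this
  let e := @asIso _ _ _ _ _ hk
  refine ⟨e.inv ≫ kernel.ι g, by rw [Category.assoc, kernel.condition, comp_zero], ?_⟩
  exact ShortComplex.shortExact_of_iso (S₁ := ShortComplex.mk (kernel.ι g) g (kernel.condition g))
    (ShortComplex.isoMk e (Iso.refl _) (Iso.refl _) (by simp) (by simp [g]))
    { exact := ShortComplex.exact_kernel g }

/-- A clopen piece splits the part over a larger open. -/
theorem exists_shortExact_parts {V U₁ : X.Opens} (hle : U₁ ≤ V) (h₁ : IsClopen (U₁ : Set X))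
    (M : X.Modules) {U₂ : X.Opens} (h₂ : (U₂ : Set X) = (V : Set X) \ U₁) :
    ∃ S : ShortComplex X.Modules, S.ShortExact ∧ Nonempty (S.X₁ ≅ (partF U₂).obj M) ∧
      Nonempty (S.X₂ ≅ (partF V).obj M) ∧ Nonempty (S.X₃ ≅ (partF U₁).obj M) := by
  let C : X.Opens := ⟨(U₁ : Set X)ᶜ, h₁.1.isOpen_compl⟩
  have hd : U₁ ⊓ C = ⊥ := Opens.ext (by simp [C])
  have hc : U₁ ⊔ C = ⊤ := Opens.ext (by simp [C])
  obtain ⟨f, w, hS⟩ := exists_shortExact_partition hd hc ((partF V).obj M)
  have hU₂ : U₂ = C ⊓ V := Opens.ext (by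
    rw [h₂, Opens.coe_inf]
    exact (Set.inter_comm _ _).trans rfl)
  exact ⟨_, hS, nonempty_part_part U₂ C V hU₂ M, ⟨Iso.refl _⟩,
    nonempty_part_part U₁ U₁ V (inf_eq_left.2 hle).symm M⟩

/-- The part over the whole space. -/
theorem nonempty_part_top (M : X.Modules) : Nonempty ((partF ⊤).obj M ≅ M) := by
  have : IsIso (unit ⊤ M) := isIso_of_app _ fun W =>
    bijective_res (M := M) (W := im ⊤ W) (V := W) (Scheme.Hom.image_preimage_le _ _)
      (by rw [im_eq, top_inf_eq])
  exact ⟨(asIso (unit ⊤ M)).symm⟩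

theorem isZero_part_bot (M : X.Modules) : IsZero ((partF ⊥).obj M) := by
  refine (IsZero.iff_id_eq_zero _).2 (Scheme.Modules.hom_ext _ _ fun W => ?_)
  ext t
  exact eq_of_locally (M := M) (V := im ⊥ W) _ _ fun p hp => by
    rw [im_eq, bot_inf_eq] at hp
    exact hp.elim

theorem mono_part_map (U : X.Opens) {A B : X.Modules} (f : A ⟶ B) [Mono f] : Mono ((partF U).map f) :=
  QCoh.mono_of_app_injective _ fun W => QCoh.app_injective f (im U W)

theorem isCoh_part [IsNoetherian X] (U : X.Opens) (hU : IsClopen (U : Set X)) {M : X.Modules}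
    (hM : Coh.IsCoh M) : Coh.IsCoh ((partF U).obj M) := by
  haveI : IsClosedImmersion U.ι :=
    IsClosedImmersion.of_isPreimmersion U.ι (by rw [Scheme.Opens.range_ι]; exact hU.1)
  exact QCoh.isCoh_pushforward_finite U.ι (QCoh.isCoh_restrict_open hM)

end Groth.Agent.VBCurvesLib.Clopen
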