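import Groth.Agent.VBCurvesLib.Basic

/-!
The number of sections of subsheaves of a bundle with bounded slopes.
-/

set_option linter.style.haveILetI false
set_option linter.unusedSectionVars false
set_option backward.isDefEq.respectTransparency false
set_option backward.isDefEq.respectTransparency.types false
set_option synthInstance.maxHeartbeats 100000
set_option maxHeartbeats 1000000

universe u

open CategoryTheory CategoryTheory.Limits AlgebraicGeometry TopologicalSpace Opposite
open Groth.Agent.PnCoh.Finite (mapLin)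

namespace Groth.Agent.VBCurvesLib

open Groth.Agent.CurveBundle Groth.Agent.CurveSlope Groth.Agent.CurveStable Groth.Agent.CurveDuality

variable {X : Scheme.{u}} (k : Type u) [Field k] [X.Over (Spec (CommRingCat.of k))] [IsIntegral X]
  [IsProper (X ↘ Spec (CommRingCat.of k))] [Smooth (X ↘ Spec (CommRingCat.of k))]

theorem finrank_h0_le_of_mono {E F : X.Modules} (i : F ⟶ E) [Mono i] (hE : Coh.IsCoh E) :
    Module.finrank k (Coh.HH X F 0) ≤ Module.finrank k (Coh.HH X E 0) := by
  haveI := S0002.result k X E hE 0
  have h : (Module.finrank k (Coh.HH X F 0) : ℤ) ≤ Module.finrank k (Coh.HH X E 0) := by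
    exact_mod_cast LinearMap.finrank_le_finrank_of_injective
      (LinearMap.ker_eq_bot.mp (Euler.ker_mapLin_f_zero (k := k) (shortExact_cokernel_of_mono i)))
  exact_mod_cast h

/-- If all subsheaves of `V` have slope at most `d / r` and `d / r ≥ 2 g - 1`, every subsheaf of rank
`s` has at most `s (d / r + 1 - g)` sections. -/
theorem finrank_h0_le_of_bound (hO : Module.finrank k (Coh.HH X (Coh.structureModule X) 0) = 1)
    (hdim : topologicalKrullDim X = 1) {V : X.Modules} (hV : FlatMod.IsFinLocFree V) (d : ℤ) (r : ℕ)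
    (hd : (r : ℤ) * (2 * (Curv2.genus k X : ℤ) - 1) ≤ d)
    (hbd : ∀ (G : X.Modules) (j : G ⟶ V), Mono j → FlatMod.IsFinLocFree G →
      dg k G * (r : ℤ) ≤ d * (rk G : ℤ)) :
    ∀ (G : X.Modules) (j : G ⟶ V), Mono j → FlatMod.IsFinLocFree G →
      (Module.finrank k (Coh.HH X G 0) : ℤ) * (r : ℤ) ≤
        (rk G : ℤ) * (d + (r : ℤ) * (1 - (Curv2.genus k X : ℤ))) := by
  haveI := CurveCohLib.isNoetherian_of_proper (k := k) (X := X)
  suffices h : ∀ (s : ℕ) (G : X.Modules) (j : G ⟶ V), Mono j → FlatMod.IsFinLocFree G → rk G = s →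
      (Module.finrank k (Coh.HH X G 0) : ℤ) * (r : ℤ) ≤
        (s : ℤ) * (d + (r : ℤ) * (1 - (Curv2.genus k X : ℤ))) from
    fun G j hj hG => h _ G j hj hG rfl
  intro s
  induction s with
  | zero =>
    intro G j _ hG hr
    rw [CurveCohLib.finrank_HH_zero_eq_zero_of_isZero (k := k) (isZero_of_rk_zero hG hr)]
    simp
  | succ s ih =>
    intro G j hj hG hr
    haveI := hj
    have hGc := coh_of_free k hG
    by_cases h1 : Subsingleton (Coh.HH X G 1)
    · have hb := hbd G j hj hG
      have hχ := euler_eq k hdim hGc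
      rw [Module.finrank_zero_of_subsingleton (R := k) (M := Coh.HH X G 1)] at hχ
      unfold dg at hb
      rw [euler_structure k hO hdim, hr] at hb
      push_cast at hb hχ ⊢
      linear_combination hb - (r : ℤ) * hχ
    obtain ⟨ω, μ, hω⟩ := exists_isDualizing k (X := X) hdim
    obtain ⟨φ, hφ⟩ : ∃ φ : G ⟶ ω, φ ≠ 0 := by
      by_contra hc
      push Not at hc
      exact h1 ((subsingleton_HH_one_iff k hω hdim hG).2 hc)
    have hω1 := InvEnd.isFinLocFreeOfRank_one hω.inv
    have hωf := isFinLocFree_of_rank hω1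
    obtain ⟨I, π, i, hi, hπ, hfac, hK, hI, hrk, -, hpos, hle⟩ := exists_decomp k hdim.le hG hωf φ
    haveI := hi
    haveI := hπ
    rw [rk_eq hω1] at hle
    have hIr : rk I = 1 := by have := hpos hφ; omega
    have hw : kernel.ι φ ≫ π = 0 := by
      rw [← cancel_mono i, Category.assoc, hfac, kernel.condition, zero_comp]
    have hS : (ShortComplex.mk (kernel.ι φ) π hw).ShortExact :=
      { exact := ShortComplex.exact_of_f_is_kernel _ (KernelFork.IsLimit.ofι _ _
          (fun g hg => kernel.lift φ g (by rw [← hfac, ← Category.assoc, hg, zero_comp]))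
          (fun g hg => kernel.lift_ι _ _ _)
          (fun g hg m hm => by rw [← cancel_mono (kernel.ι φ), kernel.lift_ι]; exact hm)) }
    have hsum := finrank_h0_mid_le k hS hGc (coh_of_free k hI)
    dsimp only at hsum
    have hI0 := finrank_h0_le_of_mono k i (coh_of_free k hωf)
    rw [(canonical_invariants k hO hω hdim).1] at hI0
    have hK0 := ih (kernel φ) (kernel.ι φ ≫ j) inferInstance hK (by omega)
    have hle' : (Module.finrank k (Coh.HH X G 0) : ℤ) ≤
        Module.finrank k (Coh.HH X (kernel φ) 0) + Curv2.genus k X := by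
      exact_mod_cast hsum.trans (by omega)
    push_cast
    linear_combination hK0 + hd + mul_le_mul_of_nonneg_right hle' (Int.natCast_nonneg r)

end Groth.Agent.VBCurvesLib
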